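import Cfsg.Agent.Lib.CyclicDefect.Principal
import Cfsg.Agent.Lib.Blocks.Knorr
import Cfsg.Agent.Lib.Blocks.ClassCount
import Cfsg.Agent.Lib.Order7920.PrimeSection

/-!
# The principal block of a Sylow subgroup of prime order, in the form used by the searches

`X` are the ordinary characters (the principal one among them, with signs), `Y` the exceptional
family. All the values on the `p`-section of an element of the Sylow subgroup, the relation on the
`p`-regular elements and the projection of the other characters are recorded.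
-/

set_option autoImplicit false
set_option linter.style.haveILetI false
set_option linter.unusedSectionVars false

noncomputable section

namespace CfsgLib.MathieuTwentyTwo.ByOrder

open Cfsg CfsgLib.Characters CfsgLib.CharCorr
open scoped ComplexConjugate Classical

universe u

variable {G : Type u} [Group G] [Fintype G] {p : ℕ} [hp : Fact p.Prime]

/-- The elements of order prime to `p` centralising the Sylow subgroup. -/
def regPart (P : Sylow p G) : Finset G :=
  Finset.univ.filter fun y => y ∈ Subgroup.centralizer ((P : Subgroup G) : Set G) ∧ ¬ p ∣ orderOf y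

theorem mem_regPart {P : Sylow p G} {y : G} :
    y ∈ regPart P ↔ y ∈ Subgroup.centralizer ((P : Subgroup G) : Set G) ∧ ¬ p ∣ orderOf y := by
  simp [regPart]

/-- The principal block of a Sylow subgroup of order `p` with automiser of order `e`. -/
structure Blk (P : Sylow p G) (e : ℕ) where
  /-- the ordinary characters -/
  X : Finset (IrrCharacter G)
  /-- the exceptional characters -/
  Y : Finset (IrrCharacter G)
  /-- the signs -/
  sgn : IrrCharacter G → ℤ
  /-- the sign of the exceptional family -/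
  ε : ℤ
  disj : Disjoint X Y
  one_mem : principalIrr G ∈ X
  card_X : X.card = e
  card_Y : e * Y.card = p - 1
  ε_spec : ε = 1 ∨ ε = -1
  sgn_spec : ∀ χ ∈ X, sgn χ = 1 ∨ sgn χ = -1
  sgn_one : sgn (principalIrr G) = 1
  degX : ∀ χ ∈ X, (p : ℤ) ∣ (charDegree (χ : G → ℂ) : ℤ) - sgn χ
  degY : ∀ χ ∈ Y, (p : ℤ) ∣ (charDegree (χ : G → ℂ) : ℤ) - ε * e
  valX : ∀ χ ∈ X, ∀ x ∈ (P : Subgroup G), x ≠ 1 → ∀ y ∈ regPart P,
    (χ : G → ℂ) (x * y) = (sgn χ : ℂ)
  valY : ∀ χ ∈ Y, ∀ x ∈ (P : Subgroup G), x ≠ 1 → ∀ y ∈ regPart P,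
    (χ : G → ℂ) (x * y) = (χ : G → ℂ) x
  regY : ∀ χ ∈ Y, ∀ ψ ∈ Y, ∀ g : G, ¬ p ∣ orderOf g → (χ : G → ℂ) g = (ψ : G → ℂ) g
  rel : ∀ ψ ∈ Y, ∀ g : G, ¬ p ∣ orderOf g →
    (ε : ℂ) * (ψ : G → ℂ) g = ∑ χ ∈ X, (sgn χ : ℂ) * (χ : G → ℂ) g
  sum_other : ∀ χ, χ ∉ X → χ ∉ Y → ∀ x ∈ (P : Subgroup G), x ≠ 1 →
    ∑ y ∈ regPart P, (χ : G → ℂ) (x * y) = 0
  dvd_other : (regPart P).card = 1 → ∀ χ, χ ∉ X → χ ∉ Y → p ∣ charDegree (χ : G → ℂ)

theorem exists_mem_ne_one (P : Sylow p G) (hP : Nat.card (P : Subgroup G) = p) :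
    ∃ x ∈ (P : Subgroup G), x ≠ 1 := by
  obtain ⟨⟨x, hx⟩, hox⟩ := exists_prime_orderOf_dvd_card' (G := (P : Subgroup G)) p (by rw [hP])
  refine ⟨x, hx, fun h => ?_⟩
  rw [Subgroup.orderOf_mk, h, orderOf_one] at hox
  exact hp.out.one_lt.ne hox

theorem one_mem_regPart (P : Sylow p G) : (1 : G) ∈ regPart P :=
  mem_regPart.2 ⟨one_mem _, by rw [orderOf_one]; exact hp.out.not_dvd_one⟩

/-- The order of the centraliser of the Sylow subgroup. -/
theorem card_centralizer (P : Sylow p G) (hP : Nat.card (P : Subgroup G) = p) :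
    Nat.card (Subgroup.centralizer ((P : Subgroup G) : Set G)) = p * (regPart P).card := by
  obtain ⟨L, rfl⟩ := CyclicDefect.exists_loc P hP
  rw [show Subgroup.centralizer ((L.P : Subgroup G) : Set G) = L.C from rfl, L.card_C]
  congr 1
  rw [Nat.card_eq_fintype_card, ← Fintype.card_coe]
  exact Fintype.card_congr (Equiv.subtypeEquivRight fun y => by rw [L.mem_O, mem_regPart])

set_option maxHeartbeats 1000000 in
/-- The principal block exists. -/
theorem exists_blk [IsSimpleGroup G] (hnc : ¬ IsMulCommutative G) (hodd : p ≠ 2) (P : Sylow p G)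
    (hP : Nat.card (P : Subgroup G) = p) {e : ℕ}
    (he : (Subgroup.centralizer ((P : Subgroup G) : Set G)).relIndex
      (Subgroup.normalizer ((P : Subgroup G) : Set G)) = e) : Nonempty (Blk P e) := by
  obtain ⟨M, hM⟩ := Blocks.exists_isPModular (p := p)
  obtain ⟨L, rfl⟩ := CyclicDefect.exists_loc P hP
  letI := Fintype.ofFinite L.C
  letI := Fintype.ofFinite L.O
  letI := Fintype.ofFinite L.Dual
  obtain ⟨X, Y, εY, hmem, hdisj, hXc, hYc, hεY, hX, hY, hreg, hrel⟩ :=
    L.exists_decomposition hM hodd (principalIrr L.O)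
  have hee : L.eIdx (principalIrr L.O) = e := L.eIdx_principal.trans he
  have het : e * Y.card = p - 1 := by rw [hYc, ← hee]; exact L.eIdx_mul_card _
  have horb : Finset.univ.filter (fun φ => φ ∈ L.orbit (principalIrr L.O)) =
      {principalIrr L.O} := by
    refine Finset.ext fun φ => ?_
    rw [Finset.mem_filter, Finset.mem_singleton, L.mem_orbit_iff]
    exact ⟨fun ⟨_, n, hn⟩ => hn.trans (L.conjIrr_principal n),
      fun h => ⟨Finset.mem_univ _, 1, h.trans (L.conjIrr_principal 1).symm⟩⟩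
  -- values on the section
  have hconst : ∀ χ, (χ ∈ X ∨ χ ∈ Y) → ∀ x ∈ (L.P : Subgroup G), x ≠ 1 → ∀ y ∈ regPart L.P,
      (χ : G → ℂ) (x * y) = (χ : G → ℂ) x := by
    intro χ hχ x hx hx1 y hy
    rw [← L.zpowers] at hx
    obtain ⟨j, hj⟩ := mem_powers_iff_mem_zpowers.2 hx
    have hj : L.x ^ j = x := hj
    have hjx : L.x ^ (j % p) = x := by
      rw [← hj]
      conv_rhs => rw [← Nat.div_add_mod j p, pow_add, pow_mul, L.x_pow_p, one_pow, one_mul]
    have hj0 : 0 < j % p := Nat.pos_of_ne_zero fun h => hx1 (by rw [← hjx, h, pow_zero])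
    have hjp := Nat.mod_lt j hp.out.pos
    have h1 := L.value_orbit hM ((hmem χ).2 hχ) hj0 hjp ⟨y, L.mem_O.2 (mem_regPart.1 hy)⟩
    have h2 := L.value_orbit hM ((hmem χ).2 hχ) hj0 hjp 1
    rw [horb, Finset.sum_singleton, hjx] at h1 h2
    rw [h1]
    rw [OneMemClass.coe_one, mul_one] at h2
    rw [h2]
    rfl
  have hvalX : ∀ χ ∈ X, ∀ x ∈ (L.P : Subgroup G), x ≠ 1 → ∀ y ∈ regPart L.P,
      (χ : G → ℂ) (x * y) = (L.eV χ (principalIrr L.O) : ℂ) := fun χ hχ x hx hx1 y hy =>
    L.value_principal hM ((hmem χ).2 (Or.inl hχ)) (hX χ hχ).2.1 hx hx1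
      (mem_regPart.1 hy).1 (mem_regPart.1 hy).2
  have hother : ∀ χ, χ ∉ X → χ ∉ Y → ∀ x ∈ (L.P : Subgroup G), x ≠ 1 →
      ∑ y ∈ regPart L.P, (χ : G → ℂ) (x * y) = 0 := by
    intro χ hχX hχY x hx hx1
    have hnot : χ ∉ L.indB hM (principalIrr L.O) := fun h => ((hmem χ).1 h).elim hχX hχY
    rw [← L.zpowers] at hx
    obtain ⟨j, hj⟩ := mem_powers_iff_mem_zpowers.2 hx
    have hj : L.x ^ j = x := hj
    have hjx : L.x ^ (j % p) = x := by
      rw [← hj]
      conv_rhs => rw [← Nat.div_add_mod j p, pow_add, pow_mul, L.x_pow_p, one_pow, one_mul]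
    have hj0 : 0 < j % p := Nat.pos_of_ne_zero fun h => hx1 (by rw [← hjx, h, pow_zero])
    have h := L.proj (irr_isClassFunction χ) (j % p) (principalIrr L.O)
    simp only [fun lam : L.Dual => L.coef_const hM hnot lam 1] at h
    rw [← Finset.mul_sum, L.sum_dual_pow_eq_zero hj0 (Nat.mod_lt j hp.out.pos), mul_zero,
      mul_zero] at h
    rw [← h, hjx]
    refine Finset.sum_bij (fun y hy => (⟨y, L.mem_O.2 (mem_regPart.1 hy)⟩ : L.O))
      (fun _ _ => Finset.mem_univ _) (fun _ _ _ _ e => congrArg Subtype.val e)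
      (fun y _ => ⟨y, mem_regPart.2 (L.mem_O.1 y.2), rfl⟩) fun y _ => ?_
    simp [principalIrr]
  have hdvd : (regPart L.P).card = 1 → ∀ χ, χ ∉ X → χ ∉ Y →
      p ∣ charDegree (χ : G → ℂ) := by
    intro hc χ hχX hχY
    have hnot : χ ∉ L.indB hM (principalIrr L.O) := fun h => ((hmem χ).1 h).elim hχX hχY
    have h := L.proj (irr_isClassFunction χ) 0 (principalIrr L.O)
    obtain ⟨z, hz⟩ := L.exists_mult χ 1 (principalIrr L.O)
    simp only [fun lam : L.Dual => L.coef_const hM hnot lam 1, hz, pow_zero, mul_one, one_mul] at h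
    rw [Finset.sum_const, Finset.card_univ, ← Nat.card_eq_fintype_card (α := L.Dual), L.card_dual,
      nsmul_eq_mul] at h
    obtain ⟨a, ha⟩ := Finset.card_eq_one.1 hc
    have huniq : ∀ y : L.O, y = 1 := fun y => by
      have h1 := ha ▸ mem_regPart.2 (L.mem_O.1 y.2)
      have h2 := ha ▸ one_mem_regPart L.P
      rw [Finset.mem_singleton] at h1 h2
      exact Subtype.ext (h1.trans h2.symm)
    haveI : Subsingleton L.O := ⟨fun a b => (huniq a).trans (huniq b).symm⟩
    rw [Fintype.sum_subsingleton _ (1 : L.O), Nat.card_of_subsingleton (1 : L.O)] at h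
    have hp1 : (principalIrr L.O : L.O → ℂ) 1 = 1 := rfl
    simp only [hp1, map_one, one_mul, OneMemClass.coe_one, Nat.cast_one,
      irr_one_eq_charDegree] at h
    have h' : ((charDegree (χ : G → ℂ) : ℤ) : ℂ) = (((p : ℤ) * z : ℤ) : ℂ) := by
      push_cast
      exact h
    exact Int.natCast_dvd_natCast.1 ⟨z, Int.cast_inj.1 h'⟩
  have hdegX : ∀ χ ∈ X, (p : ℤ) ∣ (charDegree (χ : G → ℂ) : ℤ) - L.eV χ (principalIrr L.O) := by
    intro χ hχ
    obtain ⟨-, -, K, hK⟩ := hX χ hχ
    rw [L.wOrb_principal, L.charDegree_principal, mul_one, Nat.cast_one, mul_one] at hK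
    exact ⟨K, by rw [hK]; ring⟩
  have hdegY : ∀ χ ∈ Y, (p : ℤ) ∣ (charDegree (χ : G → ℂ) : ℤ) - εY * e := by
    intro χ hχ
    obtain ⟨K, hK⟩ := hY χ hχ
    rw [L.wOrb_principal, L.charDegree_principal, mul_one, mul_one, hee] at hK
    exact ⟨K, by rw [hK]; ring⟩
  have hpr : principalIrr G ∈ X ∨ principalIrr G ∈ Y := by
    rw [← hmem, L.indB_principal hM]
    exact Blocks.principalIrr_mem hM
  obtain ⟨x₀, hx₀, hx₀1⟩ := exists_mem_ne_one L.P L.hP
  rcases hpr with hpr | hpr
  · refine ⟨⟨X, Y, fun χ => L.eV χ (principalIrr L.O), εY, hdisj, hpr, hXc.trans hee, het,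
      hεY, fun χ hχ => (hX χ hχ).1, ?_, hdegX, hdegY, hvalX, fun χ hχ => hconst χ (Or.inr hχ),
      hreg, hrel, hother, hdvd⟩⟩
    have h := hvalX _ hpr x₀ hx₀ hx₀1 1 (one_mem_regPart L.P)
    simp only [principalIrr] at h
    exact_mod_cast h.symm
  · -- a single exceptional character, exchanged with an ordinary one
    have hY1 : Y.card = 1 := by
      refine le_antisymm (Finset.card_le_one.2 fun a ha b hb => ?_)
        (Finset.card_pos.2 ⟨_, hpr⟩)
      have hlin : ∀ χ ∈ Y, χ = principalIrr G := fun χ hχ => by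
        refine Order7920.eq_principal_of_charDegree_one hnc ?_
        have h := hreg χ hχ _ hpr 1 (by rw [orderOf_one]; exact hp.out.not_dvd_one)
        rw [irr_one_eq_charDegree] at h
        simp only [principalIrr] at h
        exact_mod_cast h
      rw [hlin a ha, hlin b hb]
    have hep : e = p - 1 := by rw [← het, hY1, mul_one]
    have hε : εY = -1 := by
      have h := hdegY _ hpr
      rw [show charDegree ((principalIrr G : IrrCharacter G) : G → ℂ) = 1 by
        simp [charDegree, principalIrr], hep, Nat.cast_sub hp.out.one_le] at h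
      rcases hεY with h' | h'
      · exfalso
        rw [h'] at h
        obtain ⟨K, hK⟩ := h
        push_cast at hK
        have h2 : (p : ℤ) ∣ 2 := ⟨K + 1, by linarith⟩
        have h3 : p ∣ 2 := by exact_mod_cast h2
        exact hodd ((Nat.prime_dvd_prime_iff_eq hp.out Nat.prime_two).1 h3)
      · exact h'
    obtain ⟨a, ha⟩ : X.Nonempty := Finset.card_pos.1 (by
      rw [hXc, hee, hep]; have := hp.out.two_le; omega)
    set π : IrrCharacter G := principalIrr G with hπ
    have hπX : π ∉ X := fun h => Finset.disjoint_left.1 hdisj h hpr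
    have hYeq : Y = {π} := Finset.eq_singleton_iff_unique_mem.2
      ⟨hpr, fun b hb => Finset.card_le_one.1 hY1.le b hb π hpr⟩
    have haπ : a ≠ π := fun h => hπX (h ▸ ha)
    let sgn : IrrCharacter G → ℤ := fun χ => if χ = π then 1 else L.eV χ (principalIrr L.O)
    have hsgnX : ∀ χ ∈ X.erase a, sgn χ = L.eV χ (principalIrr L.O) := fun χ hχ => by
      refine if_neg fun h => hπX ?_
      rw [← h]
      exact (Finset.mem_erase.1 hχ).2
    have hsπ : sgn π = 1 := if_pos rfl
    refine ⟨⟨insert π (X.erase a), {a}, sgn, -L.eV a (principalIrr L.O), ?_,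
      Finset.mem_insert_self _ _, ?_, ?_, ?_, ?_, hsπ, ?_, ?_, ?_, ?_, ?_, ?_, ?_, ?_⟩⟩
    · rw [Finset.disjoint_singleton_right, Finset.mem_insert]
      rintro (h | h)
      · exact haπ h
      · exact (Finset.mem_erase.1 h).1 rfl
    · rw [Finset.card_insert_of_notMem fun h => hπX (Finset.mem_erase.1 h).2,
        Finset.card_erase_of_mem ha, hXc, hee]
      have := hp.out.two_le
      omega
    · rw [Finset.card_singleton, mul_one, hep]
    · rcases (hX a ha).1 with h | h <;> rw [h] <;> norm_num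
    · intro χ hχ
      rcases Finset.mem_insert.1 hχ with rfl | h
      · exact Or.inl hsπ
      · rw [hsgnX χ h]; exact (hX χ (Finset.mem_erase.1 h).2).1
    · intro χ hχ
      rcases Finset.mem_insert.1 hχ with rfl | h
      · rw [hsπ, show charDegree (π : G → ℂ) = 1 by simp [hπ, charDegree, principalIrr]]
        simp
      · rw [hsgnX χ h]; exact hdegX χ (Finset.mem_erase.1 h).2
    · intro χ hχ
      rw [Finset.mem_singleton] at hχ
      subst hχ
      obtain ⟨K, hK⟩ := hdegX _ ha
      refine ⟨K + L.eV χ (principalIrr L.O), ?_⟩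
      rw [hep, Nat.cast_sub hp.out.one_le]
      push_cast
      linear_combination hK
    · intro χ hχ x hx hx1 y hy
      rcases Finset.mem_insert.1 hχ with rfl | h
      · rw [hsπ]; simp [hπ, principalIrr]
      · rw [hsgnX χ h]; exact hvalX χ (Finset.mem_erase.1 h).2 x hx hx1 y hy
    · intro χ hχ x hx hx1 y hy
      rw [Finset.mem_singleton] at hχ
      subst hχ
      exact hconst χ (Or.inl ha) x hx hx1 y hy
    · intro χ hχ ψ hψ g _
      rw [Finset.mem_singleton] at hχ hψ
      rw [hχ, hψ]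
    · intro ψ hψ g hg
      rw [Finset.mem_singleton] at hψ
      subst hψ
      have h := hrel π hpr g hg
      rw [← Finset.add_sum_erase _ _ ha, hε] at h
      rw [Finset.sum_insert fun h => hπX (Finset.mem_erase.1 h).2, hsπ,
        Finset.sum_congr rfl fun χ hχ => by rw [hsgnX χ hχ]]
      push_cast at h ⊢
      linear_combination h
    · intro χ hχX hχY x hx hx1
      refine hother χ (fun h => ?_) (fun h => ?_) x hx hx1
      · exact hχX (Finset.mem_insert_of_mem (Finset.mem_erase.2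
          ⟨fun e => hχY (Finset.mem_singleton.2 e), h⟩))
      · rw [hYeq, Finset.mem_singleton] at h
        exact hχX (h ▸ Finset.mem_insert_self _ _)
    · intro hc χ hχX hχY
      refine hdvd hc χ (fun h => ?_) fun h => ?_
      · exact hχX (Finset.mem_insert_of_mem (Finset.mem_erase.2
          ⟨fun e => hχY (Finset.mem_singleton.2 e), h⟩))
      · rw [hYeq, Finset.mem_singleton] at h
        exact hχX (h ▸ Finset.mem_insert_self _ _)

namespace Blk

variable {P : Sylow p G} {e : ℕ} (B : Blk P e)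

/-- The exceptional family is not empty. -/
theorem Y_nonempty : B.Y.Nonempty := by
  refine Finset.card_pos.1 (Nat.pos_of_ne_zero fun h => ?_)
  have h' := B.card_Y
  rw [h, mul_zero] at h'
  have := hp.out.two_le
  omega

theorem principal_notMem_Y : principalIrr G ∉ B.Y := Finset.disjoint_left.1 B.disj B.one_mem

/-- Splitting of a sum over all the characters. -/
theorem sum_split {R : Type*} [AddCommMonoid R] (F : IrrCharacter G → R) :
    ∑ χ, F χ = ∑ χ ∈ B.X, F χ + ∑ χ ∈ B.Y, F χ +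
      ∑ χ ∈ Finset.univ.filter (fun χ => χ ∉ B.X ∧ χ ∉ B.Y), F χ := by
  rw [← Finset.sum_union B.disj, ← Finset.sum_union]
  · exact Finset.sum_congr (Finset.ext fun χ => by simp; tauto) fun _ _ => rfl
  · rw [Finset.disjoint_left]
    intro χ h1 h2
    rw [Finset.mem_filter] at h2
    rcases Finset.mem_union.1 h1 with h | h
    exacts [h2.2.1 h, h2.2.2 h]

/-- The exceptional values at an element of the Sylow subgroup sum to `-ε`. -/
theorem sum_valY {x : G} (hx : x ∈ (P : Subgroup G)) (hx1 : x ≠ 1) :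
    ∑ χ ∈ B.Y, (χ : G → ℂ) x = -(B.ε : ℂ) := by
  obtain ⟨ψ, hψ⟩ := B.Y_nonempty
  have horth : ∀ y ∈ regPart P, ∑ χ : IrrCharacter G, (χ : G → ℂ) (x * y) * conj ((χ : G → ℂ) 1) = 0 := by
    intro y hy
    rw [column_orth, if_neg]
    intro h
    have h1 := isConj_one_left.1 h
    have h2 : orderOf x = orderOf y := by
      rw [show y = x⁻¹ from eq_inv_of_mul_eq_one_right h1, orderOf_inv]
    obtain ⟨k, hk⟩ : ∃ k, orderOf x = p ^ k :=
      IsPGroup.iff_orderOf.1 P.isPGroup' ⟨x, hx⟩ |>.imp fun k hk => by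
        rw [← Subgroup.orderOf_mk x hx, hk]
    rcases k with _ | k
    · exact hx1 (orderOf_eq_one_iff.1 (by simpa using hk))
    · exact (mem_regPart.1 hy).2 (h2 ▸ hk ▸ dvd_pow_self p k.succ_ne_zero)
  have hX' : ∀ χ ∈ B.X, ∑ y ∈ regPart P, (χ : G → ℂ) (x * y) * conj ((χ : G → ℂ) 1) =
      ((regPart P).card : ℂ) * ((B.sgn χ : ℂ) * (χ : G → ℂ) 1) := fun χ hχ => by
    rw [← nsmul_eq_mul, ← Finset.sum_const]
    exact Finset.sum_congr rfl fun y hy => by
      rw [B.valX χ hχ x hx hx1 y hy, Chars17.conj_irr_one]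
  have hY' : ∀ χ ∈ B.Y, ∑ y ∈ regPart P, (χ : G → ℂ) (x * y) * conj ((χ : G → ℂ) 1) =
      ((regPart P).card : ℂ) * ((χ : G → ℂ) x * (ψ : G → ℂ) 1) := fun χ hχ => by
    rw [← nsmul_eq_mul, ← Finset.sum_const]
    exact Finset.sum_congr rfl fun y hy => by
      rw [B.valY χ hχ x hx hx1 y hy, Chars17.conj_irr_one,
        B.regY χ hχ ψ hψ 1 (by rw [orderOf_one]; exact hp.out.not_dvd_one)]
  have h := Finset.sum_congr rfl horth
  rw [Finset.sum_const_zero, Finset.sum_comm, B.sum_split,
    Finset.sum_eq_zero (s := Finset.univ.filter fun χ => χ ∉ B.X ∧ χ ∉ B.Y) (fun χ hχ => by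
      rw [← Finset.sum_mul, B.sum_other χ (Finset.mem_filter.1 hχ).2.1
        (Finset.mem_filter.1 hχ).2.2 x hx hx1, zero_mul]), add_zero,
    Finset.sum_congr rfl hX', Finset.sum_congr rfl hY',
    ← Finset.mul_sum, ← Finset.mul_sum,
    ← B.rel ψ hψ 1 (by rw [orderOf_one]; exact hp.out.not_dvd_one),
    ← mul_add, ← Finset.sum_mul] at h
  have hc : ((regPart P).card : ℂ) ≠ 0 :=
    Nat.cast_ne_zero.2 (Finset.card_ne_zero_of_mem (one_mem_regPart P))
  have h' := (mul_eq_zero.1 h).resolve_left hc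
  rw [← add_mul] at h'
  have := (mul_eq_zero.1 h').resolve_right (irr_one_ne_zero ψ)
  linear_combination this

end Blk

end CfsgLib.MathieuTwentyTwo.ByOrder
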