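import Cfsg.Agent.Lib.MathieuTwentyTwoOrder.Joint

/-!
# The automiser and regular part at 11
-/

set_option autoImplicit false

namespace CfsgLib.MathieuTwentyTwo.ByOrder

/-- Every option at 11 other than a self-centralising group with automiser of order 5 is empty. -/
theorem options_eleven : (optsEC 11).all (fun o => ((o.1 == 5) && (o.2 == 1)) ||
    (rows 11 o.1 (allowed 11 o.2 degA)).isEmpty ||
    ((o.2 % 2 == 0) && (stage 11 o.1 o.2 degA).isEmpty)) = true := by decide +kernel

end CfsgLib.MathieuTwentyTwo.ByOrder
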