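import Cfsg.Agent.Lib.MathieuTwentyTwoOrder.Joint

/-!
# The first stage at 5
-/

set_option autoImplicit false

namespace CfsgLib.MathieuTwentyTwo.ByOrder

/-- The options at 5. -/
theorem options_five : (optsEC 5).all (fun o => ((o.1 == 4) && (o.2 == 1)) ||
    (rows 5 o.1 (allowed 5 o.2 degB)).isEmpty ||
    (((o.1 == 2) || (o.1 == 4)) && ((o.2 == 7) || (o.2 == 21))) ||
    ((o.2 % 2 == 0) && (stage 5 o.1 o.2 degB).all
      (inSeeds (if o.2 % 7 == 0 then seeds5q else seeds5n)))) = true := by decide +kernel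

end CfsgLib.MathieuTwentyTwo.ByOrder
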