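import Cfsg.Agent.Lib.MathieuTwentyTwoOrder.Rows

/-!
# The seeds at 5
-/

set_option autoImplicit false

namespace CfsgLib.MathieuTwentyTwo.ByOrder

/-- The seeds at 5 with trivial regular part at 7. -/
theorem seeds_five_n : seeds5n.all (check5n rowsEleven rowsSeven) = true := by decide +kernel

/-- The seeds at 5 in the rows left at 7. -/
theorem seeds_five_keys : (seeds5n ++ seeds5q).all (checkKeys rowsEleven) = true := by
  decide +kernel

/-- The seeds at 5 in the rows with two members of degree six. -/
theorem seeds_five_six : seeds5q.all (checkSix rowsEleven) = true := by decide +kernel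

end CfsgLib.MathieuTwentyTwo.ByOrder
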