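import Cfsg.Agent.Lib.MathieuTwentyTwoOrder.Rows

/-!
# The seeds at 7
-/

set_option autoImplicit false

namespace CfsgLib.MathieuTwentyTwo.ByOrder

/-- The seeds at 7. -/
theorem seeds_seven : seeds7.all (check7 rowsEleven rowsFive) = true := by decide +kernel

end CfsgLib.MathieuTwentyTwo.ByOrder
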