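import Cfsg.Agent.Lib.MathieuTwentyTwoOrder.Joint

/-!
# The first stage at 7
-/

set_option autoImplicit false

namespace CfsgLib.MathieuTwentyTwo.ByOrder

/-- The options at 7. -/
theorem options_seven : (optsEC 7).all (fun o => ((o.1 == 3) && (o.2 == 1)) ||
    (rows 7 o.1 (allowed 7 o.2 degB)).isEmpty ||
    ((o.1 == 3) && (o.2 == 15) &&
      (rows 7 3 (allowed 7 15 degB)).all fun r => leL [6, 6] r.degs) ||
    ((o.2 % 2 == 0) && (stage 7 o.1 o.2 degB).all (inSeeds seeds7) &&
      (!(o.2 % 5 == 0) || (stage 7 o.1 o.2 degB).isEmpty))) = true := by decide +kernel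

end CfsgLib.MathieuTwentyTwo.ByOrder
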