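import Cfsg.Agent.Lib.MathieuTwentyTwoOrder.TableSearch

/-!
# The table search
-/

set_option autoImplicit false

namespace CfsgLib.MathieuTwentyTwo.ByOrder

/-- All triples of rows lead to the table. -/
theorem check_triples : checkTriples = true := by decide +kernel

end CfsgLib.MathieuTwentyTwo.ByOrder
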