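import Cfsg.Agent.Lib.MathieuTwentyTwoOrder.Search

/-!
# Joint searches over the blocks at 5, 7 and 11
-/

set_option autoImplicit false

namespace CfsgLib.MathieuTwentyTwo.ByOrder

/-- First-stage outputs at 7. -/
def seeds7 : List (ℕ × List (ℕ × ℤ)) :=
  [(448,[(55,-1), (99,-13), (45,-11), (45,-11)]),
   (448,[(55,-1), (120,8), (66,10), (66,10)]),
   (1344,[(55,-1), (120,8), (66,10), (66,10)]),
   (8064,[(22,-6), (22,-6), (22,-6), (55,-29), (120,-48), (132,-36)]),
   (672,[(22,-6), (55,-1), (120,8), (132,-8), (132,20), (176,8)]),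
   (1344,[(22,-6), (55,-1), (120,8), (132,-8), (132,20), (176,8)]),
   (448,[(55,-1), (55,-1), (55,-1), (55,-1), (99,-13), (120,8)]),
   (448,[(55,-1), (55,-1), (99,-13), (120,8), (330,-6), (440,-8)]),
   (1344,[(55,-1), (99,15), (99,15), (120,8), (132,20), (132,20)]),
   (672,[(22,-6), (22,-6), (55,-1), (160,-8), (160,-8), (330,-6)]),
   (1344,[(22,-6), (22,-6), (99,15), (120,8), (132,-8), (132,20)])]

/-- First-stage outputs at 5 with an element of order 7 in the regular part. -/
def seeds5q : List (ℕ × List (ℕ × ℤ)) :=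
  [(210,[(11,-9), (12,-8), (12,-8)]),
   (420,[(11,-9), (12,-8), (12,-8)]),
   (480,[(11,-9), (12,-8), (12,-8)]),
   (560,[(11,-9), (12,-8), (12,-8)]),
   (840,[(11,-9), (12,-8), (12,-8)]),
   (1120,[(11,-9), (12,-8), (12,-8)]),
   (1680,[(11,-9), (12,-8), (12,-8)]),
   (3360,[(11,-9), (12,-8), (12,-8)]),
   (320,[(11,-9), (12,-8), (12,-8)]),
   (960,[(11,-9), (12,-8), (12,-8)]),
   (1920,[(11,-9), (12,-8), (12,-8)]),
   (2240,[(11,-9), (12,-8), (12,-8)]),
   (6720,[(11,-9), (12,-8), (12,-8)]),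
   (13440,[(11,-9), (12,-8), (12,-8)]),
   (560,[(11,-9), (44,4), (144,-16), (176,-4)]),
   (1120,[(11,-9), (44,4), (144,-16), (176,-4)]),
   (1680,[(11,-9), (44,-16), (144,24), (176,16)]),
   (2240,[(11,-9), (44,-16), (144,-16), (176,-24)]),
   (2240,[(11,-9), (44,-16), (144,24), (176,16)]),
   (3360,[(11,-9), (44,-16), (144,24), (176,16)]),
   (3360,[(11,-9), (44,4), (144,-36), (176,-24)]),
   (6720,[(11,-9), (44,-16), (144,24), (176,16)]),
   (6720,[(11,-9), (44,24), (144,24), (176,56)]),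
   (2240,[(11,-9), (144,24), (264,-16), (396,16)]),
   (560,[(66,-14), (99,-1), (144,-16), (176,-4)]),
   (1120,[(66,-14), (99,-1), (144,-16), (176,-4)]),
   (1120,[(66,-14), (99,19), (144,-16), (176,16)]),
   (1120,[(66,6), (99,-21), (144,4), (176,-24)]),
   (2240,[(66,-14), (99,-21), (144,-16), (176,-24)]),
   (2240,[(66,-14), (99,19), (144,-16), (176,16)]),
   (2240,[(66,26), (99,19), (144,-16), (176,-24)]),
   (4480,[(66,-14), (99,19), (144,-16), (176,16)]),
   (6720,[(66,6), (99,39), (144,24), (176,56)])]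

/-- First-stage outputs at 5 without an element of order 7 in the regular part. -/
def seeds5n : List (ℕ × List (ℕ × ℤ)) :=
  [(20,[(21,1), (22,2), (22,2)]),
   (40,[(21,1), (22,2), (22,2)]),
   (60,[(21,1), (22,2), (22,2)]),
   (120,[(21,1), (22,2), (22,2)]),
   (240,[(21,1), (22,2), (22,2)]),
   (320,[(21,1), (22,2), (22,2)]),
   (960,[(21,1), (22,2), (22,2)]),
   (1920,[(21,-19), (22,-18), (22,-18)]),
   (640,[(21,1), (22,2), (22,2)]),
   (1920,[(21,1), (22,2), (22,2)]),
   (1920,[(21,-19), (44,4), (44,4), (66,26)]),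
   (1920,[(21,1), (44,-16), (44,-16), (66,-34)]),
   (1920,[(21,-19), (66,6), (66,26), (154,14)]),
   (1920,[(21,-19), (66,26), (176,16), (264,24)]),
   (1920,[(11,-9), (21,1), (231,31), (264,24)]),
   (1680,[(11,-9), (44,-16), (144,24), (176,16)]),
   (3360,[(11,-9), (44,-16), (144,24), (176,16)]),
   (6720,[(11,-9), (44,-16), (144,24), (176,16)]),
   (4480,[(11,-9), (99,-41), (144,-16), (231,-49)]),
   (80,[(16,-4), (16,-4), (66,6), (99,-1)]),
   (160,[(16,-4), (16,-4), (66,6), (99,-1)]),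
   (1920,[(21,1), (66,-14), (66,-14), (154,-26)]),
   (160,[(21,1), (99,-1), (154,-6), (231,-9)]),
   (320,[(21,1), (99,-1), (154,-6), (231,-9)]),
   (320,[(21,1), (99,-1), (154,14), (231,11)]),
   (1920,[(21,1), (99,-21), (154,-6), (231,-29)]),
   (4480,[(66,-14), (99,19), (144,-16), (176,16)]),
   (6720,[(66,6), (99,39), (144,24), (176,56)]),
   (320,[(99,-1), (126,-14), (126,6), (154,-6)]),
   (320,[(99,-1), (126,6), (126,6), (154,14)]),
   (960,[(21,1), (66,6), (176,-24), (264,-16)])]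

/-- A first-stage output is among the seeds. -/
def inSeeds (S : List (ℕ × List (ℕ × ℤ))) (s : ℕ × List (ℕ × ℤ)) : Bool :=
  S.any fun a => (a.1 == s.1) && a.2.isPerm s.2

theorem exists_seed {S : List (ℕ × List (ℕ × ℤ))} {l : List (ℕ × List (ℕ × ℤ))}
    (h : l.all (inSeeds S) = true) {C : ℕ} {it : List (ℕ × ℤ)} (hm : (C, it) ∈ l) :
    ∃ it', (C, it') ∈ S ∧ it'.Perm it := by
  obtain ⟨⟨C', it'⟩, hS, hb⟩ := List.any_eq_true.1 (List.all_eq_true.1 h _ hm)
  rw [Bool.and_eq_true, beq_iff_eq, List.isPerm_iff] at hb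
  obtain ⟨rfl, hp⟩ := hb
  exact ⟨it', hS, hp⟩

/-- Members of degree divisible by 11. -/
def div11 (it : List (ℕ × ℤ)) : List (ℕ × ℤ) := it.filter fun a => a.1 % 11 == 0

/-- Budget left at 11 by a seed. -/
def budget (s : ℕ × List (ℕ × ℤ)) : ℕ :=
  s.1 - 1 - ((div11 s.2).map fun a => a.2.natAbs * a.2.natAbs).sum

/-- The seed's degrees prime to 11 occur in the row at 11. -/
def compat11 (s : ℕ × List (ℕ × ℤ)) (r : Row) : Bool := leL (nm id 11 (s.2.map Prod.fst)) r.degs

/-- The values at 11 extending a seed. -/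
def fill11 (s : ℕ × List (ℕ × ℤ)) (r : Row) : List (List (ℕ × ℤ)) :=
  fill 11 5 1 4 s.1 (budget s) r (nm Prod.fst 11 s.2)

/-- Degree compatibility with a row at the third prime. -/
def compatO (o : ℕ) (s : ℕ × List (ℕ × ℤ)) (r x : Row) : Bool :=
  leL (nm id 11 x.degs) r.degs && leL (nm id o r.degs) x.degs &&
    leL (nm id o (s.2.map Prod.fst)) x.degs

/-- The values at the third prime extending the other two rows. -/
def fillO (o eo : ℕ) (s : ℕ × List (ℕ × ℤ)) (it : List (ℕ × ℤ)) (x : Row) :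
    List (List (ℕ × ℤ)) :=
  fill o eo 1 4 s.1 (s.1 - 1) x (nm Prod.fst o (it ++ div11 s.2))

/-- The rows at 11 left by the first-stage outputs at 7. -/
def keys7 : List (List ℕ × ℕ) :=
  [([10,12,12,120],105), ([10,12,45,120],72), ([10,21,45,120],105), ([10,45,120,144],60),
   ([12,32,120,144],5), ([12,56,56,120],5), ([21,120,210,210],280)]

/-- No extension of a seed at 7 survives, apart from the recorded rows at 11. -/
def check7 (R11 R5 : List Row) (s : ℕ × List (ℕ × ℤ)) : Bool :=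
  R11.all fun r => !compat11 s r || (fill11 s r).isEmpty ||
    (keys7.contains (r.ds, r.x) && (fill11 s r).all fun it =>
      R5.all fun x => !compatO 5 s r x || (fillO 5 4 s it x).isEmpty)

/-- No seed at 5 extends with a trivial regular part at 7. -/
def check5n (R11 R7 : List Row) (s : ℕ × List (ℕ × ℤ)) : Bool :=
  R11.all fun r => !compat11 s r || (R7.filter (compatO 7 s r)).isEmpty ||
    (fill11 s r).all fun it => R7.all fun x => !compatO 7 s r x || (fillO 7 3 s it x).isEmpty

/-- No seed at 5 extends in the rows left at 7. -/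
def checkKeys (R11 : List Row) (s : ℕ × List (ℕ × ℤ)) : Bool :=
  R11.all fun r => !keys7.contains (r.ds, r.x) || !compat11 s r || (fill11 s r).isEmpty

/-- No seed at 5 extends in a row with two members of degree six. -/
def checkSix (R11 : List Row) (s : ℕ × List (ℕ × ℤ)) : Bool :=
  R11.all fun r => !leL [6, 6] r.degs || !compat11 s r || (fill11 s r).isEmpty

end CfsgLib.MathieuTwentyTwo.ByOrder
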