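import Cfsg.Agent.Lib.MathieuTwentyTwoOrder.Eleven
import Cfsg.Agent.Lib.MathieuTwentyTwoOrder.Joint

/-!
# The blocks of different primes share their members of degree prime to both
-/

set_option autoImplicit false
set_option linter.style.haveILetI false
set_option linter.unusedSectionVars false

noncomputable section

namespace CfsgLib.MathieuTwentyTwo.ByOrder

open Cfsg CfsgLib.Characters CfsgLib.CharCorr
open scoped Classical

universe u

variable {G : Type u} [Group G] [Fintype G] {q : ℕ} [hq : Fact q.Prime]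

/-- Members of degree prime to `q` lie in the block at `q` when its regular part is trivial. -/
theorem filter_subset {Q : Sylow q G} {eq : ℕ} (Bq : Blk Q eq) (hc : (regPart Q).card = 1)
    {S : Finset (IrrCharacter G)} (hS : ∀ χ ∈ S, χ ≠ principalIrr G) :
    S.filter (fun χ => ¬ q ∣ dg χ) ⊆ Bq.members := by
  intro χ hχ
  rw [Finset.mem_filter] at hχ
  refine Bq.mem_members (hS χ hχ.1) ?_
  by_contra h
  rw [not_or] at h
  exact hχ.2 (Bq.dvd_other hc χ h.1 h.2)

theorem coe_nm {α : Type*} (deg : α → ℕ) (q : ℕ) (L : List α) :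
    ((nm deg q L : List α) : Multiset α) = (L : Multiset α).filter (fun a => ¬ q ∣ deg a) := by
  rw [nm, Multiset.filter_coe]
  exact congrArg _ (List.filter_congr fun a _ => by simp [Nat.dvd_iff_mod_eq_zero])

theorem coe_div11 (L : List (ℕ × ℤ)) :
    ((div11 L : List (ℕ × ℤ)) : Multiset (ℕ × ℤ)) = (L : Multiset (ℕ × ℤ)).filter
      (fun a => 11 ∣ a.1) := by
  rw [div11, Multiset.filter_coe]
  exact congrArg _ (List.filter_congr fun a _ => by
    rw [Bool.eq_iff_iff]; simp [Nat.dvd_iff_mod_eq_zero])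

/-- The items of degree prime to `q`. -/
theorem filter_items_le {Q : Sylow q G} {eq : ℕ} (Bq : Blk Q eq) (hc : (regPart Q).card = 1)
    {S : Finset (IrrCharacter G)} (hS : ∀ χ ∈ S, χ ≠ principalIrr G) (z : G) :
    (S.val.map (pr z)).filter (fun a => ¬ q ∣ a.1) ≤ items Bq z := by
  rw [Multiset.filter_map]
  exact Multiset.map_le_map (Finset.val_le_iff.2 (filter_subset Bq hc hS))

theorem filter_dg_le {Q : Sylow q G} {eq : ℕ} (Bq : Blk Q eq) (hc : (regPart Q).card = 1)
    {S : Finset (IrrCharacter G)} (hS : ∀ χ ∈ S, χ ≠ principalIrr G) :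
    (S.val.map dg).filter (fun d => ¬ q ∣ d) ≤ Bq.members.val.map dg := by
  rw [Multiset.filter_map]
  exact Multiset.map_le_map (Finset.val_le_iff.2 (filter_subset Bq hc hS))

theorem RowOf.degs_eq {P : Sylow q G} {e : ℕ} {B : Blk P e} {r : Row} (R : RowOf B r) :
    ((r.degs : List ℕ) : Multiset ℕ) = B.members.val.map dg := by
  have hdisj : Disjoint (B.X.erase (principalIrr G)) B.Y :=
    B.disj.mono_left (Finset.erase_subset _ _)
  rw [Blk.members, ← Finset.disjUnion_eq_union _ _ hdisj, Finset.disjUnion_val, Multiset.map_add,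
    ← R.cs_eq, Multiset.map_coe, R.ds_eq, Row.degs, ← Multiset.coe_add, Multiset.coe_replicate,
    R.t_eq]
  congr 1
  symm
  refine Multiset.eq_replicate.2 ⟨Multiset.card_map _ _, fun a ha => ?_⟩
  obtain ⟨χ, hχ, rfl⟩ := Multiset.mem_map.1 ha
  exact (B.dg_eq hχ R.ψ_mem).trans R.x_eq

/-- The degree part of a filtered item list. -/
theorem leL_degs {Q : Sylow q G} {eq : ℕ} {Bq : Blk Q eq} {x : Row} (Rq : RowOf Bq x)
    (hc : (regPart Q).card = 1) {S : Finset (IrrCharacter G)}
    (hS : ∀ χ ∈ S, χ ≠ principalIrr G) {L : List ℕ} (hL : (L : Multiset ℕ) = S.val.map dg) :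
    leL (nm id q L) x.degs = true := by
  refine leL_of_le ?_
  rw [coe_nm, hL, Rq.degs_eq]
  exact filter_dg_le Bq hc hS

theorem map_fst_items {P : Sylow q G} {e : ℕ} (B : Blk P e) {z : G} {l : List (ℕ × ℤ)}
    (hl : (l : Multiset (ℕ × ℤ)) = items B z) :
    ((l.map Prod.fst : List ℕ) : Multiset ℕ) = B.members.val.map dg := by
  rw [← Multiset.map_coe, hl, items, Multiset.map_map]
  rfl

theorem not_eleven_dvd [Fact (Nat.Prime 11)] {P : Sylow 11 G} (B : Blk P 5) {χ : IrrCharacter G}
    (h : χ ∈ B.members) : ¬ 11 ∣ dg χ := by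
  intro hd
  have hd' : ((11 : ℕ) : ℤ) ∣ (dg χ : ℤ) := Int.natCast_dvd_natCast.2 hd
  rcases B.mem_or_mem h with h' | h'
  · obtain ⟨k, hk⟩ := dvd_sub hd' (B.degX χ h')
    rw [sub_sub_cancel] at hk
    push_cast at hk
    rcases B.sgn_spec χ h' with hs | hs <;> rw [hs] at hk <;> omega
  · obtain ⟨k, hk⟩ := dvd_sub hd' (B.degY χ h')
    rw [sub_sub_cancel] at hk
    push_cast at hk
    rcases B.ε_spec with hs | hs <;> rw [hs] at hk <;> omega

section

variable [IsSimpleGroup G] [Fact (Nat.Prime 11)]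

theorem one_le_centralizer (z : G) : 1 ≤ Nat.card (Subgroup.centralizer ({z} : Set G)) :=
  Nat.card_pos

theorem sum_sq_le_pred (hG : Nat.card G = ord22) {z : G} (hz : orderOf z = 2)
    {S : Finset (IrrCharacter G)} (hS : principalIrr G ∉ S) :
    ∑ χ ∈ S, (val z χ).natAbs * (val z χ).natAbs ≤
      Nat.card (Subgroup.centralizer ({z} : Set G)) - 1 := by
  have h := sum_val_sq hG hz (insert (principalIrr G) S)
  rw [Finset.sum_insert hS, val_principal hG hz] at h
  simp only [Int.natAbs_one, one_mul] at h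
  omega

theorem budget_lt (hG : Nat.card G = ord22) {z : G} (hz : orderOf z = 2) :
    Nat.card (Subgroup.centralizer ({z} : Set G)) - 1 < 4 ^ 9 := by
  have h := centralizer_le hG (z := z) (fun h => by rw [h, orderOf_one] at hz; norm_num at hz)
  rw [show (4 : ℕ) ^ 9 = 262144 by norm_num]
  omega

/-- A block with its values at an involution extends to the row at 11. -/
theorem exists_fill11 (hG : Nat.card G = ord22) {P : Sylow q G} {e : ℕ} (B : Blk P e) {z : G}
    (hz : orderOf z = 2) {l : List (ℕ × ℤ)} (hl : (l : Multiset (ℕ × ℤ)) = items B z)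
    {P₁ : Sylow 11 G} {B₁ : Blk P₁ 5} {r : Row} (R : RowOf B₁ r) (hc : (regPart P₁).card = 1)
    (hrel : (Subgroup.centralizer ((P₁ : Subgroup G) : Set G)).relIndex
      (Subgroup.normalizer ((P₁ : Subgroup G) : Set G)) = 5) :
    compat11 (Nat.card (Subgroup.centralizer ({z} : Set G)), l) r = true ∧
      ∃ it ∈ fill11 (Nat.card (Subgroup.centralizer ({z} : Set G)), l) r,
        (it : Multiset (ℕ × ℤ)) = items B₁ z := by
  have hS : ∀ χ ∈ B.members, χ ≠ principalIrr G := fun χ h => B.ne_principal h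
  refine ⟨leL_degs R hc hS (map_fst_items B hl), ?_⟩
  have hdisj : Disjoint B₁.members (B.members.filter fun χ => 11 ∣ dg χ) :=
    Finset.disjoint_left.2 fun χ h1 h2 => not_eleven_dvd B₁ h1 (Finset.mem_filter.1 h2).2
  have hsq : ∑ χ ∈ B₁.members, (val z χ).natAbs * (val z χ).natAbs ≤
      budget (Nat.card (Subgroup.centralizer ({z} : Set G)), l) := by
    have h := sum_sq_le_pred hG hz (S := B₁.members ∪ B.members.filter fun χ => 11 ∣ dg χ)
      (fun h => (Finset.mem_union.1 h).elim (fun h => B₁.ne_principal h rfl)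
        fun h => hS _ (Finset.mem_filter.1 h).1 rfl)
    rw [Finset.sum_union hdisj] at h
    have hdiv : ((div11 l).map fun a => a.2.natAbs * a.2.natAbs).sum =
        ∑ χ ∈ B.members.filter (fun χ => 11 ∣ dg χ), (val z χ).natAbs * (val z χ).natAbs := by
      rw [← Multiset.sum_coe, ← Multiset.map_coe, coe_div11, hl, items, Multiset.filter_map,
        Multiset.map_map, Finset.sum_eq_multiset_sum, Finset.filter_val]
      rfl
    simp only [budget]
    rw [hdiv]
    omega
  have hk : ((nm Prod.fst 11 l : List (ℕ × ℤ)) : Multiset (ℕ × ℤ)) ≤ items B₁ z := by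
    rw [coe_nm, hl, items]
    exact filter_items_le B₁ hc hS z
  obtain ⟨it, hit, hit'⟩ := R.exists_fill hG (by norm_num)
    (card_sylow_eq hG (Or.inr (Or.inr rfl)) P₁) hrel hz (mo := 4)
    (fun χ hχ => (val_bound hG hz (B₁.ne_principal hχ)).2)
    (lt_of_le_of_lt (Nat.sub_le _ _) (budget_lt hG hz)) hsq hk
  rw [hc] at hit
  exact ⟨it, hit, hit'⟩

/-- The two blocks extend to the row at the third prime. -/
theorem exists_fillO (hG : Nat.card G = ord22) {P : Sylow q G} {e : ℕ} (B : Blk P e) {z : G}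
    (hz : orderOf z = 2) {l : List (ℕ × ℤ)} (hl : (l : Multiset (ℕ × ℤ)) = items B z)
    {P₁ : Sylow 11 G} {B₁ : Blk P₁ 5} {r : Row} (R : RowOf B₁ r) (hc : (regPart P₁).card = 1)
    {o eo : ℕ} [Fact o.Prime] (ho : o = 5 ∨ o = 7) {Po : Sylow o G} {Bo : Blk Po eo} {x : Row}
    (Ro : RowOf Bo x) (hco : (regPart Po).card = 1)
    (hrelo : (Subgroup.centralizer ((Po : Subgroup G) : Set G)).relIndex
      (Subgroup.normalizer ((Po : Subgroup G) : Set G)) = eo) :
    compatO o (Nat.card (Subgroup.centralizer ({z} : Set G)), l) r x = true ∧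
      ∀ it : List (ℕ × ℤ), (it : Multiset (ℕ × ℤ)) = items B₁ z →
        fillO o eo (Nat.card (Subgroup.centralizer ({z} : Set G)), l) it x ≠ [] := by
  have hS : ∀ χ ∈ B.members, χ ≠ principalIrr G := fun χ h => B.ne_principal h
  refine ⟨?_, fun it hit => ?_⟩
  · simp only [compatO, Bool.and_eq_true]
    exact ⟨⟨leL_degs R hc (fun χ h => Bo.ne_principal h) (Ro.degs_eq),
      leL_degs Ro hco (fun χ h => B₁.ne_principal h) R.degs_eq⟩,
      leL_degs Ro hco hS (map_fst_items B hl)⟩
  · have hodd : o ≠ 2 := by rcases ho with rfl | rfl <;> norm_num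
    have ho' : o = 5 ∨ o = 7 ∨ o = 11 := ho.elim Or.inl fun h => Or.inr (Or.inl h)
    obtain ⟨it', h', -⟩ := Ro.exists_fill hG hodd (card_sylow_eq hG ho' Po) hrelo hz (mo := 4)
      (fun χ hχ => (val_bound hG hz (Bo.ne_principal hχ)).2)
      (b := Nat.card (Subgroup.centralizer ({z} : Set G)) - 1) (budget_lt hG hz)
      (sum_sq_le_pred hG hz fun h => Bo.ne_principal h rfl)
      (known := nm Prod.fst o (it ++ div11 l)) (by
        have hdisj : Disjoint B₁.members (B.members.filter fun χ => 11 ∣ dg χ) :=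
          Finset.disjoint_left.2 fun χ h1 h2 => not_eleven_dvd B₁ h1 (Finset.mem_filter.1 h2).2
        rw [coe_nm, ← Multiset.coe_add, coe_div11, hit, hl]
        have := filter_items_le Bo hco
          (S := B₁.members.disjUnion (B.members.filter fun χ => 11 ∣ dg χ) hdisj)
          (fun χ h => (Finset.mem_disjUnion.1 h).elim (fun h => B₁.ne_principal h)
            fun h => hS _ (Finset.mem_filter.1 h).1) z
        rw [Finset.disjUnion_val, Finset.filter_val, Multiset.map_add] at this
        simp only [items, Multiset.filter_map, Function.comp_def, pr] at this ⊢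
        convert this using 6
        exact Multiset.filter_congr fun _ _ => Iff.rfl)
    rw [hco] at h'
    exact List.ne_nil_of_mem h'

end

end CfsgLib.MathieuTwentyTwo.ByOrder
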