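import Cfsg.Agent.Lib.MathieuTwentyTwoOrder.Bridge
import Cfsg.Agent.Lib.MathieuTwentyTwoOrder.CertEleven

/-!
# The elements of order eleven are self-centralising
-/

set_option autoImplicit false
set_option linter.style.haveILetI false
set_option linter.unusedSectionVars false

noncomputable section

namespace CfsgLib.MathieuTwentyTwo.ByOrder

open Cfsg CfsgLib.Characters CfsgLib.CharCorr
open scoped Classical

universe u

variable {G : Type u} [Group G] [Fintype G] [IsSimpleGroup G] {p : ℕ} [hp : Fact p.Prime]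

theorem exists_sylow_eq (hG : Nat.card G = ord22) (hp' : p = 5 ∨ p = 7 ∨ p = 11) {y : G}
    (hy : orderOf y = p) : ∃ P : Sylow p G, (P : Subgroup G) = Subgroup.zpowers y := by
  obtain ⟨P, hP⟩ := (IsPGroup.of_card (p := p) (n := 1)
    (by rw [pow_one, Nat.card_zpowers, hy]) : IsPGroup p (Subgroup.zpowers y)).exists_le_sylow
  exact ⟨P, (Subgroup.eq_of_le_of_card_ge hP
    (by rw [card_sylow_eq hG hp' P, Nat.card_zpowers, hy])).symm⟩

/-- Centraliser and normaliser of an element of order `p`, from one Sylow subgroup. -/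
theorem card_orderOf (hG : Nat.card G = ord22) (hp' : p = 5 ∨ p = 7 ∨ p = 11) (P : Sylow p G)
    {e : ℕ} (hN : Nat.card (Subgroup.centralizer ((P : Subgroup G) : Set G)) * e =
      Nat.card (Subgroup.normalizer ((P : Subgroup G) : Set G))) {y : G} (hy : orderOf y = p) :
    Nat.card (Subgroup.centralizer ({y} : Set G)) = p * (regPart P).card ∧
      Nat.card (Subgroup.normalizer ((Subgroup.zpowers y : Subgroup G) : Set G)) =
        p * (regPart P).card * e := by
  have hP := card_sylow_eq hG hp' P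
  obtain ⟨Q, hQ⟩ := exists_sylow_eq hG hp' hy
  obtain ⟨x, hx, hx1⟩ := exists_mem_ne_one P hP
  obtain ⟨g, hg⟩ := MulAction.exists_smul_eq G P Q
  set x' := g * x * g⁻¹ with hx'
  have hx'Q : x' ∈ (Q : Subgroup G) := by
    rw [← hg, Sylow.coe_subgroup_smul]
    exact Subgroup.smul_mem_pointwise_smul x (MulAut.conj g) _ hx
  have hx'o : orderOf x' = p := by
    rw [← orderOf_eq_p hP hx hx1, hx']
    exact (MulEquiv.orderOf_eq (MulAut.conj g) x).trans rfl
  have hxz : Subgroup.zpowers x' = Subgroup.zpowers y :=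
    Subgroup.eq_of_le_of_card_ge (Subgroup.zpowers_le.2 (hQ ▸ hx'Q))
      (by rw [Nat.card_zpowers, Nat.card_zpowers, hy, hx'o])
  have hPz : Subgroup.zpowers x = (P : Subgroup G) :=
    Subgroup.eq_of_le_of_card_ge (Subgroup.zpowers_le.2 hx)
      (by rw [hP, Nat.card_zpowers, orderOf_eq_p hP hx hx1])
  have hc : ∀ w : G, Subgroup.centralizer ((Subgroup.zpowers w : Subgroup G) : Set G) =
      Subgroup.centralizer ({w} : Set G) := fun w => by
    rw [Subgroup.zpowers_eq_closure, Subgroup.centralizer_closure]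
  have h1 : Nat.card (Subgroup.centralizer ({x} : Set G)) = p * (regPart P).card := by
    rw [← hc, hPz, card_centralizer P hP]
  have h2 : Nat.card (Subgroup.centralizer ({x'} : Set G)) =
      Nat.card (Subgroup.centralizer ({x} : Set G)) := by
    have hcls : ClassCount.cls x' = ClassCount.cls x := Finset.ext fun w => by
      rw [ClassCount.mem_cls, ClassCount.mem_cls]
      have hconj : IsConj x x' := isConj_iff.2 ⟨g, rfl⟩
      exact ⟨fun h => hconj.trans h, fun h => hconj.symm.trans h⟩
    have e1 := ClassCount.card_cls_mul_centralizer x'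
    rw [hcls, ← ClassCount.card_cls_mul_centralizer x] at e1
    exact Nat.eq_of_mul_eq_mul_left (Finset.card_pos.2 ⟨x, ClassCount.mem_cls_self x⟩) e1
  refine ⟨by rw [← hc, ← hxz, hc, h2, h1], ?_⟩
  rw [← hQ, ← card_centralizer P hP, hN]
  have e1 := Small.card_normalizer_mul_card_sylow P
  rw [← Small.card_normalizer_mul_card_sylow Q] at e1
  exact (Nat.eq_of_mul_eq_mul_right Nat.card_pos e1).symm

/-- A nonempty first stage or an empty set of rows is impossible. -/
theorem rows_ne_nil (hG : Nat.card G = ord22) (hodd : p ≠ 2) (hp3 : p ≠ 3) {P : Sylow p G}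
    (hP : Nat.card (P : Subgroup G) = p) {e : ℕ}
    (hN : Nat.card (Subgroup.centralizer ((P : Subgroup G) : Set G)) * e =
      Nat.card (Subgroup.normalizer ((P : Subgroup G) : Set G)))
    (B : Blk P e) {A : List ℕ} (hAs : A.Pairwise (· < ·))
    (hA : ∀ χ : IrrCharacter G, χ ≠ principalIrr G → dg χ ∈ A) :
    ∃ r ∈ rows p e (allowed p (regPart P).card A), Nonempty (RowOf B r) := by
  refine exists_row hG hodd B (allowed_sorted p _ hAs) (mem_allowed hG hP B hA hp3 ?_)
  intro h2
  obtain ⟨z, hz, hzP, -⟩ := exists_involution hG hodd hP hN h2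
  exact two_mul_lt_dg hG hodd hP B hz hzP

/-- At 11 the automiser has order 5 and the regular part is trivial. -/
theorem eleven (hG : Nat.card G = ord22) [Fact (Nat.Prime 11)] (P : Sylow 11 G) :
    (regPart P).card = 1 ∧ (Subgroup.centralizer ((P : Subgroup G) : Set G)).relIndex
        (Subgroup.normalizer ((P : Subgroup G) : Set G)) = 5 ∧
      Nat.card (Subgroup.centralizer ((P : Subgroup G) : Set G)) * 5 =
        Nat.card (Subgroup.normalizer ((P : Subgroup G) : Set G)) := by
  obtain ⟨e, -, hopt, hrel, hN⟩ := mem_optsEC hG (Or.inr (Or.inr rfl)) P (fun h => absurd rfl h)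
  have hP := card_sylow_eq hG (Or.inr (Or.inr rfl)) P
  have h := List.all_eq_true.1 options_eleven _ hopt
  simp only [Bool.or_eq_true, Bool.and_eq_true, beq_iff_eq, List.isEmpty_iff] at h
  obtain ⟨B⟩ := exists_blk (nc hG) (by norm_num) P hP hrel
  rcases h with (⟨h1, h2⟩ | h) | ⟨h2, h⟩
  · subst h1; exact ⟨h2, hrel, hN⟩
  · obtain ⟨r, hr, -⟩ := rows_ne_nil hG (by norm_num) (by norm_num) hP hN B degA_sorted
      (fun χ hχ => deg_mem hG hχ)
    rw [h] at hr
    exact absurd hr List.not_mem_nil
  · obtain ⟨z, -, l, hl, -⟩ := exists_stage hG (by norm_num) (by norm_num) hP hrel hN B degA_sorted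
      (fun χ hχ => deg_mem hG hχ) (Nat.dvd_of_mod_eq_zero h2)
    rw [h] at hl
    exact absurd hl List.not_mem_nil

theorem centralizer_eleven (hG : Nat.card G = ord22) {y : G} (hy : orderOf y = 11) :
    Nat.card (Subgroup.centralizer ({y} : Set G)) = 11 ∧
      Nat.card (Subgroup.normalizer ((Subgroup.zpowers y : Subgroup G) : Set G)) = 55 := by
  haveI := Fact.mk (show Nat.Prime 11 by norm_num)
  obtain ⟨P⟩ : Nonempty (Sylow 11 G) := inferInstance
  obtain ⟨hc, -, hN⟩ := eleven hG P
  have h := card_orderOf hG (Or.inr (Or.inr rfl)) P hN hy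
  rw [hc] at h
  exact h

/-- The block at 11. -/
theorem exists_blk_eleven (hG : Nat.card G = ord22) :
    haveI := Fact.mk (show Nat.Prime 11 by norm_num)
    ∃ P : Sylow 11 G, (regPart P).card = 1 ∧
      (Subgroup.centralizer ((P : Subgroup G) : Set G)).relIndex
        (Subgroup.normalizer ((P : Subgroup G) : Set G)) = 5 ∧ Nonempty (Blk P 5) := by
  haveI := Fact.mk (show Nat.Prime 11 by norm_num)
  obtain ⟨P⟩ : Nonempty (Sylow 11 G) := inferInstance
  obtain ⟨hc, hrel, -⟩ := eleven hG P
  exact ⟨P, hc, hrel, exists_blk (nc hG) (by norm_num) P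
    (card_sylow_eq hG (Or.inr (Or.inr rfl)) P) hrel⟩

/-- The degrees. -/
theorem dg_mem_degB (hG : Nat.card G = ord22) {χ : IrrCharacter G} (hne : χ ≠ principalIrr G) :
    dg χ ∈ degB := by
  haveI := Fact.mk (show Nat.Prime 11 by norm_num)
  obtain ⟨P, hc, -, ⟨B⟩⟩ := exists_blk_eleven hG
  refine List.mem_filter.2 ⟨deg_mem hG hne, ?_⟩
  simp only [Bool.or_eq_true, Bool.and_eq_true, beq_iff_eq, decide_eq_true_eq]
  by_cases hm : χ ∈ B.X ∨ χ ∈ B.Y
  swap
  · rw [not_or] at hm
    exact Or.inl (Or.inl (Or.inl (Nat.mod_eq_zero_of_dvd (B.dvd_other hc χ hm.1 hm.2))))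
  rcases hm with h | h
  · rcases (B.mod_sgn (by norm_num) h).1 with h' | h'
    · exact Or.inl (Or.inl (Or.inr h'))
    · exact Or.inl (Or.inr (by omega))
  · obtain ⟨k, hk⟩ := B.degY χ h
    have hk' : (charDegree (χ : G → ℂ) : ℤ) = B.ε * 5 + 11 * k := by push_cast at hk; linarith
    refine Or.inr ⟨?_, ?_⟩
    · rcases B.ε_spec with hε | hε <;> rw [hε] at hk' <;> simp only [dg] <;> omega
    · have hY : B.Y.card = 2 := by have := B.card_Y; omega
      have h1 : B.Y.card * (dg χ * dg χ) ≤ ∑ θ ∈ B.members, dg θ * dg θ := by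
        rw [← smul_eq_mul, ← Finset.sum_const]
        refine le_of_eq_of_le (Finset.sum_congr rfl fun θ hθ => by rw [B.dg_eq hθ h])
          (Finset.sum_le_sum_of_subset Finset.subset_union_right)
      have h2 := sum_members_le hG B
      rw [hY] at h1
      simp only [dg] at h1 h2 ⊢
      omega

end CfsgLib.MathieuTwentyTwo.ByOrder
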