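import Mathlib.Algebra.BigOperators.Group.List.Basic
import Mathlib.Algebra.Order.BigOperators.Group.List
import Mathlib.Data.Nat.Prime.Basic
import Mathlib.Tactic

/-!
# Searches for rows of prime blocks in a group of order 443520

A row lists the degrees of the nonprincipal members of a block with cyclic defect group of prime
order: the signed ones `ds` and `t` times the exceptional degree `x`. A filled row also records
the values at an involution. All searches here are purely arithmetical; each completeness lemma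
says that a row satisfying the arithmetical conditions is found.
-/

set_option autoImplicit false

namespace CfsgLib.MathieuTwentyTwo.ByOrder

/-- The group order. -/
def ord22 : ℕ := 443520

/-- The divisors of the group order. -/
def divN : List ℕ :=
  [1, 2, 3, 4, 5, 6, 7, 8, 9, 10, 11, 12, 14, 15, 16, 18, 20, 21, 22, 24, 28, 30, 32, 33, 35, 36,
   40, 42, 44, 45, 48, 55, 56, 60, 63, 64, 66, 70, 72, 77, 80, 84, 88, 90, 96, 99, 105, 110, 112,
   120, 126, 128, 132, 140, 144, 154, 160, 165, 168, 176, 180, 192, 198, 210, 220, 224, 231, 240,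
   252, 264, 280, 288, 308, 315, 320, 330, 336, 352, 360, 384, 385, 396, 420, 440, 448, 462, 480,
   495, 504, 528, 560, 576, 616, 630, 640, 660, 672, 693, 704, 720, 770, 792, 840, 880, 896, 924,
   960, 990, 1008, 1056, 1120, 1152, 1155, 1232, 1260, 1320, 1344, 1386, 1408, 1440, 1540, 1584,
   1680, 1760, 1848, 1920, 1980, 2016, 2112, 2240, 2310, 2464, 2520, 2640, 2688, 2772, 2880, 3080,
   3168, 3360, 3465, 3520, 3696, 3960, 4032, 4224, 4480, 4620, 4928, 5040, 5280, 5544, 5760, 6160,
   6336, 6720, 6930, 7040, 7392, 7920, 8064, 9240, 9856, 10080, 10560, 11088, 12320, 12672, 13440,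
   13860, 14784, 15840, 18480, 20160, 21120, 22176, 24640, 27720, 29568, 31680, 36960, 40320,
   44352, 49280, 55440, 63360, 73920, 88704, 110880, 147840, 221760, 443520]

theorem mem_divN {d : ℕ} (h : d ∣ ord22) : d ∈ divN := by
  have key : ∀ a ∈ List.range 8, ∀ b ∈ List.range 3, ∀ c ∈ List.range 2, ∀ f ∈ List.range 2,
      ∀ g ∈ List.range 2, 2 ^ a * (3 ^ b * (5 ^ c * (7 ^ f * 11 ^ g))) ∈ divN := by decide +kernel
  rw [show ord22 = 2 ^ 7 * (3 ^ 2 * (5 ^ 1 * (7 ^ 1 * 11 ^ 1))) from rfl] at h
  obtain ⟨a₀, r₁, ha, h₁, rfl⟩ := exists_dvd_and_dvd_of_dvd_mul h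
  obtain ⟨b₀, r₂, hb, h₂, rfl⟩ := exists_dvd_and_dvd_of_dvd_mul h₁
  obtain ⟨c₀, r₃, hc, h₃, rfl⟩ := exists_dvd_and_dvd_of_dvd_mul h₂
  obtain ⟨f₀, g₀, hf, hg, rfl⟩ := exists_dvd_and_dvd_of_dvd_mul h₃
  obtain ⟨a, ha', rfl⟩ := (Nat.dvd_prime_pow Nat.prime_two).1 ha
  obtain ⟨b, hb', rfl⟩ := (Nat.dvd_prime_pow Nat.prime_three).1 hb
  obtain ⟨c, hc', rfl⟩ := (Nat.dvd_prime_pow Nat.prime_five).1 hc
  obtain ⟨f, hf', rfl⟩ := (Nat.dvd_prime_pow (show Nat.Prime 7 by norm_num)).1 hf
  obtain ⟨g, hg', rfl⟩ := (Nat.dvd_prime_pow (show Nat.Prime 11 by norm_num)).1 hg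
  exact key a (List.mem_range.2 (by omega)) b (List.mem_range.2 (by omega))
    c (List.mem_range.2 (by omega)) f (List.mem_range.2 (by omega))
    g (List.mem_range.2 (by omega))

theorem divN_sorted : divN.Pairwise (· < ·) := by decide +kernel

/-- The sign of an ordinary member of degree `d`. -/
def sd (p d : ℕ) : ℤ := if d % p == 1 then 1 else -1

/-- Binary digit square root, correct below `4 ^ k`. -/
def rt : ℕ → ℕ → ℕ
  | 0, _ => 0
  | k + 1, n => if (2 * rt k (n / 4) + 1) * (2 * rt k (n / 4) + 1) ≤ n then 2 * rt k (n / 4) + 1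
      else 2 * rt k (n / 4)

theorem rt_spec : ∀ (k n : ℕ), n < 4 ^ k → rt k n * rt k n ≤ n ∧ n < (rt k n + 1) * (rt k n + 1)
  | 0, n, h => by
    simp only [pow_zero, Nat.lt_one_iff] at h
    subst h
    simp [rt]
  | k + 1, n, h => by
    obtain ⟨h1, h2⟩ := rt_spec k (n / 4) (by rw [pow_succ] at h; omega)
    have hd := Nat.div_add_mod n 4
    have hm := Nat.mod_lt n (show 4 > 0 by norm_num)
    simp only [rt]
    split_ifs with hc
    · exact ⟨hc, by nlinarith⟩
    · exact ⟨by nlinarith [Nat.zero_le (n % 4)], by omega⟩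

theorem le_rt {k n m : ℕ} (hn : n < 4 ^ k) (h : m * m ≤ n) : m ≤ rt k n := by
  obtain ⟨-, h2⟩ := rt_spec k n hn
  by_contra hlt
  have : (rt k n + 1) * (rt k n + 1) ≤ m * m := Nat.mul_le_mul (by omega) (by omega)
  omega

theorem rt_sq {k m : ℕ} (h : m * m < 4 ^ k) : rt k (m * m) = m := by
  obtain ⟨h1, -⟩ := rt_spec k (m * m) h
  exact le_antisymm (Nat.mul_self_le_mul_self_iff.1 h1) (le_rt h le_rfl)

/-- Multisets of size `k` from a sorted list, the squares bounded in sum. -/
def msetsGo (f : List ℕ → ℕ → List (List ℕ)) (k : ℕ) : List ℕ → ℕ → List (List ℕ)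
  | [], _ => []
  | d :: D, b => (if d * d * (k + 1) ≤ b then (f (d :: D) (b - d * d)).map (d :: ·) else []) ++
      msetsGo f k D b

/-- Multisets of size `k` from a sorted list, the squares bounded in sum. -/
def msets : ℕ → List ℕ → ℕ → List (List ℕ)
  | 0 => fun _ _ => [[]]
  | k + 1 => msetsGo (msets k) k

theorem mem_msets : ∀ (k : ℕ) (D : List ℕ) (b : ℕ) (L : List ℕ), D.Pairwise (· < ·) →
    L.length = k → (∀ a ∈ L, a ∈ D) → (L.map fun a => a * a).sum ≤ b →
    ∃ l ∈ msets k D b, l.Perm L
  | 0, D, b, L, _, hl, _, _ => by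
    rw [List.length_eq_zero_iff.1 hl]
    exact ⟨[], by simp [msets], List.Perm.refl _⟩
  | k + 1, D, b, L, hD, hl, hmem, hb => by
    simp only [msets]
    induction D with
    | nil =>
      obtain ⟨a, ha⟩ := List.exists_mem_of_length_pos (by omega : 0 < L.length)
      exact absurd (hmem a ha) (List.not_mem_nil)
    | cons d D ih =>
      simp only [msetsGo]
      by_cases hd : d ∈ L
      · have hge : ∀ a ∈ L, d ≤ a := fun a ha => by
          rcases List.mem_cons.1 (hmem a ha) with rfl | h
          · exact le_rfl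
          · exact (List.rel_of_pairwise_cons hD h).le
        have hsum : d * d * (k + 1) ≤ b := le_trans (by
          have := List.card_nsmul_le_sum (L.map fun a => a * a) (d * d) (fun x hx => by
            obtain ⟨a, ha, rfl⟩ := List.mem_map.1 hx
            exact Nat.mul_le_mul (hge a ha) (hge a ha))
          rwa [List.length_map, hl, smul_eq_mul, mul_comm] at this) hb
        have hperm := List.perm_cons_erase hd
        have hs := (hperm.map fun a => a * a).sum_eq
        rw [List.map_cons, List.sum_cons] at hs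
        obtain ⟨l, hl1, hl2⟩ := mem_msets k (d :: D) (b - d * d) (L.erase d) hD
          (by rw [List.length_erase_of_mem hd, hl]; omega)
          (fun a ha => hmem a (List.mem_of_mem_erase ha)) (by omega)
        exact ⟨d :: l, List.mem_append_left _ (by
          rw [if_pos hsum]; exact List.mem_map_of_mem hl1), (hl2.cons d).trans hperm.symm⟩
      · obtain ⟨l, hl1, hl2⟩ := ih (List.Pairwise.of_cons hD) fun a ha => by
          rcases List.mem_cons.1 (hmem a ha) with rfl | h
          · exact absurd ha hd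
          · exact h
        exact ⟨l, List.mem_append_right _ hl1, hl2⟩

/-- The degrees of a row: `ds` with signs, `t` copies of `x`, and the sign of the latter. -/
structure Row where
  /-- ordinary degrees other than the principal one -/
  ds : List ℕ
  /-- exceptional degree -/
  x : ℕ
  /-- exceptional sign -/
  eps : ℤ
  /-- number of exceptional members -/
  t : ℕ
deriving DecidableEq

/-- All nonprincipal degrees of a row, with multiplicity. -/
def Row.degs (r : Row) : List ℕ := r.ds ++ List.replicate r.t r.x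

/-- The right side of the relation on the degrees. -/
def degLin (p : ℕ) (ds : List ℕ) : ℤ := 1 + (ds.map fun d => sd p d * (d : ℤ)).sum

/-- The rows over an allowed degree list. -/
def rows (p e : ℕ) (A : List ℕ) : List Row :=
  (msets (e - 1) (A.filter fun d => (d % p == 1) || (d % p + 1 == p)) (ord22 - 1)).flatMap fun ds =>
    [(1 : ℤ), -1].flatMap fun ε =>
      if (2 ≤ ε * degLin p ds) && ((ε * degLin p ds - ε * e) % (p : ℤ) == 0) &&
          A.contains (ε * degLin p ds).toNat &&
          (decide (1 + (ds.map fun d => d * d).sum +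
            (p - 1) / e * ((ε * degLin p ds).toNat * (ε * degLin p ds).toNat) ≤ ord22))
      then [⟨ds, (ε * degLin p ds).toNat, ε, (p - 1) / e⟩] else []

theorem mem_rows {p e : ℕ} {A : List ℕ} (hA : A.Pairwise (· < ·)) {L : List ℕ} {x : ℕ} {ε : ℤ}
    (hε : ε = 1 ∨ ε = -1) (hl : L.length = e - 1)
    (hL : ∀ d ∈ L, d ∈ A ∧ (d % p = 1 ∨ d % p + 1 = p)) (hx : x ∈ A) (hx2 : 2 ≤ x)
    (hlin : (x : ℤ) = ε * degLin p L) (hdvd : (p : ℤ) ∣ (x : ℤ) - ε * e)
    (hN : 1 + (L.map fun d => d * d).sum + (p - 1) / e * (x * x) ≤ ord22) :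
    ∃ ds, ds.Perm L ∧ (⟨ds, x, ε, (p - 1) / e⟩ : Row) ∈ rows p e A := by
  obtain ⟨ds, hds, hperm⟩ := mem_msets (e - 1)
    (A.filter fun d => (d % p == 1) || (d % p + 1 == p)) (ord22 - 1) L (hA.filter _) hl
    (fun d hd => List.mem_filter.2 ⟨(hL d hd).1, by simp [(hL d hd).2]⟩) (by omega)
  refine ⟨ds, hperm, List.mem_flatMap.2 ⟨ds, hds, List.mem_flatMap.2 ⟨ε, by simpa using hε, ?_⟩⟩⟩
  have h1 : degLin p ds = degLin p L := by simp only [degLin]; rw [(hperm.map _).sum_eq]
  have h2 : (ds.map fun d => d * d).sum = (L.map fun d => d * d).sum := (hperm.map _).sum_eq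
  rw [h1, h2, ← hlin, Int.toNat_natCast, if_pos]
  · exact List.mem_singleton.2 rfl
  · simp only [Bool.and_eq_true, decide_eq_true_eq, beq_iff_eq, List.contains_iff_mem]
    exact ⟨⟨⟨by exact_mod_cast hx2, Int.emod_eq_zero_of_dvd hdvd⟩, hx⟩, hN⟩

/-- Possible values at a degree: congruent to it modulo `mo`, integral class value, bounded. -/
def opts (mo C b d : ℕ) : List ℤ :=
  ((List.range (2 * (min (rt 9 b) (d - 1) / (d / Nat.gcd (ord22 / C) d)) + 1)).map fun i : ℕ =>
    ((i : ℤ) - (min (rt 9 b) (d - 1) / (d / Nat.gcd (ord22 / C) d) : ℕ)) *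
      (d / Nat.gcd (ord22 / C) d : ℕ)).filter fun v => (v - d) % (mo : ℤ) == 0

theorem mem_opts {mo C b d : ℕ} {v : ℤ} (hb : b < 4 ^ 9) (hv : v.natAbs < d)
    (hvb : v * v ≤ b) (hmo : (mo : ℤ) ∣ v - d) (hK : (d : ℤ) ∣ ((ord22 / C : ℕ) : ℤ) * v) :
    v ∈ opts mo C b d := by
  set m := d / Nat.gcd (ord22 / C) d with hm
  have hd : 0 < d := by omega
  have hmv : (m : ℤ) ∣ v := by
    have hg : 0 < Nat.gcd (ord22 / C) d := Nat.gcd_pos_of_pos_right _ hd
    have h1 : d ∣ (ord22 / C) * v.natAbs := by
      have := Int.natAbs_dvd_natAbs.2 hK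
      rwa [Int.natAbs_mul, Int.natAbs_natCast, Int.natAbs_natCast] at this
    obtain ⟨K', hK'⟩ := Nat.gcd_dvd_left (ord22 / C) d
    obtain ⟨d', hd'⟩ := Nat.gcd_dvd_right (ord22 / C) d
    have hco : Nat.Coprime d' K' := by
      have h := Nat.coprime_div_gcd_div_gcd hg
      rw [Nat.div_eq_of_eq_mul_right hg hK', Nat.div_eq_of_eq_mul_right hg hd'] at h
      exact h.symm
    rw [hm, Nat.div_eq_of_eq_mul_right hg hd']
    rw [hK', mul_assoc] at h1
    nth_rw 1 [hd'] at h1
    exact Int.natCast_dvd.2 (hco.dvd_of_dvd_mul_left (Nat.dvd_of_mul_dvd_mul_left hg h1))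
  obtain ⟨q, rfl⟩ := hmv
  have hm0 : 0 < m := Nat.pos_of_ne_zero fun h => by
    rw [hm, Nat.div_eq_zero_iff] at h
    have := Nat.gcd_le_right (n := d) (ord22 / C) hd
    have hg : 0 < Nat.gcd (ord22 / C) d := Nat.gcd_pos_of_pos_right _ hd
    omega
  have hqm : q.natAbs * m ≤ min (rt 9 b) (d - 1) := by
    have he : ((m : ℤ) * q).natAbs = q.natAbs * m := by
      rw [Int.natAbs_mul, Int.natAbs_natCast, mul_comm]
    refine le_min (le_rt hb ?_) (by omega)
    have h2 : (((m : ℤ) * q).natAbs * ((m : ℤ) * q).natAbs : ℕ) ≤ b := by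
      zify
      rw [abs_mul_abs_self]
      exact hvb
    rwa [he] at h2
  have hq : q.natAbs ≤ min (rt 9 b) (d - 1) / m := (Nat.le_div_iff_mul_le hm0).2 hqm
  unfold opts
  rw [← hm]
  refine List.mem_filter.2 ⟨List.mem_map.2 ⟨(q + (min (rt 9 b) (d - 1) / m : ℕ)).toNat,
    List.mem_range.2 (by omega), ?_⟩, by simpa using Int.emod_eq_zero_of_dvd hmo⟩
  rw [Int.toNat_of_nonneg (by omega)]
  ring

/-- The members of `L` not divisible by `q`. -/
def nm {α : Type*} (deg : α → ℕ) (q : ℕ) (L : List α) : List α :=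
  L.filter fun a => ¬ deg a % q == 0

/-- Inclusion with multiplicity. -/
def leL {α : Type*} [BEq α] (a b : List α) : Bool := a.all fun x => a.count x ≤ b.count x

theorem leL_of_le {α : Type*} [BEq α] [LawfulBEq α] {a b : List α}
    (h : (a : Multiset α) ≤ (b : Multiset α)) : leL a b = true := by
  classical
  simp only [leL, List.all_eq_true, decide_eq_true_eq]
  intro x _
  exact (Multiset.coe_le.1 h).count_le x

/-- The values allowed at a position once some members of the row are known. -/
def optsF (mo C b : ℕ) (mem : List ℕ) (known : List (ℕ × ℤ)) (d : ℕ) : List ℤ :=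
  if mem.count d ≤ (known.map Prod.fst).count d then
    (known.filter fun a => a.1 == d).map Prod.snd
  else opts mo C b d

/-- All vectors from option lists with bounded sum of squares. -/
def vecs : List (List ℤ) → ℕ → List (List ℤ)
  | [], _ => [[]]
  | o :: os, b => o.flatMap fun v =>
      if v.natAbs * v.natAbs ≤ b then (vecs os (b - v.natAbs * v.natAbs)).map (v :: ·) else []

theorem mem_vecs : ∀ (os : List (List ℤ)) (vs : List ℤ) (b : ℕ),
    List.Forall₂ (fun v o => v ∈ o) vs os → (vs.map fun v => v.natAbs * v.natAbs).sum ≤ b →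
    vs ∈ vecs os b
  | [], vs, b, h, _ => by cases h; simp [vecs]
  | o :: os, vs, b, h, hs => by
    cases h with
    | @cons v _ vs' _ hv h' =>
      simp only [List.map_cons, List.sum_cons] at hs
      refine List.mem_flatMap.2 ⟨v, hv, ?_⟩
      rw [if_pos (by omega)]
      exact List.mem_map_of_mem (mem_vecs os vs' _ h' (by omega))

/-- The right side of the relation on the values. -/
def valLin (p : ℕ) (it : List (ℕ × ℤ)) : ℤ := 1 + (it.map fun a => sd p a.1 * a.2).sum

/-- The common denominator. -/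
def degProd (it : List (ℕ × ℤ)) (x : ℕ) : ℕ := x * (it.map Prod.fst).prod

/-- The numerator of the class multiplication sum. -/
def quadNum (p : ℕ) (it : List (ℕ × ℤ)) (x : ℕ) (ε w : ℤ) : ℤ :=
  (degProd it x : ℤ) + (it.map fun a => sd p a.1 * (a.2 * a.2) *
    ((degProd it x / a.1 : ℕ) : ℤ)).sum - ε * (w * w) * ((degProd it x / x : ℕ) : ℤ)

/-- A perfect square below `4 ^ 20`. -/
def isSq (n : ℕ) : Bool := rt 20 n * rt 20 n == n

/-- The condition on the number of pairs of conjugates with product in the coset. -/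
def quadOK (p e c C P : ℕ) (Q : ℤ) : Bool :=
  (0 ≤ Q) && ((e % 2 == 0) || (Q == 0)) && (ord22 * c * Q.toNat % (C * C * P) == 0) &&
    isSq (p * (ord22 * c * Q.toNat / (C * C * P)))

/-- Fill a row with values. -/
def fill (p e c mo C b : ℕ) (r : Row) (known : List (ℕ × ℤ)) : List (List (ℕ × ℤ)) :=
  (vecs (r.ds.map (optsF mo C b r.degs known)) b).flatMap fun vs =>
    if (decide ((r.eps * valLin p (r.ds.zip vs)).natAbs < r.x)) &&
      ((r.eps * valLin p (r.ds.zip vs) - r.x) % (mo : ℤ) == 0) &&
      (((ord22 / C : ℕ) : ℤ) * (r.eps * valLin p (r.ds.zip vs)) % (r.x : ℤ) == 0) &&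
      (decide ((vs.map fun v => v.natAbs * v.natAbs).sum + r.t *
        ((r.eps * valLin p (r.ds.zip vs)).natAbs * (r.eps * valLin p (r.ds.zip vs)).natAbs) ≤ b)) &&
      quadOK p e c C (degProd (r.ds.zip vs) r.x)
        (quadNum p (r.ds.zip vs) r.x r.eps (r.eps * valLin p (r.ds.zip vs))) &&
      leL known (r.ds.zip vs ++ List.replicate r.t (r.x, r.eps * valLin p (r.ds.zip vs)))
    then [r.ds.zip vs ++ List.replicate r.t (r.x, r.eps * valLin p (r.ds.zip vs))] else []

/-- What a filled row must satisfy. -/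
structure Filled (p e c mo C b : ℕ) (r : Row) (known : List (ℕ × ℤ)) (it : List (ℕ × ℤ)) (w : ℤ) :
    Prop where
  fst : it.map Prod.fst = r.ds
  bound : b < 4 ^ 9
  val : ∀ a ∈ it, a.2.natAbs < a.1 ∧ (mo : ℤ) ∣ a.2 - a.1 ∧
    (a.1 : ℤ) ∣ ((ord22 / C : ℕ) : ℤ) * a.2
  valw : w.natAbs < r.x ∧ (mo : ℤ) ∣ w - r.x ∧ (r.x : ℤ) ∣ ((ord22 / C : ℕ) : ℤ) * w
  rel : w = r.eps * valLin p it
  sq : (it.map fun a => a.2.natAbs * a.2.natAbs).sum + r.t * (w.natAbs * w.natAbs) ≤ b
  quad : quadOK p e c C (degProd it r.x) (quadNum p it r.x r.eps w) = true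
  known_le : (known : Multiset (ℕ × ℤ)) ≤ ((it ++ List.replicate r.t (r.x, w) : List (ℕ × ℤ)) :
    Multiset (ℕ × ℤ))

theorem Filled.mem_fill {p e c mo C b : ℕ} {r : Row} {known it : List (ℕ × ℤ)} {w : ℤ}
    (h : Filled p e c mo C b r known it w) :
    it ++ List.replicate r.t (r.x, w) ∈ fill p e c mo C b r known := by
  classical
  have hz : r.ds.zip (it.map Prod.snd) = it := by
    rw [← h.fst, List.zip_map', List.map_id'']
    exact fun a => rfl
  refine List.mem_flatMap.2 ⟨it.map Prod.snd, mem_vecs _ _ _ ?_ ?_, ?_⟩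
  · rw [← h.fst, List.map_map, List.forall₂_map_left_iff, List.forall₂_map_right_iff,
      List.forall₂_same]
    intro a ha
    simp only [Function.comp_apply, optsF]
    split_ifs with hcnt
    · -- all members of this degree are known
      set F := it ++ List.replicate r.t (r.x, w) with hF
      have hdegs : r.degs = F.map Prod.fst := by
        rw [hF, List.map_append, List.map_replicate, h.fst, Row.degs]
      have hle : ((known.filter fun u => u.1 == a.1 : List (ℕ × ℤ)) : Multiset (ℕ × ℤ)) ≤
          ((F.filter fun u => u.1 == a.1 : List (ℕ × ℤ)) : Multiset (ℕ × ℤ)) := by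
        have := Multiset.filter_le_filter (fun u : ℕ × ℤ => u.1 == a.1) h.known_le
        rw [Multiset.filter_coe, Multiset.filter_coe] at this
        simpa only [Bool.decide_eq_true] using this
      have hlen : ∀ l : List (ℕ × ℤ), (l.filter fun u => u.1 == a.1).length =
          (l.map Prod.fst).count a.1 := fun l => by
        rw [List.count, List.countP_map, List.countP_eq_length_filter]
        rfl
      have heq := Multiset.eq_of_le_of_card_le hle (by
        simp only [Multiset.coe_card, hlen]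
        rw [← hdegs]
        exact hcnt)
      have hmem : a ∈ F.filter fun u => u.1 == a.1 := by
        rw [List.mem_filter, hF]
        exact ⟨List.mem_append_left _ ha, by simp⟩
      rw [← Multiset.mem_coe, ← heq, Multiset.mem_coe] at hmem
      exact List.mem_map_of_mem hmem
    · refine mem_opts h.bound (h.val a ha).1 ?_ (h.val a ha).2.1 (h.val a ha).2.2
      have h1 := List.single_le_sum (l := it.map fun a => a.2.natAbs * a.2.natAbs)
        (fun _ _ => Nat.zero_le _) _ (List.mem_map_of_mem ha)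
      have h2 : a.2.natAbs * a.2.natAbs ≤ b := le_trans h1 (le_trans (Nat.le_add_right _ _) h.sq)
      rw [← Int.natAbs_mul_self]
      exact_mod_cast h2
  · rw [List.map_map]
    exact le_trans (Nat.le_add_right _ _) h.sq
  · rw [hz, ← h.rel, if_pos]
    · exact List.mem_singleton.2 rfl
    · simp only [Bool.and_eq_true, decide_eq_true_eq, beq_iff_eq, List.map_map]
      exact ⟨⟨⟨⟨⟨h.valw.1, Int.emod_eq_zero_of_dvd h.valw.2.1⟩,
        Int.emod_eq_zero_of_dvd h.valw.2.2⟩, h.sq⟩, h.quad⟩, leL_of_le h.known_le⟩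

/-- Degrees of nonprincipal characters. -/
def degA : List ℕ := divN.filter fun d => decide (2 ≤ d) && decide (d * d < ord22)

/-- Degrees of nonprincipal characters once the centraliser of order eleven is small. -/
def degB : List ℕ := degA.filter fun d => (d % 11 == 0) || (d % 11 == 1) || (d % 11 == 10) ||
  (((d % 11 == 5) || (d % 11 == 6)) && decide (2 * (d * d) < ord22))

/-- Degrees allowed in a block with regular part of order `c`. -/
def allowed (p c : ℕ) (A : List ℕ) : List ℕ :=
  A.filter fun d => (!(c % 3 == 0) || !(d % 9 == 0)) &&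
    (!(c % 5 == 0) || (p == 5) || !(d % 5 == 0)) && (!(c % 7 == 0) || (p == 7) || !(d % 7 == 0)) &&
    (!(c % 2 == 0) || decide (2 * p < d))

theorem allowed_sorted (p c : ℕ) {A : List ℕ} (hA : A.Pairwise (· < ·)) :
    (allowed p c A).Pairwise (· < ·) := hA.filter _

theorem degA_sorted : degA.Pairwise (· < ·) := divN_sorted.filter _

theorem degB_sorted : degB.Pairwise (· < ·) := degA_sorted.filter _

/-- The options `(e, c)` for the automiser and the regular part at `p`. -/
def optsEC (p : ℕ) : List (ℕ × ℕ) :=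
  ((List.range p).filter fun e => decide (0 < e) && ((p - 1) % e == 0)).flatMap fun e =>
    (divN.filter fun c => !(c % p == 0) && ((p == 11) || !(c % 11 == 0)) &&
      (ord22 % (e * c * p) == 0) && (ord22 / (e * c * p) % p == 1) &&
      !(ord22 / (e * c * p) == 1)).map fun c => (e, c)

/-- Possible orders of the centraliser of the chosen involution. -/
def cents (p e c : ℕ) : List ℕ :=
  divN.filter fun C => (C % (2 * p) == 0) && decide (C ≤ 40320) &&
    (C % (p * Nat.gcd c 128) == 0) &&
    divN.any fun m => (m % (p * Nat.gcd c 128) == 0) && (p * c * e % m == 0) && (C % m == 0) &&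
      (C / m % p == 1)

/-- The first stage: a block and the values at an involution centralising the defect group. -/
def stage (p e c : ℕ) (A : List ℕ) : List (ℕ × List (ℕ × ℤ)) :=
  (rows p e (allowed p c A)).flatMap fun r => (cents p e c).flatMap fun C =>
    (fill p e c (4 * p) C (C - 1) r []).map fun it => (C, it)

end CfsgLib.MathieuTwentyTwo.ByOrder
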