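import Cfsg.Agent.Lib.MathieuTwentyTwoOrder.Block
import Cfsg.Agent.Lib.MathieuTwentyTwoOrder.Search
import Cfsg.Agent.Lib.Small.Order4320
import Cfsg.Agent.Lib.MathieuTwelve.Values
import Cfsg.Agent.Lib.Recog.DegreeMultisetBasic
import Cfsg.Agent.Lib.CharCorr.CyclicSigns

/-!
# Facts about a simple group of order 443520: degrees, values at involutions, regular parts
-/

set_option autoImplicit false
set_option linter.style.haveILetI false
set_option linter.unusedSectionVars false

noncomputable section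

namespace CfsgLib.MathieuTwentyTwo.ByOrder

open Cfsg CfsgLib.Characters CfsgLib.CharCorr
open scoped ComplexConjugate Classical

universe u

variable {G : Type u} [Group G] [Fintype G] [IsSimpleGroup G]

theorem nc (hG : Nat.card G = ord22) : ¬ IsMulCommutative G :=
  Small.nc_of_not_prime (by rw [hG, ord22]; norm_num)

theorem card_sylow_eq (hG : Nat.card G = ord22) {p : ℕ} [Fact p.Prime]
    (hp : p = 5 ∨ p = 7 ∨ p = 11) (P : Sylow p G) : Nat.card (P : Subgroup G) = p :=
  (Small.card_sylow_of_card_eq (k := 1) (m := ord22 / p) (by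
    rcases hp with rfl | rfl | rfl <;> rw [hG, ord22] <;> norm_num) (by
    rcases hp with rfl | rfl | rfl <;> rw [ord22] <;> norm_num) P).trans (pow_one p)

theorem charDegree_principal : charDegree ((principalIrr G : IrrCharacter G) : G → ℂ) = 1 := by
  simp [charDegree, principalIrr]

theorem apply_principal (g : G) : (principalIrr G : G → ℂ) g = 1 := by simp [principalIrr]

theorem dvd_card (hG : Nat.card G = ord22) (χ : IrrCharacter G) :
    charDegree (χ : G → ℂ) ∣ ord22 :=
  hG ▸ (ClassCount.degree_eq χ).2.1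

theorem sum_deg_sq (hG : Nat.card G = ord22) :
    ∑ χ : IrrCharacter G, charDegree (χ : G → ℂ) * charDegree (χ : G → ℂ) = ord22 := by
  have h := column_orth (1 : G) (1 : G)
  rw [if_pos (IsConj.refl 1)] at h
  simp only [irr_one_eq_charDegree, map_natCast, ← Nat.cast_mul, ← Nat.cast_sum] at h
  have h' := Nat.cast_inj.1 h
  rw [h', show Subgroup.centralizer ({(1 : G)} : Set G) = ⊤ from top_le_iff.1 fun g _ =>
    Subgroup.mem_centralizer_singleton_iff.2 (by simp), Subgroup.card_top, hG]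

theorem deg_mem (hG : Nat.card G = ord22) {χ : IrrCharacter G} (hne : χ ≠ principalIrr G) :
    charDegree (χ : G → ℂ) ∈ degA := by
  have hle : ∑ ψ ∈ ({principalIrr G, χ} : Finset (IrrCharacter G)),
      charDegree (ψ : G → ℂ) * charDegree (ψ : G → ℂ) ≤ ord22 :=
    (Finset.sum_le_sum_of_subset (Finset.subset_univ _)).trans (sum_deg_sq hG).le
  rw [Finset.sum_pair hne.symm, charDegree_principal] at hle
  have h1 : charDegree (χ : G → ℂ) ≠ 1 := fun h =>
    hne (Order7920.eq_principal_of_charDegree_one (nc hG) h)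
  have h0 := (ClassCount.degree_eq χ).2.2
  refine List.mem_filter.2 ⟨mem_divN (dvd_card hG χ), ?_⟩
  simp only [Bool.and_eq_true, decide_eq_true_eq]
  omega

/-- The integer value at an involution. -/
def val (z : G) (χ : IrrCharacter G) : ℤ :=
  if h : ∃ v : ℤ, (χ : G → ℂ) z = (v : ℂ) then h.choose else 0

theorem apply_eq_val (hG : Nat.card G = ord22) {z : G} (hz : orderOf z = 2) (χ : IrrCharacter G) :
    (χ : G → ℂ) z = (val z χ : ℂ) := by
  have h : ∃ v : ℤ, (χ : G → ℂ) z = (v : ℂ) := by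
    by_cases hne : χ = principalIrr G
    · exact ⟨1, by rw [hne, apply_principal]; norm_num⟩
    · obtain ⟨v, hv, -⟩ :=
        Small.Order4320.value_involution (nc hG) hne hz (irr_one_eq_charDegree χ)
      exact ⟨v, hv⟩
  rw [val, dif_pos h]
  exact h.choose_spec

theorem val_principal (hG : Nat.card G = ord22) {z : G} (hz : orderOf z = 2) :
    val z (principalIrr G) = 1 := by
  have h := apply_eq_val hG hz (principalIrr G)
  rw [apply_principal] at h
  exact_mod_cast h.symm

theorem val_bound (hG : Nat.card G = ord22) {z : G} (hz : orderOf z = 2) {χ : IrrCharacter G}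
    (hne : χ ≠ principalIrr G) :
    (val z χ).natAbs < charDegree (χ : G → ℂ) ∧
      (4 : ℤ) ∣ val z χ - (charDegree (χ : G → ℂ) : ℤ) := by
  obtain ⟨v, hv, h4, hlt⟩ :=
    Small.Order4320.value_involution (nc hG) hne hz (irr_one_eq_charDegree χ)
  have : val z χ = v := by
    have h := apply_eq_val hG hz χ
    rw [hv] at h
    exact_mod_cast h.symm
  subst this
  refine ⟨?_, by omega⟩
  have h2 : (((val z χ).natAbs : ℤ)) ^ 2 < ((charDegree (χ : G → ℂ) : ℕ) : ℤ) ^ 2 := by
    rwa [Int.natAbs_sq]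
  exact Nat.pow_lt_pow_iff_left two_ne_zero |>.1 (by exact_mod_cast h2)

theorem dvd_val (hG : Nat.card G = ord22) {z : G} (hz : orderOf z = 2) (χ : IrrCharacter G) :
    (charDegree (χ : G → ℂ) : ℤ) ∣
      ((ord22 / Nat.card (Subgroup.centralizer ({z} : Set G)) : ℕ) : ℤ) * val z χ := by
  have h := MathieuTwelve.dvd_index_mul χ z (apply_eq_val hG hz χ)
  have hm := (Subgroup.centralizer ({z} : Set G)).index_mul_card
  rw [hG] at hm
  rwa [← hm, Nat.mul_div_cancel _ Nat.card_pos]

theorem sum_val_sq (hG : Nat.card G = ord22) {z : G} (hz : orderOf z = 2)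
    (S : Finset (IrrCharacter G)) :
    ∑ χ ∈ S, (val z χ).natAbs * (val z χ).natAbs ≤
      Nat.card (Subgroup.centralizer ({z} : Set G)) := by
  refine (Finset.sum_le_sum_of_subset (Finset.subset_univ S)).trans (le_of_eq ?_)
  have h := MathieuTwelve.sum_sq_eq z (v := val z) (apply_eq_val hG hz)
  zify
  simp only [abs_mul_abs_self]
  exact h

theorem centralizer_le (hG : Nat.card G = ord22) {z : G} (hz : z ≠ 1) :
    Nat.card (Subgroup.centralizer ({z} : Set G)) ≤ 40320 := by
  have hne : Subgroup.centralizer ({z} : Set G) ≠ ⊤ := fun h => by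
    have hzc : z ∈ Subgroup.center G := Subgroup.mem_center_iff.2 fun g =>
      Subgroup.mem_centralizer_singleton_iff.1 (h ▸ Subgroup.mem_top g)
    rw [Small.center_eq_bot_of_nc (nc hG)] at hzc
    exact hz hzc
  have h := Small.two_mul_card_le_factorial_index (nc hG) hne
  have hm := (Subgroup.centralizer ({z} : Set G)).index_mul_card
  rw [hG] at h hm
  have h11 : 11 ≤ (Subgroup.centralizer ({z} : Set G)).index := by
    by_contra hlt
    rw [not_le] at hlt
    have hd := Small.two_mul_card_dvd_factorial_index (nc hG) hne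
    rw [hG] at hd
    have h10 : (Subgroup.centralizer ({z} : Set G)).index.factorial ∣ Nat.factorial 10 :=
      Nat.factorial_dvd_factorial (by omega)
    exact absurd (hd.trans h10) (by rw [ord22]; decide +kernel)
  rw [ord22] at hm
  nlinarith

variable {p : ℕ} [hp : Fact p.Prime]

theorem orderOf_eq_p {P : Sylow p G} (hP : Nat.card (P : Subgroup G) = p) {x : G}
    (hx : x ∈ (P : Subgroup G)) (hx1 : x ≠ 1) : orderOf x = p := by
  have h := orderOf_dvd_natCard (⟨x, hx⟩ : (P : Subgroup G))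
  rw [hP, Subgroup.orderOf_mk] at h
  exact (hp.out.eq_one_or_self_of_dvd _ h).resolve_left fun h1 => hx1 (orderOf_eq_one_iff.1 h1)

theorem commute_regPart {P : Sylow p G} {x y : G} (hx : x ∈ (P : Subgroup G))
    (hy : y ∈ regPart P) : Commute x y :=
  Subgroup.mem_centralizer_iff.1 (mem_regPart.1 hy).1 x hx

theorem inv_mem_regPart {P : Sylow p G} {y : G} (hy : y ∈ regPart P) : y⁻¹ ∈ regPart P := by
  rw [mem_regPart] at hy ⊢
  exact ⟨inv_mem hy.1, by rw [orderOf_inv]; exact hy.2⟩

/-- A prime divisor of the order of the regular part is the order of one of its elements. -/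
theorem exists_regPart_orderOf {P : Sylow p G} (hP : Nat.card (P : Subgroup G) = p) {q : ℕ}
    (hq : q.Prime) (hqp : q ≠ p) (hd : q ∣ (regPart P).card) :
    ∃ y ∈ regPart P, orderOf y = q := by
  haveI := Fact.mk hq
  obtain ⟨⟨y, hy⟩, ho⟩ := exists_prime_orderOf_dvd_card'
    (G := Subgroup.centralizer ((P : Subgroup G) : Set G)) q
    (by rw [card_centralizer P hP]; exact hd.mul_left p)
  rw [Subgroup.orderOf_mk] at ho
  refine ⟨y, mem_regPart.2 ⟨hy, fun h => hqp ?_⟩, ho⟩
  rw [ho] at h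
  exact ((Nat.prime_dvd_prime_iff_eq hp.out hq).1 h).symm

/-- The degree of a character of the block has no full `q`-part when `q` divides the order of the
regular part. -/
theorem not_dvd_deg (hG : Nat.card G = ord22) {P : Sylow p G}
    (hP : Nat.card (P : Subgroup G) = p) {e : ℕ} (B : Blk P e) {q : ℕ} (hq : q.Prime)
    (hqp : q ≠ p) (hd : q ∣ (regPart P).card) {a b : ℕ} (hab : ord22 = a * b) (hb : ¬ q ∣ b)
    {χ : IrrCharacter G} (hχ : χ ∈ B.X ∨ χ ∈ B.Y) : ¬ a ∣ charDegree (χ : G → ℂ) := by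
  intro ha
  obtain ⟨y, hy, hoy⟩ := exists_regPart_orderOf hP hq hqp hd
  obtain ⟨x, hx, hx1⟩ := exists_mem_ne_one P hP
  have hcop : (orderOf x).Coprime (orderOf y) := by
    rw [orderOf_eq_p hP hx hx1, hoy]
    exact (Nat.coprime_primes hp.out hq).2 hqp.symm
  have hord : q ∣ orderOf (x * y) := by
    rw [(commute_regPart hx hy).orderOf_mul_eq_mul_orderOf_of_coprime hcop, hoy]
    exact dvd_mul_left q _
  have hv : ∀ ψ : IrrCharacter G, a ∣ charDegree (ψ : G → ℂ) → (ψ : G → ℂ) (x * y) = 0 :=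
    fun ψ h => Recog.DegreeMultiset.vanish_of_ordProj_dvd hq (hG.trans hab) hb ψ h hord
  rcases hχ with h | h
  · have h0 := hv χ ha
    rw [B.valX χ h x hx hx1 y hy, Int.cast_eq_zero] at h0
    rcases B.sgn_spec χ h with h' | h' <;> rw [h'] at h0 <;> norm_num at h0
  · have hz : ∀ ψ ∈ B.Y, (ψ : G → ℂ) x = 0 := fun ψ hψ => by
      rw [← B.valY ψ hψ x hx hx1 y hy]
      refine hv ψ ?_
      have h1 := B.regY χ h ψ hψ 1 (by rw [orderOf_one]; exact hp.out.not_dvd_one)
      rw [irr_one_eq_charDegree, irr_one_eq_charDegree, Nat.cast_inj] at h1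
      rwa [← h1]
    have h1 := B.sum_valY hx hx1
    rw [Finset.sum_eq_zero hz] at h1
    have h2 : B.ε = 0 := by exact_mod_cast (neg_eq_zero.1 h1.symm)
    rcases B.ε_spec with h' | h' <;> omega

/-- Integer values at `x * z` and at `z` are congruent. -/
theorem val_modEq (hG : Nat.card G = ord22) (hp2 : p ≠ 2) {x z : G} (hz : orderOf z = 2)
    (hx : orderOf x = p) (hc : Commute x z) (χ : IrrCharacter G) {a : ℤ}
    (ha : (χ : G → ℂ) (x * z) = (a : ℂ)) : (p : ℤ) ∣ val z χ - a := by
  have h2 : z ^ 2 = 1 := hz ▸ pow_orderOf_eq_one z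
  have hxp : x ^ p = 1 := hx ▸ pow_orderOf_eq_one x
  have hpow : (x * z) ^ p = z := by
    rw [hc.mul_pow, hxp, one_mul]
    obtain ⟨k, hk⟩ := hp.out.odd_of_ne_two hp2
    rw [hk, pow_succ, pow_mul, h2, one_pow, one_mul]
  exact Int.modEq_iff_dvd.1 (CyclicSigns.modEq_pow_prime (isCharacter_of_irr χ.2) (x * z) hp.out ha
    (hpow.symm ▸ apply_eq_val hG hz χ))

/-- An involution of the regular part central in a Sylow 2-subgroup of the centraliser. -/
theorem exists_involution (hG : Nat.card G = ord22) (hp2 : p ≠ 2) {P : Sylow p G}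
    (hP : Nat.card (P : Subgroup G) = p) {e : ℕ}
    (hN : Nat.card (Subgroup.centralizer ((P : Subgroup G) : Set G)) * e =
      Nat.card (Subgroup.normalizer ((P : Subgroup G) : Set G)))
    (h2 : 2 ∣ (regPart P).card) :
    ∃ z : G, orderOf z = 2 ∧ z ∈ regPart P ∧
      Nat.card (Subgroup.centralizer ({z} : Set G)) ∈ cents p e (regPart P).card := by
  haveI := Fact.mk Nat.prime_two
  set CP := Subgroup.centralizer ((P : Subgroup G) : Set G) with hCP
  set c := (regPart P).card with hc
  obtain ⟨S⟩ : Nonempty (Sylow 2 CP) := inferInstance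
  set S' := (S : Subgroup CP).map CP.subtype with hS'
  have hS'C : S' ≤ CP := Subgroup.map_subtype_le _
  have hcardS : Nat.card S' = Nat.card (S : Subgroup CP) :=
    Subgroup.card_subtype CP (S : Subgroup CP)
  obtain ⟨k, hk7, hk⟩ := (Nat.dvd_prime_pow Nat.prime_two).1
    (show Nat.gcd c 128 ∣ 2 ^ 7 from Nat.gcd_dvd_right c 128)
  have hkS : 2 ^ k ∣ Nat.card S' := by
    rw [hcardS, S.card_eq_multiplicity, card_centralizer P hP, ← hc]
    refine Nat.pow_dvd_pow 2 ((Nat.prime_two.pow_dvd_iff_le_factorization ?_).1 ?_)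
    · exact mul_ne_zero hp.out.ne_zero (fun h => by
        have := Finset.card_ne_zero_of_mem (one_mem_regPart P); omega)
    · exact (hk ▸ Nat.gcd_dvd_left c 128).mul_left p
  have hS2 : 2 ∣ Nat.card (S : Subgroup CP) :=
    S.dvd_card_of_dvd_card (by rw [card_centralizer P hP, ← hc]; exact h2.mul_left p)
  haveI : Nontrivial (S : Subgroup CP) := by
    rw [← Finite.one_lt_card_iff_nontrivial]
    exact Nat.lt_of_lt_of_le one_lt_two (Nat.le_of_dvd Nat.card_pos hS2)
  have hcn := IsPGroup.center_nontrivial S.isPGroup'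
  obtain ⟨n, hn⟩ := IsPGroup.iff_card.1
    ((S.isPGroup').to_subgroup (Subgroup.center (S : Subgroup CP)))
  obtain ⟨w, hw⟩ := exists_prime_orderOf_dvd_card' (G := Subgroup.center (S : Subgroup CP)) 2 (by
    rw [hn]
    refine dvd_pow_self 2 fun h => ?_
    have := Finite.one_lt_card_iff_nontrivial.2 hcn
    rw [hn, h] at this
    exact lt_irrefl _ this)
  set z : G := (((w : (S : Subgroup CP)) : CP) : G) with hzdef
  have hz : orderOf z = 2 := by
    rw [hzdef, Subgroup.orderOf_coe, Subgroup.orderOf_coe, Subgroup.orderOf_coe, hw]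
  have hzC : z ∈ CP := ((w : (S : Subgroup CP)) : CP).2
  have hzreg : z ∈ regPart P := mem_regPart.2 ⟨hzC, by
    rw [hz]
    exact fun h => hp2 ((Nat.prime_dvd_prime_iff_eq hp.out Nat.prime_two).1 h)⟩
  set H := Subgroup.centralizer ({z} : Set G) with hH
  set NP := Subgroup.normalizer ((P : Subgroup G) : Set G) with hNP
  have hSH : S' ≤ H := by
    rintro s ⟨s', hs', rfl⟩
    refine Subgroup.mem_centralizer_singleton_iff.2 ?_
    have h := congrArg (fun t : (S : Subgroup CP) => ((t : CP) : G))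
      (Subgroup.mem_center_iff.1 w.2 ⟨s', hs'⟩)
    exact h
  have hPH : (P : Subgroup G) ≤ H := fun x hx =>
    Subgroup.mem_centralizer_singleton_iff.2 (commute_regPart hx hzreg)
  have hSN : S' ≤ NP ⊓ H :=
    le_inf (hS'C.trans (Small.centralizer_le_normalizer' _)) hSH
  have hPN : (P : Subgroup G) ≤ NP ⊓ H := le_inf Subgroup.le_normalizer hPH
  set m := Nat.card (NP ⊓ H : Subgroup G) with hm
  have hpm : p * Nat.gcd c 128 ∣ m := by
    refine Nat.Coprime.mul_dvd_of_dvd_of_dvd ?_ (hP.symm.dvd.trans (Subgroup.card_dvd_of_le hPN))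
      (hk ▸ hkS.trans (Subgroup.card_dvd_of_le hSN))
    rw [hk]
    exact Nat.Coprime.pow_right k ((Nat.coprime_primes hp.out Nat.prime_two).2 hp2)
  have hmH : m ∣ Nat.card H := Subgroup.card_dvd_of_le inf_le_right
  have hmN : m ∣ p * c * e := by
    rw [← card_centralizer P hP, hN]
    exact Subgroup.card_dvd_of_le inf_le_left
  -- Sylow's congruence in the centraliser of the involution
  let Q : Sylow p H := P.subtype hPH
  have hQN : Subgroup.normalizer ((Q : Set H)) = (NP ⊓ H).subgroupOf H := by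
    ext t
    simp only [Subgroup.mem_subgroupOf, Subgroup.mem_inf, Subgroup.mem_normalizer_iff, Q,
      hNP]
    refine ⟨fun h => ⟨fun y => ⟨fun hy => ?_, fun hy => ?_⟩, t.2⟩, fun h y => h.1 y⟩
    · exact (h ⟨y, hPH hy⟩).1 hy
    · have h' : ((t : G)⁻¹ * ((t : G) * y * (t : G)⁻¹) * (t : G)) ∈ H :=
        mul_mem (mul_mem (inv_mem t.2) (hPH hy)) t.2
      rw [show (t : G)⁻¹ * ((t : G) * y * (t : G)⁻¹) * (t : G) = y by group] at h'
      exact (h ⟨y, h'⟩).2 hy
  have hsyl : Nat.card H = Nat.card (Sylow p H) * m := by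
    rw [Q.card_eq_index_normalizer, hQN, hm,
      ← Nat.card_congr (Subgroup.subgroupOfEquivOfLe
        (inf_le_right : NP ⊓ H ≤ H)).toEquiv, Subgroup.index_mul_card]
  have hn1 : Nat.card H / m % p = 1 := by
    rw [hsyl, Nat.mul_div_cancel _ Nat.card_pos, card_sylow_modEq_one p H,
      Nat.mod_eq_of_lt hp.out.one_lt]
  refine ⟨z, hz, hzreg, List.mem_filter.2 ⟨mem_divN (hG ▸ Subgroup.card_subgroup_dvd_card H), ?_⟩⟩
  simp only [Bool.and_eq_true, decide_eq_true_eq, beq_iff_eq, List.any_eq_true]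
  refine ⟨⟨⟨Nat.mod_eq_zero_of_dvd ?_, centralizer_le hG (fun h => by
    rw [h, orderOf_one] at hz; norm_num at hz)⟩, Nat.mod_eq_zero_of_dvd (hpm.trans hmH)⟩, m,
    mem_divN (hG ▸ Subgroup.card_subgroup_dvd_card _), ⟨⟨Nat.mod_eq_zero_of_dvd hpm,
      Nat.mod_eq_zero_of_dvd hmN⟩, Nat.mod_eq_zero_of_dvd hmH⟩, hn1⟩
  refine Nat.Coprime.mul_dvd_of_dvd_of_dvd ((Nat.coprime_primes Nat.prime_two hp.out).2 hp2.symm)
    ?_ (hP.symm.dvd.trans (Subgroup.card_dvd_of_le hPH))
  have := Subgroup.orderOf_dvd_natCard H (x := z) (Subgroup.mem_centralizer_singleton_iff.2 rfl)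
  rwa [hz] at this

/-- The options for the automiser and the regular part. -/
theorem mem_optsEC (hG : Nat.card G = ord22) (hp' : p = 5 ∨ p = 7 ∨ p = 11) (P : Sylow p G)
    (h11 : p ≠ 11 → ∀ y : G, orderOf y = 11 →
      Nat.card (Subgroup.centralizer ({y} : Set G)) = 11) :
    ∃ e : ℕ, 1 < e ∧ (e, (regPart P).card) ∈ optsEC p ∧
      (Subgroup.centralizer ((P : Subgroup G) : Set G)).relIndex
        (Subgroup.normalizer ((P : Subgroup G) : Set G)) = e ∧
      Nat.card (Subgroup.centralizer ((P : Subgroup G) : Set G)) * e =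
        Nat.card (Subgroup.normalizer ((P : Subgroup G) : Set G)) := by
  have hP := card_sylow_eq hG hp' P
  obtain ⟨e, he1, hed, -, hN, hall⟩ := Small.sylow_prime_order_data (nc hG) P hP
  refine ⟨e, he1, ?_, ?_, hN⟩
  swap
  · exact Nat.eq_of_mul_eq_mul_left Nat.card_pos
      ((Small.card_centralizer_mul_relIndex (P : Subgroup G)).trans hN.symm)
  set c := (regPart P).card with hc
  rw [card_centralizer P hP, ← hc, hG] at hall
  have hn := card_sylow_modEq_one p G
  have hn1 := Small.one_lt_card_sylow (p := p) (nc hG) (hG ▸ ⟨c * e * Nat.card (Sylow p G), by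
    rw [← hall]; ring⟩)
  have hdiv : ord22 / (e * c * p) = Nat.card (Sylow p G) := by
    refine Nat.div_eq_of_eq_mul_right (Nat.pos_of_ne_zero ?_) (by rw [← hall]; ring)
    intro h
    rw [show p * c * e = e * c * p by ring, h] at hall
    rw [ord22] at hall
    omega
  refine List.mem_flatMap.2 ⟨e, List.mem_filter.2 ⟨List.mem_range.2 ?_, ?_⟩,
    List.mem_map.2 ⟨c, List.mem_filter.2 ⟨mem_divN ⟨p * e * Nat.card (Sylow p G), by
      rw [← hall]; ring⟩, ?_⟩, rfl⟩⟩
  · have := Nat.le_of_dvd (by have := hp.out.two_le; omega) hed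
    omega
  · simp only [Bool.and_eq_true, decide_eq_true_eq, beq_iff_eq]
    exact ⟨by omega, Nat.mod_eq_zero_of_dvd hed⟩
  · have hcp : ¬ c % p = 0 := fun h => by
      have hd : p ^ 2 ∣ ord22 := by
        obtain ⟨t, ht⟩ := Nat.dvd_of_mod_eq_zero h
        exact ⟨t * e * Nat.card (Sylow p G), by rw [← hall, ht]; ring⟩
      rcases hp' with rfl | rfl | rfl <;> rw [ord22] at hd <;> norm_num at hd
    have h11' : p = 11 ∨ ¬ c % 11 = 0 := by
      rw [or_iff_not_imp_left]
      intro hp11 h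
      obtain ⟨y, hy, hoy⟩ := exists_regPart_orderOf hP (by norm_num) (Ne.symm hp11)
        (Nat.dvd_of_mod_eq_zero h)
      obtain ⟨x, hx, hx1⟩ := exists_mem_ne_one P hP
      have hd := Subgroup.orderOf_dvd_natCard (Subgroup.centralizer ({y} : Set G)) (x := x)
        (Subgroup.mem_centralizer_singleton_iff.2 (commute_regPart hx hy))
      rw [h11 hp11 y hoy, orderOf_eq_p hP hx hx1] at hd
      exact hp11 ((Nat.prime_dvd_prime_iff_eq hp.out (by norm_num)).1 hd)
    simp only [Bool.and_eq_true, Bool.or_eq_true, beq_iff_eq, Bool.not_eq_true', beq_eq_false_iff_ne]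
    refine ⟨⟨⟨⟨hcp, h11'.imp id id⟩, Nat.mod_eq_zero_of_dvd ⟨Nat.card (Sylow p G), by
      rw [← hall]; ring⟩⟩, ?_⟩, by omega⟩
    rw [hdiv, hn, Nat.mod_eq_of_lt hp.out.one_lt]

end CfsgLib.MathieuTwentyTwo.ByOrder
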