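import Cfsg.Agent.Lib.MathieuTwentyTwoOrder.Block

/-!
# Interfaces of the recognition of the Mathieu group of degree twenty two by its order
-/

set_option autoImplicit false

namespace CfsgLib.MathieuTwentyTwo.ByOrder

open Subgroup

universe u

/-- The centralisers and normalisers of the elements of order 5, 7 and 11. -/
structure SmallCent (G : Type u) [Group G] : Prop where
  card : Nat.card G = 443520
  isSimple : IsSimpleGroup G
  centralizer_five : ∀ {y : G}, orderOf y = 5 → Nat.card (centralizer ({y} : Set G)) = 5
  centralizer_seven : ∀ {y : G}, orderOf y = 7 → Nat.card (centralizer ({y} : Set G)) = 7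
  centralizer_eleven : ∀ {y : G}, orderOf y = 11 → Nat.card (centralizer ({y} : Set G)) = 11
  normalizer_five : ∀ {y : G}, orderOf y = 5 →
    Nat.card (normalizer ((zpowers y : Subgroup G) : Set G)) = 20
  normalizer_seven : ∀ {y : G}, orderOf y = 7 →
    Nat.card (normalizer ((zpowers y : Subgroup G) : Set G)) = 21
  normalizer_eleven : ∀ {y : G}, orderOf y = 11 →
    Nat.card (normalizer ((zpowers y : Subgroup G) : Set G)) = 55

end CfsgLib.MathieuTwentyTwo.ByOrder
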