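import Cfsg.Agent.Lib.MathieuTwentyTwoOrder.Facts

/-!
# Pairs of conjugate involutions with product in a coset of the regular part

With `U` the conjugates of the involution inverting the element `x` of order `p`, conjugation by
`x` equidistributes `U × U` over the `p` cosets, so `p` times the number of pairs is `|U| ^ 2`.
The class multiplication formula expresses the number by the principal block.
-/

set_option autoImplicit false
set_option linter.style.haveILetI false
set_option linter.unusedSectionVars false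

noncomputable section

namespace CfsgLib.MathieuTwentyTwo.ByOrder

open Cfsg CfsgLib.Characters CfsgLib.CharCorr CfsgLib.ClassCount
open scoped ComplexConjugate Classical

universe u

variable {G : Type u} [Group G] [Fintype G] {p : ℕ} [hp : Fact p.Prime]

/-- The coset `x O` as a finset. -/
def xCoset (P : Sylow p G) (x : G) : Finset G := (regPart P).image fun y => x * y

/-- The conjugates of `z` inverting `x`. -/
def invSet (z x : G) : Finset G := (cls z).filter fun a => a * x * a = x⁻¹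

theorem mul_self_of_mem {z : G} (hz : orderOf z = 2) {a : G} (ha : a ∈ cls z) : a * a = 1 := by
  obtain ⟨g, rfl⟩ := isConj_iff.1 (mem_cls.1 ha)
  have h2 : z * z = 1 := by rw [← pow_two, ← hz, pow_orderOf_eq_one]
  rw [show g * z * g⁻¹ * (g * z * g⁻¹) = g * (z * z) * g⁻¹ by group, h2, mul_one, mul_inv_cancel]

/-- An element inverting `x y` inverts `x`. -/
theorem conj_eq_inv {P : Sylow p G} (hP : Nat.card (P : Subgroup G) = p) {x y a : G}
    (hx : x ∈ (P : Subgroup G)) (hx1 : x ≠ 1) (hy : y ∈ regPart P) (haa : a * a = 1)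
    (ha : a * (x * y) * a = (x * y)⁻¹) : a * x * a = x⁻¹ := by
  have hc : Commute x y := Subgroup.mem_centralizer_iff.1 (mem_regPart.1 hy).1 x hx
  have hox : orderOf x = p := by
    have h := orderOf_dvd_natCard (⟨x, hx⟩ : (P : Subgroup G))
    rw [hP, Subgroup.orderOf_mk] at h
    exact (hp.out.eq_one_or_self_of_dvd _ h).resolve_left fun h1 => hx1 (orderOf_eq_one_iff.1 h1)
  have hcop : (orderOf y).Coprime p :=
    ((hp.out.coprime_iff_not_dvd).2 (mem_regPart.1 hy).2).symm
  obtain ⟨k, hk1, hk2⟩ := Nat.chineseRemainder hcop 0 1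
  have hpow : (x * y) ^ k = x := by
    rw [hc.mul_pow, show y ^ k = 1 from orderOf_dvd_iff_pow_eq_one.1
      (Nat.modEq_zero_iff_dvd.1 hk1), mul_one]
    rw [← hox] at hk2
    calc x ^ k = x ^ 1 := pow_eq_pow_iff_modEq.2 hk2
      _ = x := pow_one x
  have hainv : a⁻¹ = a := inv_eq_of_mul_eq_one_right haa
  calc a * x * a = a * (x * y) ^ k * a⁻¹ := by rw [hpow, hainv]
    _ = (a * (x * y) * a⁻¹) ^ k := (conj_pow).symm
    _ = ((x * y)⁻¹) ^ k := by rw [hainv, ha]
    _ = x⁻¹ := by rw [inv_pow, hpow]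

/-- The centraliser of the Sylow subgroup is the product with the regular part. -/
theorem exists_pow_mul {P : Sylow p G} (hP : Nat.card (P : Subgroup G) = p) {x : G}
    (hx : x ∈ (P : Subgroup G)) (hx1 : x ≠ 1) :
    Set.InjOn (fun t : ℕ × G => x ^ t.1 * t.2) ↑(Finset.range p ×ˢ regPart P) ∧
      ∀ g : G, Commute g x → ∃ k < p, ∃ y ∈ regPart P, g = x ^ k * y := by
  have hox : orderOf x = p := by
    have h := orderOf_dvd_natCard (⟨x, hx⟩ : (P : Subgroup G))
    rw [hP, Subgroup.orderOf_mk] at h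
    exact (hp.out.eq_one_or_self_of_dvd _ h).resolve_left fun h1 => hx1 (orderOf_eq_one_iff.1 h1)
  have hPz : Subgroup.zpowers x = (P : Subgroup G) :=
    Subgroup.eq_of_le_of_card_ge (Subgroup.zpowers_le.2 hx) (by rw [hP, Nat.card_zpowers, hox])
  have hcomm : ∀ y ∈ regPart P, Commute x y := fun y hy =>
    Subgroup.mem_centralizer_iff.1 (mem_regPart.1 hy).1 x hx
  have hinj : Set.InjOn (fun t : ℕ × G => x ^ t.1 * t.2) ↑(Finset.range p ×ˢ regPart P) := by
    rintro ⟨k, y⟩ h1 ⟨l, y'⟩ h2 he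
    simp only [Finset.coe_product, Set.mem_prod, Finset.coe_range, Set.mem_Iio,
      Finset.mem_coe] at h1 h2 he
    have hn : ∀ n : ℕ, (x ^ k * y) ^ n = (x ^ l * y') ^ n := fun n => by rw [he]
    have h := hn (orderOf y * orderOf y')
    rw [((hcomm y h1.2).pow_left k).mul_pow, ((hcomm y' h2.2).pow_left l).mul_pow, pow_mul y,
      pow_orderOf_eq_one, one_pow, mul_one, mul_comm (orderOf y) (orderOf y'), pow_mul y',
      pow_orderOf_eq_one, one_pow, mul_one, ← pow_mul, ← pow_mul, pow_eq_pow_iff_modEq, hox] at h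
    have hkl : k = l := by
      have hcop : p.Coprime (orderOf y' * orderOf y) := Nat.Coprime.mul_right
        ((hp.out.coprime_iff_not_dvd).2 (mem_regPart.1 h2.2).2)
        ((hp.out.coprime_iff_not_dvd).2 (mem_regPart.1 h1.2).2)
      exact Nat.ModEq.eq_of_lt_of_lt (Nat.ModEq.cancel_right_of_coprime hcop h) h1.1 h2.1
    subst hkl
    exact Prod.ext rfl (mul_left_cancel he)
  refine ⟨hinj, fun g hg => ?_⟩
  have hgC : g ∈ Subgroup.centralizer ((P : Subgroup G) : Set G) := by
    rw [← hPz, Subgroup.zpowers_eq_closure, Subgroup.centralizer_closure]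
    exact Subgroup.mem_centralizer_singleton_iff.2 hg.eq
  have hsub : (Finset.range p ×ˢ regPart P).image (fun t : ℕ × G => x ^ t.1 * t.2) ⊆
      Finset.univ.filter fun g => g ∈ Subgroup.centralizer ((P : Subgroup G) : Set G) := by
    intro g hg
    obtain ⟨⟨k, y⟩, h, rfl⟩ := Finset.mem_image.1 hg
    rw [Finset.mem_product] at h
    refine Finset.mem_filter.2 ⟨Finset.mem_univ _, mul_mem (pow_mem ?_ k) (mem_regPart.1 h.2).1⟩
    refine Subgroup.mem_centralizer_iff.2 fun t ht => ?_
    obtain ⟨i, rfl⟩ := Subgroup.mem_zpowers_iff.1 (hPz.ge ht)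
    exact ((Commute.refl x).zpow_left i).eq
  have heq := Finset.eq_of_subset_of_card_le hsub (by
    rw [Finset.card_image_of_injOn hinj, Finset.card_product, Finset.card_range,
      ← card_centralizer P hP, Nat.card_eq_fintype_card, Fintype.card_subtype])
  have hm := heq.ge (Finset.mem_filter.2 ⟨Finset.mem_univ g, hgC⟩)
  obtain ⟨⟨k, y⟩, h, he⟩ := Finset.mem_image.1 hm
  rw [Finset.mem_product, Finset.mem_range] at h
  exact ⟨k, h.1, y, h.2, he.symm⟩

/-- `p` times the number of pairs is a square, zero for an automiser of odd order. -/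
theorem exists_sq (hodd : p ≠ 2) {P : Sylow p G} (hP : Nat.card (P : Subgroup G) = p) {e : ℕ}
    (he : (Subgroup.centralizer ((P : Subgroup G) : Set G)).relIndex
      (Subgroup.normalizer ((P : Subgroup G) : Set G)) = e)
    {z : G} (hz : orderOf z = 2) {x : G} (hx : x ∈ (P : Subgroup G)) (hx1 : x ≠ 1) :
    ∃ u : ℕ, u ≤ Nat.card G ∧ p * (pairs z z (xCoset P x)).card = u * u ∧
      (e % 2 = 1 → (pairs z z (xCoset P x)).card = 0) := by
  have hox : orderOf x = p := by
    have h := orderOf_dvd_natCard (⟨x, hx⟩ : (P : Subgroup G))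
    rw [hP, Subgroup.orderOf_mk] at h
    exact (hp.out.eq_one_or_self_of_dvd _ h).resolve_left fun h1 => hx1 (orderOf_eq_one_iff.1 h1)
  obtain ⟨hinj, hdec⟩ := exists_pow_mul hP hx hx1
  have hpairs : ∀ a b : G, (a, b) ∈ pairs z z (xCoset P x) →
      a ∈ invSet z x ∧ b ∈ invSet z x ∧ ∃ y ∈ regPart P, a * b = x * y := by
    intro a b h
    obtain ⟨hmem, hT⟩ := Finset.mem_filter.1 h
    obtain ⟨ha, hb⟩ := Finset.mem_product.1 hmem
    obtain ⟨y, hy, hxy⟩ := Finset.mem_image.1 hT
    simp only at hxy ha hb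
    have haa := mul_self_of_mem hz ha
    have hbb := mul_self_of_mem hz hb
    have hi : ∀ c : G, c * c = 1 → c⁻¹ = c := fun c hc => inv_eq_of_mul_eq_one_right hc
    refine ⟨Finset.mem_filter.2 ⟨ha, conj_eq_inv hP hx hx1 hy haa ?_⟩,
      Finset.mem_filter.2 ⟨hb, conj_eq_inv hP hx hx1 hy hbb ?_⟩, y, hy, hxy.symm⟩
    · rw [hxy, mul_inv_rev, hi a haa, hi b hbb, ← mul_assoc, haa, one_mul]
    · rw [hxy, mul_inv_rev, hi a haa, hi b hbb]
      rw [show b * (a * b) * b = b * a * (b * b) by group, hbb, mul_one]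
  set U := invSet z x with hU
  refine ⟨U.card, ?_, ?_, ?_⟩
  · rw [Nat.card_eq_fintype_card]
    exact Finset.card_le_univ U
  · have hax : ∀ a ∈ U, ∀ j : ℕ, a * x ^ j = (x ^ j)⁻¹ * a := by
      intro a ha j
      obtain ⟨hac, hainv⟩ := Finset.mem_filter.1 ha
      have haa := mul_self_of_mem hz hac
      have h : a * x ^ j * a⁻¹ = (x ^ j)⁻¹ := by
        rw [← conj_pow, inv_eq_of_mul_eq_one_right haa, hainv, inv_pow]
      exact mul_inv_eq_iff_eq_mul.1 h
    have hconj : ∀ b ∈ U, ∀ j : ℕ, x ^ j * b * (x ^ j)⁻¹ ∈ U := by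
      intro b hb j
      obtain ⟨hbc, hbinv⟩ := Finset.mem_filter.1 hb
      refine Finset.mem_filter.2 ⟨mem_cls.2 ((mem_cls.1 hbc).trans
        (isConj_iff.2 ⟨x ^ j, rfl⟩)), ?_⟩
      rw [show x ^ j * b * (x ^ j)⁻¹ * x * (x ^ j * b * (x ^ j)⁻¹) =
        x ^ j * (b * ((x ^ j)⁻¹ * x * x ^ j) * b) * (x ^ j)⁻¹ by group,
        show (x ^ j)⁻¹ * x * x ^ j = x by
          rw [mul_assoc, ← pow_succ', pow_succ, inv_mul_cancel_left], hbinv]
      rw [← inv_inj, mul_inv_rev, mul_inv_rev, inv_inv, inv_inv, ← mul_assoc, ← pow_succ,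
        pow_succ', mul_inv_cancel_right]
    suffices hb : (Finset.range p ×ˢ pairs z z (xCoset P x)).card = (U ×ˢ U).card by
      rwa [Finset.card_product, Finset.card_product, Finset.card_range] at hb
    refine Finset.card_bij (fun t _ => (t.2.1, x ^ t.1 * t.2.2 * (x ^ t.1)⁻¹)) ?_ ?_ ?_
    · rintro ⟨j, a, b⟩ h
      obtain ⟨-, hab⟩ := Finset.mem_product.1 h
      obtain ⟨ha, hb, -⟩ := hpairs a b hab
      exact Finset.mem_product.2 ⟨ha, hconj b hb j⟩
    · rintro ⟨j, a, b⟩ h ⟨j', a', b'⟩ h' he'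
      obtain ⟨hj, hab⟩ := Finset.mem_product.1 h
      obtain ⟨hj', hab'⟩ := Finset.mem_product.1 h'
      obtain ⟨ha, -, y, hy, hxy⟩ := hpairs a b hab
      obtain ⟨-, -, y', hy', hxy'⟩ := hpairs a' b' hab'
      simp only [Prod.mk.injEq] at he'
      obtain ⟨rfl, he'⟩ := he'
      -- compare the products with `a`
      have key : ∀ (i : ℕ) (c w : G), w ∈ regPart P → a * c = x * w →
          a * (x ^ i * c * (x ^ i)⁻¹) * (x ^ i * x ^ i) = x * w := by
        intro i c w hw hc
        rw [show a * (x ^ i * c * (x ^ i)⁻¹) * (x ^ i * x ^ i) = a * x ^ i * c * x ^ i by group,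
          hax a ha i, mul_assoc (x ^ i)⁻¹ a c, hc, mul_assoc, mul_assoc, (show Commute w (x ^ i)
            from (Commute.pow_left (Subgroup.mem_centralizer_iff.1 (mem_regPart.1 hw).1 x hx) i).symm
            ).eq, ← mul_assoc x, ← pow_succ', pow_succ, mul_assoc (x ^ i) x w, inv_mul_cancel_left]
      have h1 := key j b y hy hxy
      have h2 := key j' b' y' hy' hxy'
      rw [← he'] at h2
      have h3 : x * y * (x ^ j' * x ^ j') = x * y' * (x ^ j * x ^ j) := by
        rw [← h1, ← h2, mul_assoc, mul_assoc, mul_assoc (a * _), ← pow_add, ← pow_add, ← pow_add,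
          ← pow_add, add_comm (j + j), mul_assoc a]
      have hnorm : ∀ (i : ℕ) (w : G), w ∈ regPart P →
          x * w * (x ^ i * x ^ i) = x ^ ((1 + i + i) % p) * w := by
        intro i w hw
        have hc : Commute x w := Subgroup.mem_centralizer_iff.1 (mem_regPart.1 hw).1 x hx
        rw [mul_assoc, ← pow_add, ((hc.pow_left (i + i)).symm).eq, ← mul_assoc, ← pow_succ',
          ← hox, pow_mod_orderOf]
        congr 2
        omega
      rw [hnorm j' y hy, hnorm j y' hy'] at h3
      have h4 := hinj (Finset.mem_coe.2 (Finset.mem_product.2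
        ⟨Finset.mem_range.2 (Nat.mod_lt _ hp.out.pos), hy⟩))
        (Finset.mem_coe.2 (Finset.mem_product.2
          ⟨Finset.mem_range.2 (Nat.mod_lt _ hp.out.pos), hy'⟩))
        (x₁ := ((1 + j' + j') % p, y)) (x₂ := ((1 + j + j) % p, y')) h3
      simp only [Prod.mk.injEq] at h4
      have hjj : j' = j := by
        have h5 : (j' * 2 : ℕ) ≡ j * 2 [MOD p] := by
          have : 1 + j' + j' ≡ 1 + j + j [MOD p] := h4.1
          rw [show 1 + j' + j' = 1 + j' * 2 by ring, show 1 + j + j = 1 + j * 2 by ring] at this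
          exact Nat.ModEq.add_left_cancel' 1 this
        exact Nat.ModEq.eq_of_lt_of_lt (Nat.ModEq.cancel_right_of_coprime
          ((Nat.coprime_primes hp.out Nat.prime_two).2 hodd) h5)
          (Finset.mem_range.1 hj') (Finset.mem_range.1 hj)
      subst hjj
      rw [mul_left_inj, mul_right_inj] at he'
      rw [he']
    · rintro ⟨a, b⟩ hab
      obtain ⟨ha, hb⟩ := Finset.mem_product.1 hab
      obtain ⟨hac, hainv⟩ := Finset.mem_filter.1 ha
      obtain ⟨hbc, hbinv⟩ := Finset.mem_filter.1 hb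
      have haa := mul_self_of_mem hz hac
      have hbb := mul_self_of_mem hz hbc
      have hcomm : Commute (a * b) x := by
        refine Commute.symm ?_
        have h1 : a * x⁻¹ * a = x := by
          calc a * x⁻¹ * a = a * (a * x * a) * a := by rw [hainv]
            _ = a * a * x * (a * a) := by group
            _ = x := by rw [haa, one_mul, mul_one]
        calc x * (a * b) = a * x⁻¹ * a * (a * b) := by rw [h1]
          _ = a * x⁻¹ * (a * a) * b := by group
          _ = a * (b * x * b) * b := by rw [haa, mul_one, hbinv]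
          _ = a * b * x * (b * b) := by group
          _ = a * b * x := by rw [hbb, mul_one]
      obtain ⟨k, hk, y, hy, hky⟩ := hdec _ hcomm
      set j := ((p + 1) / 2 * (p + 1 - k)) % p with hj
      refine ⟨(j, a, (x ^ j)⁻¹ * b * x ^ j), Finset.mem_product.2 ⟨Finset.mem_range.2
        (Nat.mod_lt _ hp.out.pos), Finset.mem_filter.2 ⟨Finset.mem_product.2 ⟨hac, mem_cls.2
          ((mem_cls.1 hbc).trans (isConj_iff.2 ⟨(x ^ j)⁻¹, by rw [inv_inv]⟩))⟩, ?_⟩⟩, ?_⟩
      · refine Finset.mem_image.2 ⟨y, hy, ?_⟩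
        have hinv : a * (x ^ j)⁻¹ = x ^ j * a := by
          have h := hax a ha j
          rw [← mul_inv_eq_iff_eq_mul] at h
          calc a * (x ^ j)⁻¹ = a * (a * x ^ j * a⁻¹) := by rw [h]
            _ = a * a * x ^ j * a⁻¹ := by group
            _ = x ^ j * a := by rw [haa, one_mul, inv_eq_of_mul_eq_one_right haa]
        have hc : Commute x y := Subgroup.mem_centralizer_iff.1 (mem_regPart.1 hy).1 x hx
        have hmod : 1 ≡ j + k + j [MOD p] := by
          obtain ⟨t, ht⟩ := hp.out.odd_of_ne_two hodd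
          have h2 : (p + 1) / 2 * 2 = p + 1 := by omega
          have hj' : j ≡ (p + 1) / 2 * (p + 1 - k) [MOD p] := Nat.mod_modEq _ _
          have h3 : j + k + j ≡ (p + 1 - k) * (p + 1) + k [MOD p] := by
            have := (hj'.add hj').add_right k
            rw [show (p + 1) / 2 * (p + 1 - k) + (p + 1) / 2 * (p + 1 - k) + k =
              (p + 1 - k) * ((p + 1) / 2 * 2) + k by ring, h2] at this
            exact (show j + k + j = j + j + k by ring) ▸ this
          refine (h3.trans ?_).symm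
          have h4 : (p + 1 - k) * (p + 1) + k = p * (p + 1 - k) + p * 1 + 1 := by
            have : p + 1 - k + k = p + 1 := by omega
            calc (p + 1 - k) * (p + 1) + k = p * (p + 1 - k) + (p + 1 - k + k) := by ring
              _ = _ := by rw [this]; ring
          rw [h4, Nat.ModEq, Nat.add_mod, ← mul_add, Nat.mul_mod_right, zero_add, Nat.mod_mod]
        calc x * y = x ^ (j + k + j) * y := by
              rw [show x ^ (j + k + j) = x ^ 1 from pow_eq_pow_iff_modEq.2 (hox.symm ▸ hmod.symm),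
                pow_one]
          _ = x ^ j * (x ^ k * y) * x ^ j := by
              rw [pow_add, pow_add, mul_assoc (x ^ j * x ^ k) (x ^ j) y, (hc.pow_left j).eq]
              group
          _ = x ^ j * (a * b) * x ^ j := by rw [hky]
          _ = a * (x ^ j)⁻¹ * b * x ^ j := by rw [hinv]; group
          _ = a * ((x ^ j)⁻¹ * b * x ^ j) := by group
      · simp only [Prod.mk.injEq, true_and]
        group
  · intro hodd'
    rw [Finset.card_eq_zero, Finset.eq_empty_iff_forall_notMem]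
    rintro ⟨a, b⟩ hab
    obtain ⟨ha, -, -⟩ := hpairs a b hab
    obtain ⟨hac, hainv⟩ := Finset.mem_filter.1 ha
    have haa := mul_self_of_mem hz hac
    have hPz : Subgroup.zpowers x = (P : Subgroup G) :=
      Subgroup.eq_of_le_of_card_ge (Subgroup.zpowers_le.2 hx)
        (by rw [hP, Nat.card_zpowers, hox])
    have hai : a⁻¹ = a := inv_eq_of_mul_eq_one_right haa
    have haN : a ∈ Subgroup.normalizer ((P : Subgroup G) : Set G) := by
      have hpres : ∀ t ∈ (P : Subgroup G), a * t * a ∈ (P : Subgroup G) := by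
        intro t ht
        obtain ⟨i, rfl⟩ := Subgroup.mem_zpowers_iff.1 (hPz.ge ht)
        have : a * x ^ i * a = (x⁻¹) ^ i := by
          rw [← hainv]
          nth_rw 2 [← hai]
          nth_rw 4 [← hai]
          exact conj_zpow.symm
        rw [this]
        exact zpow_mem (inv_mem hx) i
      refine Subgroup.mem_normalizer_iff.2 fun t => ⟨fun ht => ?_, fun ht => ?_⟩
      · rw [hai]; exact hpres t ht
      · have h := hpres _ ht
        rwa [show a * (a * t * a⁻¹) * a = a * a * t * (a⁻¹ * a) by group, haa, one_mul,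
          inv_mul_cancel, mul_one] at h
    set NN := Subgroup.normalizer ((P : Subgroup G) : Set G) with hNN
    set K := (Subgroup.centralizer ((P : Subgroup G) : Set G)).subgroupOf NN with hK
    haveI : K.Normal := by
      rw [hK, hNN, ← Subgroup.normalizerMonoidHom_ker]
      exact MonoidHom.normal_ker _
    have hidx : K.index = e := he
    have hsq : (QuotientGroup.mk' K ⟨a, haN⟩) ^ 2 = 1 := by
      rw [← map_pow, show (⟨a, haN⟩ : NN) ^ 2 = 1 from Subtype.ext (by simp [pow_two, haa]), map_one]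
    have h1 : QuotientGroup.mk' K ⟨a, haN⟩ = 1 := by
      have hd := orderOf_dvd_natCard (QuotientGroup.mk' K ⟨a, haN⟩)
      rw [← Subgroup.index_eq_card, hidx] at hd
      have h2 := orderOf_dvd_iff_pow_eq_one.2 hsq
      rcases (Nat.dvd_prime Nat.prime_two).1 h2 with h3 | h3
      · exact orderOf_eq_one_iff.1 h3
      · rw [h3] at hd; omega
    rw [QuotientGroup.mk'_apply, QuotientGroup.eq_one_iff, hK, Subgroup.mem_subgroupOf] at h1
    have hax : a * x = x * a := (Subgroup.mem_centralizer_iff.1 h1 x hx).symm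
    rw [hax, mul_assoc, haa, mul_one, ← mul_eq_one_iff_eq_inv, ← pow_two] at hainv
    have := orderOf_dvd_iff_pow_eq_one.2 hainv
    rw [hox] at this
    exact hodd ((Nat.prime_dvd_prime_iff_eq hp.out Nat.prime_two).1 this)

/-- The class multiplication formula on the coset, by the principal block. -/
theorem pairs_formula {P : Sylow p G} {e : ℕ} (B : Blk P e) {z : G} {v : IrrCharacter G → ℤ}
    (hv : ∀ χ : IrrCharacter G, (χ : G → ℂ) z = (v χ : ℂ)) {x : G} (hx : x ∈ (P : Subgroup G))
    (hx1 : x ≠ 1) {ψ : IrrCharacter G} (hψ : ψ ∈ B.Y) (hzr : ¬ p ∣ orderOf z) :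
    ((pairs z z (xCoset P x)).card : ℤ) * Nat.card (Subgroup.centralizer ({z} : Set G)) *
        Nat.card (Subgroup.centralizer ({z} : Set G)) =
      ((regPart P).card : ℤ) * (∑ χ ∈ B.X, B.sgn χ * (cofDegree χ : ℤ) * (v χ * v χ) -
        B.ε * (cofDegree ψ : ℤ) * (v ψ * v ψ)) := by
  have h := card_pairs_mul_centralizers z z (xCoset P x)
  have hxi : x⁻¹ ∈ (P : Subgroup G) := inv_mem hx
  have hxi1 : x⁻¹ ≠ 1 := inv_ne_one.2 hx1
  have hS : ∀ χ : IrrCharacter G, ∑ t ∈ xCoset P x, (χ : G → ℂ) t⁻¹ =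
      ∑ y ∈ regPart P, (χ : G → ℂ) (x⁻¹ * y) := by
    intro χ
    rw [xCoset, Finset.sum_image fun a _ b _ h => mul_left_cancel h]
    refine Finset.sum_nbij' (fun y => y⁻¹) (fun y => y⁻¹) ?_ ?_ (fun _ _ => inv_inv _)
      (fun _ _ => inv_inv _) ?_
    · intro y hy
      rw [mem_regPart] at hy ⊢
      exact ⟨inv_mem hy.1, by rw [orderOf_inv]; exact hy.2⟩
    · intro y hy
      rw [mem_regPart] at hy ⊢
      exact ⟨inv_mem hy.1, by rw [orderOf_inv]; exact hy.2⟩
    · intro y hy
      rw [mul_inv_rev]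
      exact congrArg (χ : G → ℂ)
        (Subgroup.mem_centralizer_iff.1 (inv_mem (mem_regPart.1 hy).1) _ hxi).symm
  have hSX : ∀ χ ∈ B.X, ∑ y ∈ regPart P, (χ : G → ℂ) (x⁻¹ * y) =
      ((regPart P).card : ℂ) * (B.sgn χ : ℂ) := fun χ hχ => by
    rw [← nsmul_eq_mul, ← Finset.sum_const]
    exact Finset.sum_congr rfl fun y hy => B.valX χ hχ _ hxi hxi1 y hy
  have hSY : ∀ χ ∈ B.Y, ∑ y ∈ regPart P, (χ : G → ℂ) (x⁻¹ * y) =
      ((regPart P).card : ℂ) * (χ : G → ℂ) x⁻¹ := fun χ hχ => by
    rw [← nsmul_eq_mul, ← Finset.sum_const]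
    exact Finset.sum_congr rfl fun y hy => B.valY χ hχ _ hxi hxi1 y hy
  have hdeg : ∀ χ ∈ B.Y, cofDegree χ = cofDegree ψ := fun χ hχ => by
    have h1 := B.regY χ hχ ψ hψ 1 (by rw [orderOf_one]; exact hp.out.not_dvd_one)
    rw [irr_one_eq_charDegree, irr_one_eq_charDegree, Nat.cast_inj] at h1
    simp only [cofDegree, h1]
  simp only [hS] at h
  have hX' : ∑ χ ∈ B.X, (cofDegree χ : ℂ) * ((χ : G → ℂ) z * (χ : G → ℂ) z *
      ∑ y ∈ regPart P, (χ : G → ℂ) (x⁻¹ * y)) = ((regPart P).card : ℂ) *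
      ∑ χ ∈ B.X, (B.sgn χ : ℂ) * (cofDegree χ : ℂ) * ((v χ : ℂ) * (v χ : ℂ)) := by
    rw [Finset.mul_sum]
    exact Finset.sum_congr rfl fun χ hχ => by rw [hSX χ hχ, hv]; ring
  have hY' : ∑ χ ∈ B.Y, (cofDegree χ : ℂ) * ((χ : G → ℂ) z * (χ : G → ℂ) z *
      ∑ y ∈ regPart P, (χ : G → ℂ) (x⁻¹ * y)) = ((regPart P).card : ℂ) * (cofDegree ψ : ℂ) *
      ((v ψ : ℂ) * (v ψ : ℂ)) * ∑ χ ∈ B.Y, (χ : G → ℂ) x⁻¹ := by
    rw [Finset.mul_sum]
    exact Finset.sum_congr rfl fun χ hχ => by
      rw [hSY χ hχ, B.regY χ hχ ψ hψ z hzr, hdeg χ hχ, hv]; ring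
  rw [B.sum_split, Finset.sum_eq_zero (s := Finset.univ.filter fun χ => χ ∉ B.X ∧ χ ∉ B.Y)
    (fun χ hχ => by
      rw [B.sum_other χ (Finset.mem_filter.1 hχ).2.1 (Finset.mem_filter.1 hχ).2.2 _ hxi hxi1,
        mul_zero, mul_zero]), add_zero, hX', hY', B.sum_valY hxi hxi1] at h
  apply Int.cast_injective (α := ℂ)
  push_cast
  linear_combination h

end CfsgLib.MathieuTwentyTwo.ByOrder
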