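import Cfsg.Agent.Lib.MathieuTwentyTwoOrder.Joint

/-!
# The rows of the blocks with a trivial regular part
-/

set_option autoImplicit false

namespace CfsgLib.MathieuTwentyTwo.ByOrder

/-- The rows at 11. -/
def rowsEleven : List Row :=
  [⟨[10,10,10,45],16,1,2⟩, ⟨[10,10,12,12],5,1,2⟩, ⟨[10,10,12,21],28,-1,2⟩,
   ⟨[10,10,21,32],72,-1,2⟩, ⟨[10,10,21,45],5,1,2⟩, ⟨[10,10,21,56],16,1,2⟩,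
   ⟨[10,10,21,120],160,-1,2⟩, ⟨[10,10,21,320],280,1,2⟩, ⟨[10,10,32,45],6,-1,2⟩,
   ⟨[10,10,32,56],5,1,2⟩, ⟨[10,10,120,144],5,1,2⟩, ⟨[10,12,12,21],6,-1,2⟩, ⟨[10,12,12,45],60,1,2⟩,
   ⟨[10,12,12,120],105,-1,2⟩, ⟨[10,12,21,144],126,1,2⟩, ⟨[10,12,21,210],192,1,2⟩,
   ⟨[10,12,32,45],16,1,2⟩, ⟨[10,12,45,120],72,-1,2⟩, ⟨[10,12,45,144],192,1,2⟩,
   ⟨[10,12,45,384],336,-1,2⟩, ⟨[10,12,144,252],105,-1,2⟩, ⟨[10,21,21,21],72,-1,2⟩,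
   ⟨[10,21,21,45],6,-1,2⟩, ⟨[10,21,21,56],5,1,2⟩, ⟨[10,21,32,56],6,-1,2⟩, ⟨[10,21,45,45],60,1,2⟩,
   ⟨[10,21,45,120],105,-1,2⟩, ⟨[10,21,120,144],6,-1,2⟩, ⟨[10,21,120,210],60,1,2⟩,
   ⟨[10,21,210,252],72,-1,2⟩, ⟨[10,32,32,32],105,-1,2⟩, ⟨[10,32,32,45],28,-1,2⟩,
   ⟨[10,32,45,56],60,1,2⟩, ⟨[10,32,56,120],105,-1,2⟩, ⟨[10,32,320,384],105,-1,2⟩,
   ⟨[10,45,45,45],126,1,2⟩, ⟨[10,45,56,120],28,-1,2⟩, ⟨[10,45,56,252],160,-1,2⟩,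
   ⟨[10,45,120,144],60,1,2⟩, ⟨[10,45,120,210],126,1,2⟩, ⟨[10,45,120,252],336,-1,2⟩,
   ⟨[10,45,144,252],72,-1,2⟩, ⟨[10,45,210,252],6,-1,2⟩, ⟨[10,45,320,384],28,-1,2⟩,
   ⟨[10,56,210,252],5,1,2⟩, ⟨[10,120,120,144],105,-1,2⟩, ⟨[10,144,144,384],105,-1,2⟩,
   ⟨[12,12,12,21],16,1,2⟩, ⟨[12,12,12,32],5,1,2⟩, ⟨[12,12,21,32],28,-1,2⟩, ⟨[12,12,21,56],60,1,2⟩,
   ⟨[12,12,45,56],126,1,2⟩, ⟨[12,12,45,210],280,1,2⟩, ⟨[12,21,21,45],16,1,2⟩,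
   ⟨[12,21,32,32],72,-1,2⟩, ⟨[12,21,32,45],5,1,2⟩, ⟨[12,21,32,56],16,1,2⟩,
   ⟨[12,21,32,120],160,-1,2⟩, ⟨[12,21,32,320],280,1,2⟩, ⟨[12,21,56,120],72,-1,2⟩,
   ⟨[12,21,56,144],192,1,2⟩, ⟨[12,21,56,384],336,-1,2⟩, ⟨[12,21,120,144],16,1,2⟩,
   ⟨[12,21,120,320],192,1,2⟩, ⟨[12,21,144,144],280,1,2⟩, ⟨[12,21,252,320],60,1,2⟩,
   ⟨[12,21,320,384],72,-1,2⟩, ⟨[12,32,32,45],6,-1,2⟩, ⟨[12,32,32,56],5,1,2⟩,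
   ⟨[12,32,120,144],5,1,2⟩, ⟨[12,45,56,120],6,-1,2⟩, ⟨[12,45,210,252],16,1,2⟩,
   ⟨[12,45,252,320],126,1,2⟩, ⟨[12,45,320,384],6,-1,2⟩, ⟨[12,56,56,120],5,1,2⟩,
   ⟨[12,56,210,384],105,-1,2⟩, ⟨[12,56,320,384],5,1,2⟩, ⟨[21,21,21,56],6,-1,2⟩,
   ⟨[21,21,32,32],105,-1,2⟩, ⟨[21,21,32,45],28,-1,2⟩, ⟨[21,21,45,56],60,1,2⟩,
   ⟨[21,21,56,120],105,-1,2⟩, ⟨[21,21,320,384],105,-1,2⟩, ⟨[21,32,32,56],28,-1,2⟩,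
   ⟨[21,32,32,144],60,1,2⟩, ⟨[21,32,32,210],126,1,2⟩, ⟨[21,32,32,252],336,-1,2⟩,
   ⟨[21,32,56,56],60,1,2⟩, ⟨[21,32,120,144],28,-1,2⟩, ⟨[21,32,144,252],160,-1,2⟩,
   ⟨[21,32,252,320],16,1,2⟩, ⟨[21,45,45,56],126,1,2⟩, ⟨[21,45,45,210],280,1,2⟩,
   ⟨[21,56,56,120],28,-1,2⟩, ⟨[21,56,56,252],160,-1,2⟩, ⟨[21,56,120,144],60,1,2⟩,
   ⟨[21,56,120,210],126,1,2⟩, ⟨[21,56,120,252],336,-1,2⟩, ⟨[21,56,144,252],72,-1,2⟩,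
   ⟨[21,56,210,252],6,-1,2⟩, ⟨[21,56,320,384],28,-1,2⟩, ⟨[21,120,120,320],60,1,2⟩,
   ⟨[21,120,210,210],280,1,2⟩, ⟨[21,120,252,320],72,-1,2⟩, ⟨[21,144,144,252],16,1,2⟩,
   ⟨[21,144,252,320],192,1,2⟩, ⟨[21,144,320,384],60,1,2⟩, ⟨[21,210,210,384],16,1,2⟩,
   ⟨[21,210,320,384],126,1,2⟩, ⟨[32,32,45,144],126,1,2⟩, ⟨[32,32,45,210],192,1,2⟩,
   ⟨[32,32,210,252],105,-1,2⟩, ⟨[32,32,252,320],5,1,2⟩, ⟨[32,45,56,56],126,1,2⟩,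
   ⟨[32,45,56,210],280,1,2⟩, ⟨[32,45,210,252],28,-1,2⟩, ⟨[32,45,210,384],160,-1,2⟩,
   ⟨[32,144,144,252],5,1,2⟩, ⟨[32,210,210,384],5,1,2⟩, ⟨[45,45,45,56],192,1,2⟩,
   ⟨[45,45,45,120],16,1,2⟩, ⟨[45,45,45,144],280,1,2⟩, ⟨[45,45,56,252],105,-1,2⟩,
   ⟨[45,56,120,144],126,1,2⟩, ⟨[45,56,120,210],192,1,2⟩, ⟨[45,56,144,252],6,-1,2⟩,
   ⟨[45,56,210,252],60,1,2⟩, ⟨[45,56,210,384],72,-1,2⟩, ⟨[45,120,120,210],16,1,2⟩,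
   ⟨[45,120,120,320],126,1,2⟩, ⟨[45,120,144,210],280,1,2⟩, ⟨[45,120,252,320],6,-1,2⟩,
   ⟨[45,144,210,384],16,1,2⟩, ⟨[45,144,210,560],160,-1,2⟩, ⟨[45,144,320,384],126,1,2⟩,
   ⟨[45,210,320,384],192,1,2⟩, ⟨[56,56,144,252],5,1,2⟩, ⟨[56,120,210,252],105,-1,2⟩,
   ⟨[56,120,252,320],5,1,2⟩, ⟨[144,210,210,560],5,1,2⟩, ⟨[210,252,320,384],105,-1,2⟩,
   ⟨[252,320,320,384],5,1,2⟩]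

/-- The rows at 7. -/
def rowsSeven : List Row :=
  [⟨[6,6],11,-1,2⟩, ⟨[6,55],60,-1,2⟩, ⟨[6,160],165,-1,2⟩, ⟨[22,22],45,1,2⟩, ⟨[22,55],32,-1,2⟩,
   ⟨[55,99],45,1,2⟩, ⟨[55,120],66,1,2⟩, ⟨[99,120],220,1,2⟩, ⟨[99,132],32,-1,2⟩,
   ⟨[99,160],60,-1,2⟩, ⟨[120,132],11,-1,2⟩, ⟨[132,176],45,1,2⟩]

/-- The rows at 5. -/
def rowsFive : List Row :=
  [⟨[6,11,126],144,1,1⟩, ⟨[6,11,144],126,-1,1⟩, ⟨[6,16,21],44,1,1⟩, ⟨[6,16,44],21,-1,1⟩,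
   ⟨[6,21,44],16,-1,1⟩, ⟨[6,21,126],154,1,1⟩, ⟨[6,21,154],126,-1,1⟩, ⟨[6,126,144],11,-1,1⟩,
   ⟨[6,126,154],21,-1,1⟩, ⟨[11,11,21],44,1,1⟩, ⟨[11,11,44],21,-1,1⟩, ⟨[11,16,16],44,1,1⟩,
   ⟨[11,16,44],16,-1,1⟩, ⟨[11,16,126],154,1,1⟩, ⟨[11,16,154],126,-1,1⟩, ⟨[11,21,44],11,-1,1⟩,
   ⟨[11,21,66],99,1,1⟩, ⟨[11,21,99],66,-1,1⟩, ⟨[11,21,231],264,1,1⟩, ⟨[11,21,264],231,-1,1⟩,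
   ⟨[11,44,144],176,-1,1⟩, ⟨[11,44,176],144,1,1⟩, ⟨[11,66,66],144,1,1⟩, ⟨[11,66,99],21,-1,1⟩,
   ⟨[11,66,144],66,-1,1⟩, ⟨[11,99,144],231,-1,1⟩, ⟨[11,99,231],144,1,1⟩, ⟨[11,126,126],264,1,1⟩,
   ⟨[11,126,144],6,-1,1⟩, ⟨[11,126,154],16,-1,1⟩, ⟨[11,126,264],126,-1,1⟩, ⟨[11,144,176],44,1,1⟩,
   ⟨[11,144,231],99,1,1⟩, ⟨[11,144,264],396,-1,1⟩, ⟨[11,144,396],264,1,1⟩, ⟨[11,231,264],21,-1,1⟩,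
   ⟨[11,264,396],144,1,1⟩, ⟨[16,16,44],11,-1,1⟩, ⟨[16,16,66],99,1,1⟩, ⟨[16,16,99],66,-1,1⟩,
   ⟨[16,16,231],264,1,1⟩, ⟨[16,16,264],231,-1,1⟩, ⟨[16,21,44],6,-1,1⟩, ⟨[16,44,99],126,-1,1⟩,
   ⟨[16,44,126],99,1,1⟩, ⟨[16,66,99],16,-1,1⟩, ⟨[16,99,126],44,1,1⟩, ⟨[16,126,154],11,-1,1⟩,
   ⟨[16,231,264],16,-1,1⟩, ⟨[21,21,56],99,1,1⟩, ⟨[21,21,99],56,-1,1⟩, ⟨[21,44,44],66,-1,1⟩,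
   ⟨[21,44,66],44,1,1⟩, ⟨[21,44,154],176,-1,1⟩, ⟨[21,44,176],154,1,1⟩, ⟨[21,56,66],144,1,1⟩,
   ⟨[21,56,99],21,-1,1⟩, ⟨[21,56,144],66,-1,1⟩, ⟨[21,66,66],154,1,1⟩, ⟨[21,66,99],11,-1,1⟩,
   ⟨[21,66,144],56,-1,1⟩, ⟨[21,66,154],66,-1,1⟩, ⟨[21,66,176],264,1,1⟩, ⟨[21,66,264],176,-1,1⟩,
   ⟨[21,99,99],176,-1,1⟩, ⟨[21,99,154],231,-1,1⟩, ⟨[21,99,176],99,1,1⟩, ⟨[21,99,231],154,1,1⟩,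
   ⟨[21,126,154],6,-1,1⟩, ⟨[21,154,176],44,1,1⟩, ⟨[21,154,231],99,1,1⟩, ⟨[21,154,264],396,-1,1⟩,
   ⟨[21,154,396],264,1,1⟩, ⟨[21,176,264],66,-1,1⟩, ⟨[21,231,264],11,-1,1⟩, ⟨[21,264,396],154,1,1⟩,
   ⟨[44,44,66],21,-1,1⟩, ⟨[44,44,144],231,-1,1⟩, ⟨[44,44,231],144,1,1⟩, ⟨[44,99,126],16,-1,1⟩,
   ⟨[44,144,176],11,-1,1⟩, ⟨[44,144,231],44,1,1⟩, ⟨[44,154,176],21,-1,1⟩, ⟨[56,66,144],21,-1,1⟩,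
   ⟨[56,144,144],231,-1,1⟩, ⟨[56,144,231],144,1,1⟩, ⟨[66,66,144],11,-1,1⟩, ⟨[66,66,154],21,-1,1⟩,
   ⟨[66,99,144],176,-1,1⟩, ⟨[66,99,176],144,1,1⟩, ⟨[66,144,154],231,-1,1⟩, ⟨[66,144,176],99,1,1⟩,
   ⟨[66,144,231],154,1,1⟩, ⟨[66,154,231],144,1,1⟩, ⟨[66,176,264],21,-1,1⟩, ⟨[99,99,176],21,-1,1⟩,
   ⟨[99,126,126],154,1,1⟩, ⟨[99,126,154],126,-1,1⟩, ⟨[99,144,154],396,-1,1⟩,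
   ⟨[99,144,176],66,-1,1⟩, ⟨[99,144,231],11,-1,1⟩, ⟨[99,144,396],154,1,1⟩, ⟨[99,154,231],21,-1,1⟩,
   ⟨[99,154,396],144,1,1⟩, ⟨[126,126,154],99,1,1⟩, ⟨[126,126,264],11,-1,1⟩,
   ⟨[144,144,231],56,-1,1⟩, ⟨[144,154,231],66,-1,1⟩, ⟨[144,154,396],99,1,1⟩,
   ⟨[144,176,231],264,1,1⟩, ⟨[144,176,264],231,-1,1⟩, ⟨[144,231,264],176,-1,1⟩,
   ⟨[144,264,396],11,-1,1⟩, ⟨[154,264,396],21,-1,1⟩, ⟨[176,231,264],144,1,1⟩]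

theorem rows_eleven : rows 11 5 degB = rowsEleven := by decide +kernel

theorem rows_seven : rows 7 3 degB = rowsSeven := by decide +kernel

theorem rows_five : rows 5 4 degB = rowsFive := by decide +kernel

end CfsgLib.MathieuTwentyTwo.ByOrder
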