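import Cfsg.Agent.Lib.MathieuTwentyTwoOrder.Cross
import Cfsg.Agent.Lib.MathieuTwentyTwoOrder.Rows
import Cfsg.Agent.Lib.MathieuTwentyTwoOrder.Interface
import Cfsg.Agent.Lib.MathieuTwentyTwoOrder.CertSeven
import Cfsg.Agent.Lib.MathieuTwentyTwoOrder.CertFive
import Cfsg.Agent.Lib.MathieuTwentyTwoOrder.CertJointSeven
import Cfsg.Agent.Lib.MathieuTwentyTwoOrder.CertJointFive

/-!
# The elements of order five and seven are self-centralising
-/

set_option autoImplicit false
set_option linter.style.haveILetI false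
set_option linter.unusedSectionVars false

noncomputable section

namespace CfsgLib.MathieuTwentyTwo.ByOrder

open Cfsg CfsgLib.Characters CfsgLib.CharCorr
open scoped Classical

universe u

variable {G : Type u} [Group G] [Fintype G] [IsSimpleGroup G]

/-- An element of order `q` in the regular part at `p` puts one of order `p` in that at `q`. -/
theorem link (hG : Nat.card G = ord22) {p q : ℕ} [Fact p.Prime] [Fact q.Prime]
    (hp : p = 5 ∨ p = 7 ∨ p = 11) (hq : q = 5 ∨ q = 7 ∨ q = 11) (hpq : p ≠ q)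
    (P : Sylow p G) (Q : Sylow q G) {eQ : ℕ}
    (hN : Nat.card (Subgroup.centralizer ((Q : Subgroup G) : Set G)) * eQ =
      Nat.card (Subgroup.normalizer ((Q : Subgroup G) : Set G)))
    (hd : q ∣ (regPart P).card) : p ∣ (regPart Q).card := by
  have hP := card_sylow_eq hG hp P
  obtain ⟨y, hy, hoy⟩ := exists_regPart_orderOf hP (Fact.out : q.Prime) hpq.symm hd
  obtain ⟨x, hx, hx1⟩ := exists_mem_ne_one P hP
  have h := Subgroup.orderOf_dvd_natCard (Subgroup.centralizer ({y} : Set G)) (x := x)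
    (Subgroup.mem_centralizer_singleton_iff.2 (commute_regPart hx hy))
  rw [orderOf_eq_p hP hx hx1, (card_orderOf hG hq Q hN hoy).1] at h
  exact ((Nat.Prime.dvd_mul (Fact.out : p.Prime)).1 h).resolve_left fun h =>
    hpq ((Nat.prime_dvd_prime_iff_eq (Fact.out : p.Prime) (Fact.out : q.Prime)).1 h)

/-- A normaliser of even order at 5 with 7 in the regular part is impossible when the normaliser
at 7 has order 315. -/
theorem false_of_seven (hG : Nat.card G = ord22) [Fact (Nat.Prime 5)] [Fact (Nat.Prime 7)]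
    (P : Sylow 5 G) {e : ℕ} (he : 2 ∣ e)
    (hN : Nat.card (Subgroup.centralizer ((P : Subgroup G) : Set G)) * e =
      Nat.card (Subgroup.normalizer ((P : Subgroup G) : Set G)))
    (hc : (regPart P).card ∣ 21) (h7 : 7 ∣ (regPart P).card) (Q : Sylow 7 G)
    (hQc : (regPart Q).card = 15)
    (hNQ : Nat.card (Subgroup.centralizer ((Q : Subgroup G) : Set G)) * 3 =
      Nat.card (Subgroup.normalizer ((Q : Subgroup G) : Set G))) : False := by
  have hP := card_sylow_eq hG (Or.inl rfl) P
  obtain ⟨y, hy, hoy⟩ := exists_regPart_orderOf hP (by norm_num) (by norm_num) h7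
  obtain ⟨x, hx, hx1⟩ := exists_mem_ne_one P hP
  obtain ⟨Y, hY⟩ := exists_sylow_eq hG (Or.inr (Or.inl rfl)) hoy
  set CP := Subgroup.centralizer ((P : Subgroup G) : Set G) with hCP
  set NY := Subgroup.normalizer ((Y : Subgroup G) : Set G) with hNY
  have hyY : y ∈ (Y : Subgroup G) := hY ▸ Subgroup.mem_zpowers y
  have hxY : x ∈ NY := by
    refine Small.centralizer_le_normalizer' _ ?_
    rw [hY, Subgroup.zpowers_eq_closure, Subgroup.centralizer_closure]
    exact Subgroup.mem_centralizer_singleton_iff.2 (commute_regPart hx hy).eq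
  have hxC : x ∈ CP := by
    refine Subgroup.mem_centralizer_iff.2 fun t ht => ?_
    have hPz : Subgroup.zpowers x = (P : Subgroup G) :=
      Subgroup.eq_of_le_of_card_ge (Subgroup.zpowers_le.2 hx)
        (by rw [hP, Nat.card_zpowers, orderOf_eq_p hP hx hx1])
    obtain ⟨i, rfl⟩ := Subgroup.mem_zpowers_iff.1 (hPz.ge ht)
    exact ((Commute.refl x).zpow_left i).eq
  have hyC : y ∈ CP := (mem_regPart.1 hy).1
  have h35 : 35 ∣ Nat.card (CP ⊓ NY : Subgroup G) := by
    refine Nat.Coprime.mul_dvd_of_dvd_of_dvd (show Nat.Coprime 5 7 by norm_num) ?_ ?_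
    · rw [← orderOf_eq_p hP hx hx1]
      exact Subgroup.orderOf_dvd_natCard _ ⟨hxC, hxY⟩
    · rw [← hoy]
      exact Subgroup.orderOf_dvd_natCard _ ⟨hyC, Subgroup.le_normalizer hyY⟩
  have hcC : Nat.card CP ∣ 105 := by
    rw [card_centralizer P hP]
    exact Nat.mul_dvd_mul_left 5 hc
  have key : ∀ g ∈ CP, orderOf g = 7 → g ∈ (Y : Subgroup G) := by
    intro g hg hog
    set H := (CP ⊓ NY).subgroupOf CP with hH
    have hidx : H.index * 35 ≤ 105 := by
      have h1 := H.index_mul_card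
      rw [hH, Nat.card_congr (Subgroup.subgroupOfEquivOfLe (inf_le_left : CP ⊓ NY ≤ CP)).toEquiv,
        ← hH] at h1
      have h2 := Nat.le_of_dvd (by norm_num) hcC
      have h3 := Nat.le_of_dvd Nat.card_pos h35
      calc H.index * 35 ≤ H.index * Nat.card (CP ⊓ NY : Subgroup G) := Nat.mul_le_mul_left _ h3
        _ = Nat.card CP := h1
        _ ≤ 105 := h2
    obtain ⟨n, hn0, hn, hmem⟩ :=
      Subgroup.exists_pow_mem_of_index_ne_zero H.index_ne_zero_of_finite (⟨g, hg⟩ : CP)
    rw [hH, Subgroup.mem_subgroupOf, SubgroupClass.coe_pow] at hmem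
    have hgN : g ∈ NY := by
      have hcop : (orderOf g).Coprime n := by
        rw [hog]
        exact (Nat.Prime.coprime_iff_not_dvd (by norm_num)).2 fun h => by
          have := Nat.le_of_dvd hn0 h
          omega
      obtain ⟨m, hm⟩ := exists_pow_eq_self_of_coprime hcop.symm
      rw [← hm]
      exact pow_mem hmem.2 m
    have hz : IsPGroup 7 (Subgroup.zpowers g) :=
      IsPGroup.of_card (n := 1) (by rw [pow_one, Nat.card_zpowers, hog])
    have h := (hz.inf_normalizer_sylow Y).le ⟨Subgroup.mem_zpowers g, hgN⟩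
    exact h.2
  have hNN : Subgroup.normalizer ((P : Subgroup G) : Set G) ≤ NY := by
    intro g hg
    have hgy : g * y * g⁻¹ ∈ CP := by
      refine Subgroup.mem_centralizer_iff.2 fun t ht => ?_
      have ht' : g⁻¹ * t * g ∈ (P : Subgroup G) := by
        have := (Subgroup.mem_normalizer_iff.1 (inv_mem hg) t).1 ht
        rwa [inv_inv] at this
      have h := Subgroup.mem_centralizer_iff.1 hyC _ ht'
      calc t * (g * y * g⁻¹) = g * (g⁻¹ * t * g * y) * g⁻¹ := by group
        _ = g * (y * (g⁻¹ * t * g)) * g⁻¹ := by rw [h]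
        _ = g * y * g⁻¹ * t := by group
    have hgo : orderOf (g * y * g⁻¹) = 7 := by
      rw [← hoy]
      exact (MulEquiv.orderOf_eq (MulAut.conj g) y)
    have hmem := key _ hgy hgo
    have hz : Subgroup.zpowers (g * y * g⁻¹) = (Y : Subgroup G) :=
      Subgroup.eq_of_le_of_card_ge (Subgroup.zpowers_le.2 hmem)
        (by rw [card_sylow_eq hG (Or.inr (Or.inl rfl)) Y, Nat.card_zpowers, hgo])
    refine Subgroup.mem_normalizer_iff.2 fun t => ⟨fun ht => ?_, fun ht => ?_⟩
    · obtain ⟨i, rfl⟩ := Subgroup.mem_zpowers_iff.1 (hY.le ht)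
      rw [← hz, ← conj_zpow]
      exact zpow_mem (Subgroup.mem_zpowers _) i
    · obtain ⟨i, hi⟩ := Subgroup.mem_zpowers_iff.1 (hz.ge ht)
      rw [conj_zpow] at hi
      rw [← mul_left_cancel (mul_right_cancel hi)]
      exact zpow_mem hyY i
  have h1 := Subgroup.card_dvd_of_le hNN
  rw [hNY, hY, (card_orderOf hG (Or.inr (Or.inl rfl)) Q hNQ hoy).2, hQc, ← hN,
    card_centralizer P hP] at h1
  have h2 : 2 ∣ 7 * 15 * 3 := ((he.mul_left _).trans h1)
  norm_num at h2

/-- At 5 and 7 the regular parts are trivial and the automisers have orders 4 and 3. -/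
theorem five_seven (hG : Nat.card G = ord22) [Fact (Nat.Prime 5)] [Fact (Nat.Prime 7)]
    [Fact (Nat.Prime 11)] (P₅ : Sylow 5 G) (P₇ : Sylow 7 G) :
    ((regPart P₅).card = 1 ∧ (Subgroup.centralizer ((P₅ : Subgroup G) : Set G)).relIndex
        (Subgroup.normalizer ((P₅ : Subgroup G) : Set G)) = 4 ∧
      Nat.card (Subgroup.centralizer ((P₅ : Subgroup G) : Set G)) * 4 =
        Nat.card (Subgroup.normalizer ((P₅ : Subgroup G) : Set G))) ∧
    ((regPart P₇).card = 1 ∧ (Subgroup.centralizer ((P₇ : Subgroup G) : Set G)).relIndex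
        (Subgroup.normalizer ((P₇ : Subgroup G) : Set G)) = 3 ∧
      Nat.card (Subgroup.centralizer ((P₇ : Subgroup G) : Set G)) * 3 =
        Nat.card (Subgroup.normalizer ((P₇ : Subgroup G) : Set G))) := by
  have h11 : ∀ y : G, orderOf y = 11 → Nat.card (Subgroup.centralizer ({y} : Set G)) = 11 :=
    fun y hy => (centralizer_eleven hG hy).1
  obtain ⟨e₅, -, ho₅, hr₅, hN₅⟩ := mem_optsEC hG (Or.inl rfl) P₅ (fun _ => h11)
  obtain ⟨e₇, -, ho₇, hr₇, hN₇⟩ := mem_optsEC hG (Or.inr (Or.inl rfl)) P₇ (fun _ => h11)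
  have hP₅ := card_sylow_eq hG (Or.inl rfl) P₅
  have hP₇ := card_sylow_eq hG (Or.inr (Or.inl rfl)) P₇
  obtain ⟨B₅⟩ := exists_blk (nc hG) (by norm_num) P₅ hP₅ hr₅
  obtain ⟨B₇⟩ := exists_blk (nc hG) (by norm_num) P₇ hP₇ hr₇
  have hA : ∀ χ : IrrCharacter G, χ ≠ principalIrr G → dg χ ∈ degB := fun χ h => dg_mem_degB hG h
  obtain ⟨x₅, hx₅, ⟨R₅⟩⟩ := rows_ne_nil hG (by norm_num) (by norm_num) hP₅ hN₅ B₅ degB_sorted hA
  obtain ⟨x₇, hx₇, ⟨R₇⟩⟩ := rows_ne_nil hG (by norm_num) (by norm_num) hP₇ hN₇ B₇ degB_sorted hA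
  obtain ⟨P₁, hc₁, hr₁, ⟨B₁⟩⟩ := exists_blk_eleven hG
  obtain ⟨r, hr, ⟨R⟩⟩ := exists_row hG (by norm_num) B₁ degB_sorted
    (fun χ h => hA χ (B₁.ne_principal h))
  rw [rows_eleven] at hr
  have hlink₁ : 7 ∣ (regPart P₅).card → 5 ∣ (regPart P₇).card :=
    link hG (Or.inl rfl) (Or.inr (Or.inl rfl)) (by norm_num) P₅ P₇ hN₇
  have hlink₂ : 5 ∣ (regPart P₇).card → 7 ∣ (regPart P₅).card :=
    link hG (Or.inr (Or.inl rfl)) (Or.inl rfl) (by norm_num) P₇ P₅ hN₅
  have h5 := List.all_eq_true.1 options_five _ ho₅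
  have h7 := List.all_eq_true.1 options_seven _ ho₇
  simp only [Bool.or_eq_true, Bool.and_eq_true, beq_iff_eq, List.isEmpty_iff, Bool.not_eq_true',
    beq_eq_false_iff_ne] at h5 h7
  -- a seed at 5 in the case of an even regular part
  have hseed₅ : (regPart P₅).card % 2 = 0 →
      (stage 5 e₅ (regPart P₅).card degB).all
        (inSeeds (if (regPart P₅).card % 7 = 0 then seeds5q else seeds5n)) = true →
      ∃ z : G, orderOf z = 2 ∧ ∃ l : List (ℕ × ℤ),
        (Nat.card (Subgroup.centralizer ({z} : Set G)), l) ∈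
          (if (regPart P₅).card % 7 = 0 then seeds5q else seeds5n) ∧
        (l : Multiset (ℕ × ℤ)) = items B₅ z := by
    intro h2 hall
    obtain ⟨z, hz, l, hl, hl'⟩ := exists_stage hG (by norm_num) (by norm_num) hP₅ hr₅ hN₅ B₅
      degB_sorted hA (Nat.dvd_of_mod_eq_zero h2)
    obtain ⟨l₂, hS, hperm⟩ := exists_seed hall hl
    exact ⟨z, hz, l₂, hS, (Multiset.coe_eq_coe.2 hperm).trans hl'⟩
  rcases h7 with ((⟨he₇, hc₇⟩ | h7) | ⟨⟨he₇, hc₇⟩, hsix⟩) | ⟨⟨h72, hall₇⟩, hfive⟩
  · -- trivial regular part at 7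
    rcases h5 with ((⟨he₅, hc₅⟩ | h5) | ⟨-, h21⟩) | ⟨h52, hall₅⟩
    · subst he₅; subst he₇; exact ⟨⟨hc₅, hr₅, hN₅⟩, hc₇, hr₇, hN₇⟩
    · rw [h5] at hx₅; exact absurd hx₅ List.not_mem_nil
    · exfalso
      have := hlink₁ (by rcases h21 with h | h <;> simp [h])
      rw [hc₇] at this
      norm_num at this
    · exfalso
      have h75 : ¬ (regPart P₅).card % 7 = 0 := fun h => by
        have := hlink₁ (Nat.dvd_of_mod_eq_zero h)
        rw [hc₇] at this
        norm_num at this
      obtain ⟨z, hz, l, hS, hl⟩ := hseed₅ h52 hall₅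
      rw [if_neg h75] at hS
      subst he₇
      rw [hc₇] at hx₇
      have hx : x₇ ∈ rowsSeven := by
        rw [← rows_seven]
        rwa [show allowed 7 1 degB = degB by decide +kernel] at hx₇
      have h := List.all_eq_true.1 (List.all_eq_true.1 seeds_five_n _ hS) r hr
      obtain ⟨hcmp, it, hit, hit'⟩ := exists_fill11 hG B₅ hz hl R hc₁ hr₁
      obtain ⟨hcmpo, hfo⟩ := exists_fillO hG B₅ hz hl R hc₁ (Or.inr rfl) R₇ hc₇ hr₇
      simp only [Bool.or_eq_true, Bool.not_eq_true', List.isEmpty_iff, List.all_eq_true] at h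
      rcases h with (h | h) | h
      · rw [hcmp] at h; exact Bool.noConfusion h
      · exact List.not_mem_nil (h ▸ List.mem_filter.2 ⟨hx, hcmpo⟩)
      · rcases h it hit x₇ hx with h | h
        · rw [hcmpo] at h; exact Bool.noConfusion h
        · exact hfo it hit' h
  · rw [h7] at hx₇; exact absurd hx₇ List.not_mem_nil
  · -- regular part of order 15 at 7
    exfalso
    have h75 : 7 ∣ (regPart P₅).card := hlink₂ (by rw [hc₇]; norm_num)
    rcases h5 with ((⟨-, hc₅⟩ | h5) | ⟨he₅, h21⟩) | ⟨h52, hall₅⟩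
    · rw [hc₅] at h75; norm_num at h75
    · rw [h5] at hx₅; exact absurd hx₅ List.not_mem_nil
    · subst he₇
      refine false_of_seven hG P₅ ?_ hN₅ ?_ h75 P₇ hc₇ hN₇
      · rcases he₅ with h | h <;> simp [h]
      · rcases h21 with h | h <;> simp [h]
    · obtain ⟨z, hz, l, hS, hl⟩ := hseed₅ h52 hall₅
      rw [if_pos (Nat.mod_eq_zero_of_dvd h75)] at hS
      subst he₇
      rw [hc₇] at hx₇
      have h6 := List.all_eq_true.1 hsix x₇ hx₇
      have h := List.all_eq_true.1 (List.all_eq_true.1 seeds_five_six _ hS) r hr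
      obtain ⟨hcmp, it, hit, -⟩ := exists_fill11 hG B₅ hz hl R hc₁ hr₁
      simp only [Bool.or_eq_true, Bool.not_eq_true', List.isEmpty_iff] at h
      have h66 : leL [6, 6] r.degs = true := by
        simp only [leL, List.all_eq_true, decide_eq_true_eq] at h6 ⊢
        intro a ha
        refine (h6 a ha).trans ?_
        have h6a : a = 6 := by simpa using ha
        subst h6a
        have hle := filter_dg_le B₁ hc₁ (S := B₇.members) (fun χ h => B₇.ne_principal h)
        have hcount := Multiset.count_le_of_le 6 hle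
        rw [Multiset.count_filter_of_pos (p := fun d => ¬ 11 ∣ d) (by norm_num), ← R₇.degs_eq, ← R.degs_eq,
          Multiset.coe_count, Multiset.coe_count] at hcount
        exact hcount
      rcases h with (h | h) | h
      · rw [h66] at h; exact Bool.noConfusion h
      · rw [hcmp] at h; exact Bool.noConfusion h
      · exact List.not_mem_nil (h ▸ hit)
  · -- even regular part at 7
    exfalso
    obtain ⟨z, hz, l₀, hl₀, hl₀'⟩ := exists_stage hG (by norm_num) (by norm_num) hP₇ hr₇ hN₇ B₇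
      degB_sorted hA (Nat.dvd_of_mod_eq_zero h72)
    have h57 : ¬ 5 ∣ (regPart P₇).card := fun h => by
      rcases hfive with h' | h'
      · exact h' (Nat.mod_eq_zero_of_dvd h)
      · rw [h'] at hl₀; exact List.not_mem_nil hl₀
    have h75 : ¬ 7 ∣ (regPart P₅).card := fun h => h57 (hlink₁ h)
    obtain ⟨l, hS, hperm⟩ := exists_seed hall₇ hl₀
    have hl : (l : Multiset (ℕ × ℤ)) = items B₇ z := (Multiset.coe_eq_coe.2 hperm).trans hl₀'
    have h := List.all_eq_true.1 (List.all_eq_true.1 seeds_seven _ hS) r hr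
    obtain ⟨hcmp, it, hit, hit'⟩ := exists_fill11 hG B₇ hz hl R hc₁ hr₁
    simp only [Bool.or_eq_true, Bool.and_eq_true, Bool.not_eq_true', List.isEmpty_iff,
      List.all_eq_true] at h
    rcases h with (h | h) | ⟨hkey, h⟩
    · rw [hcmp] at h; exact Bool.noConfusion h
    · exact List.not_mem_nil (h ▸ hit)
    rcases h5 with ((⟨he₅, hc₅⟩ | h5) | ⟨-, h21⟩) | ⟨h52, hall₅⟩
    · subst he₅
      rw [hc₅] at hx₅
      have hx : x₅ ∈ rowsFive := by
        rw [← rows_five]
        rwa [show allowed 5 1 degB = degB by decide +kernel] at hx₅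
      obtain ⟨hcmpo, hfo⟩ := exists_fillO hG B₇ hz hl R hc₁ (Or.inl rfl) R₅ hc₅ hr₅
      rcases h it hit x₅ hx with h | h
      · rw [hcmpo] at h; exact Bool.noConfusion h
      · exact hfo it hit' h
    · rw [h5] at hx₅; exact List.not_mem_nil hx₅
    · exact h75 (by rcases h21 with h | h <;> simp [h])
    · obtain ⟨z', hz', l', hS', hl'⟩ := hseed₅ h52 hall₅
      rw [if_neg (fun h => h75 (Nat.dvd_of_mod_eq_zero h))] at hS'
      have h' := List.all_eq_true.1 (List.all_eq_true.1 seeds_five_keys _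
        (List.mem_append_left _ hS')) r hr
      obtain ⟨hcmp', it', hit'', -⟩ := exists_fill11 hG B₅ hz' hl' R hc₁ hr₁
      simp only [Bool.or_eq_true, Bool.not_eq_true', List.isEmpty_iff] at h'
      rcases h' with (h' | h') | h'
      · rw [hkey] at h'; exact Bool.noConfusion h'
      · rw [hcmp'] at h'; exact Bool.noConfusion h'
      · exact List.not_mem_nil (h' ▸ hit'')

/-- A simple group of order 443520 has the small centralisers and normalisers. -/
theorem smallCent (hG : Nat.card G = ord22) : SmallCent G := by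
  haveI := Fact.mk (show Nat.Prime 5 by norm_num)
  haveI := Fact.mk (show Nat.Prime 7 by norm_num)
  haveI := Fact.mk (show Nat.Prime 11 by norm_num)
  obtain ⟨P₅⟩ : Nonempty (Sylow 5 G) := inferInstance
  obtain ⟨P₇⟩ : Nonempty (Sylow 7 G) := inferInstance
  obtain ⟨⟨c5, -, n5⟩, c7, -, n7⟩ := five_seven hG P₅ P₇
  have h5 := fun (y : G) (hy : orderOf y = 5) => card_orderOf hG (Or.inl rfl) P₅ n5 hy
  have h7 := fun (y : G) (hy : orderOf y = 7) => card_orderOf hG (Or.inr (Or.inl rfl)) P₇ n7 hy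
  rw [c5] at h5
  rw [c7] at h7
  exact
    { card := hG
      isSimple := inferInstance
      centralizer_five := fun hy => (h5 _ hy).1
      centralizer_seven := fun hy => (h7 _ hy).1
      centralizer_eleven := fun hy => (centralizer_eleven hG hy).1
      normalizer_five := fun hy => (h5 _ hy).2
      normalizer_seven := fun hy => (h7 _ hy).2
      normalizer_eleven := fun hy => (centralizer_eleven hG hy).2 }

end CfsgLib.MathieuTwentyTwo.ByOrder
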