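import Cfsg.Agent.Lib.MathieuTwentyTwoOrder.Interface
import Cfsg.Agent.Lib.MathieuTwentyTwo.LocalData

/-!
# Interfaces of the second half of the recognition of the Mathieu group of degree 22 by its order

`Table` is what the block searches give: the degrees, the column of the involutions and the linear
relations of the three principal blocks on the elements of order prime to 5, 7 and 11. `TableLocal`
is what the columns of the elements of order three and of the 2-elements add.
-/

set_option autoImplicit false

noncomputable section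

namespace CfsgLib.MathieuTwentyTwo.ByOrder

open Cfsg Subgroup CfsgLib.Recog.OrderCounts CfsgLib.Characters CfsgLib.CharCorr

universe u

/-- An element of order prime to 5, 7 and 11. -/
def Reg22 {G : Type u} [Group G] (g : G) : Prop :=
  ¬ 5 ∣ orderOf g ∧ ¬ 7 ∣ orderOf g ∧ ¬ 11 ∣ orderOf g

/-- The degrees of the irreducible characters. -/
def degTable : Fin 12 → ℕ := ![1, 21, 45, 45, 55, 99, 154, 210, 231, 280, 280, 385]

/-- The values at an involution. -/
def invColumn : Fin 12 → ℤ := ![1, 5, -3, -3, 7, 3, 10, 2, 7, -8, -8, 1]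

/-- The degrees, the involution column and the relations on regular elements. -/
structure Table (G : Type u) [Group G] [Fintype G] where
  small : SmallCent G
  /-- the irreducible characters -/
  chi : Fin 12 → IrrCharacter G
  bijective : Function.Bijective chi
  chi_zero : chi 0 = principalIrr G
  degree : ∀ i, charDegree (chi i : G → ℂ) = degTable i
  column_two : ∀ z : G, orderOf z = 2 → ∀ i, (chi i : G → ℂ) z = (invColumn i : ℂ)
  eq_45 : ∀ g : G, Reg22 g → (chi 2 : G → ℂ) g = (chi 3 : G → ℂ) g
  eq_280 : ∀ g : G, Reg22 g → (chi 9 : G → ℂ) g = (chi 10 : G → ℂ) g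
  rel_seven : ∀ g : G, Reg22 g →
    (chi 2 : G → ℂ) g = 1 - (chi 4 : G → ℂ) g + (chi 5 : G → ℂ) g
  rel_eleven : ∀ g : G, Reg22 g →
    (chi 9 : G → ℂ) g = 1 - (chi 1 : G → ℂ) g + 2 * (chi 2 : G → ℂ) g + (chi 7 : G → ℂ) g
  rel_five : ∀ g : G, Reg22 g →
    (chi 8 : G → ℂ) g = -(1 + (chi 1 : G → ℂ) g - (chi 5 : G → ℂ) g - (chi 6 : G → ℂ) g)

/-- The classes of involutions and of elements of order three. -/
structure TableLocal (G : Type u) [Group G] : Prop where
  small : SmallCent G
  centralizer_two : ∀ {z : G}, orderOf z = 2 → Nat.card (centralizer ({z} : Set G)) = 384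
  conj_two : ∀ {y z : G}, orderOf y = 2 → orderOf z = 2 → IsConj y z
  cnt_two : cntOrd G 2 = 1155
  centralizer_three : ∀ {x : G}, orderOf x = 3 → Nat.card (centralizer ({x} : Set G)) = 36
  conj_three : ∀ {x y : G}, orderOf x = 3 → orderOf y = 3 → IsConj x y
  cnt_three : cntOrd G 3 = 12320
  no_nine : ∀ g : G, orderOf g ≠ 9

end CfsgLib.MathieuTwentyTwo.ByOrder
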