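import Cfsg.Agent.Lib.MathieuTwentyTwoOrder.Search
import Mathlib.Algebra.BigOperators.Fin

/-!
# Columns at elements of order prime to 5, 7 and 11 in the table of the Mathieu group of degree 22

A column has five free entries (at the degrees 21, 55, 99, 154 and 210); the relations and the two
orthogonalities with the columns of the identity and of the involutions determine and restrict the
others. Everything here is arithmetical.
-/

set_option autoImplicit false

namespace CfsgLib.MathieuTwentyTwo.ByOrder

/-- Inner product of two columns. -/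
def dotL : List ℤ → List ℤ → ℤ
  | a :: as, b :: bs => a * b + dotL as bs
  | _, _ => 0

theorem dotL_ofFn : ∀ {n : ℕ} (v w : Fin n → ℤ),
    dotL (List.ofFn v) (List.ofFn w) = ∑ i, v i * w i
  | 0, _, _ => by simp [dotL]
  | n + 1, v, w => by
    rw [List.ofFn_succ, List.ofFn_succ, Fin.sum_univ_succ, dotL, dotL_ofFn]

/-- The degrees as a list. -/
def degL : List ℤ := [1, 21, 45, 45, 55, 99, 154, 210, 231, 280, 280, 385]

/-- The values at an involution as a list. -/
def invL : List ℤ := [1, 5, -3, -3, 7, 3, 10, 2, 7, -8, -8, 1]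

/-- The values allowed at degree `d`: with `three`, nothing but zero if 9 divides `d`. -/
def optsT (mo C : ℕ) (three : Bool) (d : ℕ) : List ℤ :=
  if three && (d % 9 == 0) then [0] else opts mo C C d

/-- The columns of squared length `C`. -/
def cands (mo C : ℕ) (three : Bool) : List (List ℤ) :=
  (optsT mo C three 99).flatMap fun h => (optsT mo C three 55).flatMap fun g =>
    if (optsT mo C three 45).contains (1 - g + h) &&
        decide (1 + 2 * ((1 - g + h) * (1 - g + h)) + g * g + h * h ≤ (C : ℤ)) then
      (optsT mo C three 21).flatMap fun a => (optsT mo C three 210).flatMap fun r =>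
        if (optsT mo C three 280).contains (1 - a + 2 * (1 - g + h) + r) &&
            decide (1 + a * a + 2 * ((1 - g + h) * (1 - g + h)) + g * g + h * h + r * r +
              2 * ((1 - a + 2 * (1 - g + h) + r) * (1 - a + 2 * (1 - g + h) + r)) ≤ (C : ℤ)) then
          (optsT mo C three 154).flatMap fun i =>
            let f := 1 - g + h
            let s := 1 - a + 2 * f + r
            let j := -(1 + a - h - i)
            let k := -((1 + 21 * a + 90 * f + 55 * g + 99 * h + 154 * i + 210 * r + 231 * j +
              560 * s) / 385)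
            let v := [1, a, f, f, g, h, i, r, j, s, s, k]
            if (optsT mo C three 231).contains j && (optsT mo C three 385).contains k &&
                (dotL v v == (C : ℤ)) && (dotL v degL == 0) && (dotL v invL == 0) then [v] else []
        else []
    else []

/-- The arithmetical conditions on a column of squared length `C`. -/
structure Column (mo C : ℕ) (three : Bool) (v : Fin 12 → ℤ) : Prop where
  zero : v 0 = 1
  eq_45 : v 3 = v 2
  eq_280 : v 10 = v 9
  rel_seven : v 2 = 1 - v 4 + v 5
  rel_eleven : v 9 = 1 - v 1 + 2 * v 2 + v 7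
  rel_five : v 8 = -(1 + v 1 - v 5 - v 6)
  mem : ∀ i : Fin 12, i ≠ 0 →
    v i ∈ optsT mo C three (![1, 21, 45, 45, 55, 99, 154, 210, 231, 280, 280, 385] i)
  sq : ∑ i, v i * v i = (C : ℤ)
  orth_one : ∑ i, v i * ![1, 21, 45, 45, 55, 99, 154, 210, 231, 280, 280, 385] i = 0
  orth_inv : ∑ i, v i * ![1, 5, -3, -3, 7, 3, 10, 2, 7, -8, -8, 1] i = 0

theorem Column.mem_cands {mo C : ℕ} {three : Bool} {v : Fin 12 → ℤ} (h : Column mo C three v) :
    List.ofFn v ∈ cands mo C three := by
  have hl : List.ofFn v =
      [1, v 1, v 2, v 2, v 4, v 5, v 6, v 7, v 8, v 9, v 9, v 11] := by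
    simp only [List.ofFn_succ, List.ofFn_zero]
    simp [h.zero, h.eq_45, h.eq_280]
  have hsq := h.sq
  have hone := h.orth_one
  have hinv := h.orth_inv
  simp only [Fin.sum_univ_succ, Fin.sum_univ_zero, add_zero] at hsq
  simp [Fin.sum_univ_succ, h.zero, h.eq_45, h.eq_280] at hone hinv
  simp [h.zero, h.eq_45, h.eq_280] at hsq
  refine List.mem_flatMap.2 ⟨v 5, by simpa using h.mem 5 (by decide), List.mem_flatMap.2
    ⟨v 4, by simpa using h.mem 4 (by decide), ?_⟩⟩
  rw [← h.rel_seven, if_pos]
  swap
  · simp only [Bool.and_eq_true, List.contains_iff_mem, decide_eq_true_eq]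
    exact ⟨by simpa using h.mem 2 (by decide), by
      nlinarith [mul_self_nonneg (v 1), mul_self_nonneg (v 6), mul_self_nonneg (v 7),
        mul_self_nonneg (v 8), mul_self_nonneg (v 9), mul_self_nonneg (v 11)]⟩
  refine List.mem_flatMap.2 ⟨v 1, by simpa using h.mem 1 (by decide), List.mem_flatMap.2
    ⟨v 7, by simpa using h.mem 7 (by decide), ?_⟩⟩
  rw [← h.rel_eleven, if_pos]
  swap
  · simp only [Bool.and_eq_true, List.contains_iff_mem, decide_eq_true_eq]
    exact ⟨by simpa using h.mem 9 (by decide), by
      nlinarith [mul_self_nonneg (v 6), mul_self_nonneg (v 8), mul_self_nonneg (v 11)]⟩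
  refine List.mem_flatMap.2 ⟨v 6, by simpa using h.mem 6 (by decide), ?_⟩
  dsimp only
  have hk : -((1 + 21 * v 1 + 90 * v 2 + 55 * v 4 + 99 * v 5 + 154 * v 6 + 210 * v 7 + 231 * v 8 +
      560 * v 9) / 385) = v 11 := by omega
  rw [← h.rel_eleven, ← h.rel_five, hk, if_pos]
  · rw [← hl]; exact List.mem_singleton.2 rfl
  · simp only [Bool.and_eq_true, List.contains_iff_mem, beq_iff_eq]
    refine ⟨⟨⟨⟨by simpa using h.mem 8 (by decide), by simpa using h.mem 11 (by decide)⟩, ?_⟩, ?_⟩, ?_⟩
    · simp only [dotL]; linarith
    · simp only [dotL, degL]; linarith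
    · simp only [dotL, invL]; linarith

/-- The centraliser orders of elements of order divisible by three. -/
def centsThree : List ℕ := [9, 18, 36, 72, 144, 288, 576, 1152]

theorem mem_centsThree {C : ℕ} (h : C ∣ 1152) (h9 : 9 ∣ C) : C ∈ centsThree := by
  have key : ∀ d ∈ (List.range 1153).filter (fun d => 1152 % d == 0 && d % 9 == 0),
      d ∈ centsThree := by decide +kernel
  exact key C (List.mem_filter.2 ⟨List.mem_range.2 (by have := Nat.le_of_dvd (by norm_num) h; omega),
    by simp [Nat.dvd_iff_mod_eq_zero.1 h, Nat.dvd_iff_mod_eq_zero.1 h9]⟩)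

/-- The columns of elements of order three or nine are pairwise not orthogonal; their centralisers
have order 9 or 36. -/
theorem cands_three : centsThree.all (fun C =>
    ((cands 3 C true).isEmpty || (C == 9) || (C == 36)) &&
    (cands 3 C true).all fun v => centsThree.all fun C' => (cands 3 C' true).all fun w =>
      !(dotL v w == 0)) = true := by decide +kernel

end CfsgLib.MathieuTwentyTwo.ByOrder
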