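import Cfsg.Agent.Lib.MathieuTwentyTwoOrder.Table
import Cfsg.Agent.Lib.MathieuTwentyTwoOrder.TableLocalSearch
import Cfsg.Agent.Lib.MathieuTwelve.Values
import Cfsg.Agent.Lib.CharCorr.CyclicSigns
import Cfsg.Agent.Lib.Recog.DegreeMultisetBasic
import Cfsg.Agent.Lib.Characters.Galois

/-!
# The local data that follow from the table of a simple group of order 443520

From the degrees, the column of the involutions and the three relations: one class of involutions
and one of elements of order three, no elements of order 9.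
-/

set_option autoImplicit false
set_option linter.style.haveILetI false
set_option linter.unusedSectionVars false

noncomputable section

namespace CfsgLib.MathieuTwentyTwo.ByOrder

open Cfsg Subgroup CfsgLib.Recog.OrderCounts CfsgLib.Characters CfsgLib.CharCorr
open scoped ComplexConjugate Classical

universe u

variable {G : Type u} [Group G] [Fintype G]

theorem reg22_pow {g : G} (hg : Reg22 g) (k : ℕ) : Reg22 (g ^ k) :=
  ⟨fun h => hg.1 (h.trans (orderOf_pow_dvd k)), fun h => hg.2.1 (h.trans (orderOf_pow_dvd k)),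
    fun h => hg.2.2 (h.trans (orderOf_pow_dvd k))⟩

theorem reg22_of_dvd {g : G} (h : orderOf g ∣ 1152) : Reg22 g :=
  ⟨fun h' => absurd (h'.trans h) (by norm_num), fun h' => absurd (h'.trans h) (by norm_num),
    fun h' => absurd (h'.trans h) (by norm_num)⟩

theorem orderOf_eq_of_isConj {a b : G} (h : IsConj a b) : orderOf a = orderOf b := by
  obtain ⟨c, hc⟩ := h
  exact hc.orderOf_eq (c : G)

/-- An element commuting with `g` of order a prime whose centralisers are that small. -/
theorem not_dvd_card_centralizer {q : ℕ} (hq : q.Prime)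
    (hc : ∀ {y : G}, orderOf y = q → Nat.card (centralizer ({y} : Set G)) = q)
    {g : G} (hg1 : g ≠ 1) (hg : ¬ q ∣ orderOf g) :
    ¬ q ∣ Nat.card (centralizer ({g} : Set G)) := by
  haveI := Fact.mk hq
  intro h
  obtain ⟨⟨y, hy⟩, hy'⟩ := exists_prime_orderOf_dvd_card' (G := centralizer ({g} : Set G)) q h
  rw [Subgroup.orderOf_mk] at hy'
  have hgy : g ∈ centralizer ({y} : Set G) :=
    mem_centralizer_singleton_iff.2 (mem_centralizer_singleton_iff.1 hy).symm
  have h2 := Subgroup.orderOf_dvd_natCard _ hgy
  rw [hc hy'] at h2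
  rcases hq.eq_one_or_self_of_dvd _ h2 with e | e
  · exact hg1 (orderOf_eq_one_iff.1 e)
  · exact hg e.symm.dvd

namespace Table

variable (T : Table G)

/-- The value of the `i`th character, when it is an integer. -/
def val (g : G) (i : Fin 12) : ℤ :=
  if h : ∃ v : ℤ, (T.chi i : G → ℂ) g = (v : ℂ) then h.choose else 0

include T in
theorem card_eq : Nat.card G = 443520 := T.small.card

include T in
theorem not_commutative : ¬ IsMulCommutative G := by
  haveI := T.small.isSimple
  exact Small.nc_of_not_prime (by rw [T.card_eq]; norm_num)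

theorem chi_one (i : Fin 12) : (T.chi i : G → ℂ) 1 = (degTable i : ℂ) := by
  rw [irr_one_eq_charDegree, T.degree]

/-- The values are unchanged under powers prime to the order of the group. -/
theorem chi_pow {g : G} (hg : Reg22 g) {m : ℕ} (hm : m.Coprime 443520) (i : Fin 12) :
    (T.chi i : G → ℂ) (g ^ m) = (T.chi i : G → ℂ) g := by
  rw [← T.card_eq] at hm
  obtain ⟨j, hj⟩ := T.bijective.2
    ⟨fun x => (T.chi i : G → ℂ) (x ^ m), CharGalois.isIrrCharacter_pow (T.chi i).2 hm⟩
  have hfun : ∀ x, (T.chi j : G → ℂ) x = (T.chi i : G → ℂ) (x ^ m) := fun x => by rw [hj]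
  have hdeg : degTable j = degTable i := by
    have h1 := hfun 1
    rw [one_pow, T.chi_one, T.chi_one] at h1
    exact_mod_cast h1
  have key : ∀ a b : Fin 12, degTable b = degTable a → b = a ∨ (a = 2 ∧ b = 3) ∨ (a = 3 ∧ b = 2) ∨
      (a = 9 ∧ b = 10) ∨ (a = 10 ∧ b = 9) := by decide
  rw [← hfun]
  rcases key i j hdeg with rfl | ⟨rfl, rfl⟩ | ⟨rfl, rfl⟩ | ⟨rfl, rfl⟩ | ⟨rfl, rfl⟩
  exacts [rfl, (T.eq_45 g hg).symm, T.eq_45 g hg, (T.eq_280 g hg).symm, T.eq_280 g hg]

/-- Integrality of the values. -/
theorem val_spec {g : G} (hg : Reg22 g) (i : Fin 12) :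
    (T.chi i : G → ℂ) g = (T.val g i : ℂ) := by
  have h : ∃ v : ℤ, (T.chi i : G → ℂ) g = (v : ℂ) := by
    obtain ⟨q, hq⟩ := CharGalois.exists_rat_char (irr_isCharacter (T.chi i)) g fun m hm => by
      rw [T.card_eq] at hm
      exact T.chi_pow hg hm i
    obtain ⟨z, hz⟩ := exists_int_of_isIntegral_rat
      (hq ▸ isIntegral_of_isCharacter (irr_isCharacter (T.chi i)) g)
    exact ⟨z, by rw [hq, ← hz]; push_cast; rfl⟩
  rw [val, dif_pos h]
  exact h.choose_spec

theorem val_congr {g h : G} (hg : Reg22 g) (hh : Reg22 h) (hc : IsConj g h) : T.val g = T.val h := by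
  funext i
  have := classFunction_eq_of_isConj (irr_isClassFunction (T.chi i)) hc
  rw [T.val_spec hg, T.val_spec hh] at this
  exact_mod_cast this

theorem val_one (i : Fin 12) : T.val 1 i = (degTable i : ℤ) := by
  have := T.val_spec (reg22_of_dvd (g := (1 : G)) (by simp)) i
  rw [T.chi_one] at this
  exact_mod_cast this.symm

theorem val_two {z : G} (hz : orderOf z = 2) (i : Fin 12) : T.val z i = invColumn i := by
  have := T.val_spec (reg22_of_dvd (g := z) (by rw [hz]; norm_num)) i
  rw [T.column_two z hz] at this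
  exact_mod_cast this.symm

theorem sum_chi (F : IrrCharacter G → ℤ) : ∑ i, F (T.chi i) = ∑ η, F η :=
  (Equiv.ofBijective T.chi T.bijective).sum_comp F

theorem sum_val_sq {g : G} (hg : Reg22 g) :
    ∑ i, T.val g i * T.val g i = (Nat.card (centralizer ({g} : Set G)) : ℤ) := by
  set v : IrrCharacter G → ℤ := fun η => T.val g ((Equiv.ofBijective T.chi T.bijective).symm η)
  have hv : ∀ η : IrrCharacter G, (η : G → ℂ) g = (v η : ℂ) := fun η => by
    conv_lhs => rw [← (Equiv.ofBijective T.chi T.bijective).apply_symm_apply η]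
    exact T.val_spec hg _
  rw [← MathieuTwelve.sum_sq_eq g hv, ← T.sum_chi]
  exact Finset.sum_congr rfl fun i _ => by simp [v]

theorem sum_val_mul {g h : G} (hg : Reg22 g) (hh : Reg22 h) (hgh : ¬ IsConj g h) :
    ∑ i, T.val g i * T.val h i = 0 := by
  set v : IrrCharacter G → ℤ := fun η => T.val g ((Equiv.ofBijective T.chi T.bijective).symm η)
  set w : IrrCharacter G → ℤ := fun η => T.val h ((Equiv.ofBijective T.chi T.bijective).symm η)
  have hv : ∀ η : IrrCharacter G, (η : G → ℂ) g = (v η : ℂ) := fun η => by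
    conv_lhs => rw [← (Equiv.ofBijective T.chi T.bijective).apply_symm_apply η]
    exact T.val_spec hg _
  have hw : ∀ η : IrrCharacter G, (η : G → ℂ) h = (w η : ℂ) := fun η => by
    conv_lhs => rw [← (Equiv.ofBijective T.chi T.bijective).apply_symm_apply η]
    exact T.val_spec hh _
  rw [← MathieuTwelve.sum_mul_eq_zero hgh hv hw, ← T.sum_chi]
  exact Finset.sum_congr rfl fun i _ => by simp [v, w]

theorem isConj_of_val_eq {g h : G} (hg : Reg22 g) (hh : Reg22 h) (e : T.val g = T.val h) :
    IsConj g h := by
  by_contra hc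
  have h0 := T.sum_val_mul hg hh hc
  rw [← e, T.sum_val_sq hg] at h0
  exact Nat.card_pos.ne' (by exact_mod_cast h0)

include T in
theorem isConj_pow {g : G} (hg : Reg22 g) {m : ℕ} (hm : m.Coprime 443520) : IsConj g (g ^ m) := by
  refine T.isConj_of_val_eq hg (reg22_pow hg m) (funext fun i => ?_)
  have h := T.chi_pow hg hm i
  rw [T.val_spec hg, T.val_spec (reg22_pow hg m)] at h
  exact_mod_cast h.symm

include T in
theorem card_centralizer_dvd {g : G} (hg : Reg22 g) (hg1 : g ≠ 1) :
    Nat.card (centralizer ({g} : Set G)) ∣ 1152 := by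
  have h := Subgroup.card_subgroup_dvd_card (centralizer ({g} : Set G))
  rw [T.card_eq, show (443520 : ℕ) = 1152 * (5 * (7 * 11)) from rfl] at h
  refine Nat.Coprime.dvd_of_dvd_mul_right ?_ h
  refine Nat.Coprime.mul_right ?_ (Nat.Coprime.mul_right ?_ ?_)
  · exact (((by norm_num : Nat.Prime 5).coprime_iff_not_dvd).2
      (not_dvd_card_centralizer (by norm_num) T.small.centralizer_five hg1 hg.1)).symm
  · exact (((by norm_num : Nat.Prime 7).coprime_iff_not_dvd).2
      (not_dvd_card_centralizer (by norm_num) T.small.centralizer_seven hg1 hg.2.1)).symm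
  · exact (((by norm_num : Nat.Prime 11).coprime_iff_not_dvd).2
      (not_dvd_card_centralizer (by norm_num) T.small.centralizer_eleven hg1 hg.2.2)).symm

include T in
theorem index_centralizer (g : G) : (centralizer ({g} : Set G)).index =
    443520 / Nat.card (centralizer ({g} : Set G)) := by
  rw [← T.card_eq, ← (centralizer ({g} : Set G)).index_mul_card, Nat.mul_div_cancel _ Nat.card_pos]

/-- The congruences at elements of prime power order. -/
theorem val_modEq {p : ℕ} (hp : p.Prime) (i : Fin 12) : ∀ (k : ℕ) (g : G), Reg22 g →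
    g ^ p ^ k = 1 → (p : ℤ) ∣ T.val g i - (degTable i : ℤ)
  | 0, g, _, h => by
    rw [pow_zero, pow_one] at h
    rw [h, T.val_one, sub_self]
    exact dvd_zero _
  | k + 1, g, hg, h => by
    have h1 := val_modEq hp i k (g ^ p) (reg22_pow hg p) (by rw [← pow_mul, ← pow_succ']; exact h)
    have h2 := (CyclicSigns.modEq_pow_prime (irr_isCharacter (T.chi i)) g hp (T.val_spec hg i)
      (T.val_spec (reg22_pow hg p) i)).symm.dvd
    simpa using dvd_add h2 h1

theorem val_lt {g : G} (hg : Reg22 g) (hg1 : g ≠ 1) {i : Fin 12} (hi : i ≠ 0) :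
    (T.val g i).natAbs < degTable i := by
  haveI := T.small.isSimple
  have h := Sporadic.CharTools.norm_lt_degree T.not_commutative (χ := T.chi i)
    (fun e => hi (T.bijective.1 (e.trans T.chi_zero.symm))) (T.chi_one i) hg1
  rw [T.val_spec hg, Complex.norm_intCast] at h
  have h' : |T.val g i| < (degTable i : ℤ) := by exact_mod_cast h
  rw [Int.abs_eq_natAbs] at h'
  exact_mod_cast h'

/-- The column at a regular element that is neither trivial nor an involution. -/
theorem column {g : G} (hg : Reg22 g) (hg1 : g ≠ 1) (hg2 : orderOf g ≠ 2) {mo : ℕ} {three : Bool}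
    (hmo : ∀ i, (mo : ℤ) ∣ T.val g i - (degTable i : ℤ))
    (hthree : three = true → 3 ∣ orderOf g) :
    Column mo (Nat.card (centralizer ({g} : Set G))) three (T.val g) := by
  have hC : Nat.card (centralizer ({g} : Set G)) < 4 ^ 9 :=
    lt_of_le_of_lt (Nat.le_of_dvd (by norm_num) (T.card_centralizer_dvd hg hg1)) (by norm_num)
  haveI := Fact.mk Nat.prime_two
  obtain ⟨z, hz⟩ := exists_prime_orderOf_dvd_card' (G := G) 2 (by rw [T.card_eq]; norm_num)
  refine ⟨?_, ?_, ?_, ?_, ?_, ?_, ?_, T.sum_val_sq hg, ?_, ?_⟩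
  · have := T.val_spec hg 0
    rw [T.chi_zero, principalIrr_apply] at this
    exact_mod_cast this.symm
  · have := T.eq_45 g hg
    rw [T.val_spec hg, T.val_spec hg] at this
    exact_mod_cast this.symm
  · have := T.eq_280 g hg
    rw [T.val_spec hg, T.val_spec hg] at this
    exact_mod_cast this.symm
  · have := T.rel_seven g hg
    simp only [T.val_spec hg] at this
    exact_mod_cast this
  · have := T.rel_eleven g hg
    simp only [T.val_spec hg] at this
    exact_mod_cast this
  · have := T.rel_five g hg
    simp only [T.val_spec hg] at this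
    exact_mod_cast this
  · intro i hi
    show T.val g i ∈ optsT mo _ three (degTable i)
    unfold optsT
    split_ifs with h9
    · simp only [Bool.and_eq_true, beq_iff_eq] at h9
      have h := Recog.DegreeMultiset.vanish_of_ordProj_dvd Nat.prime_three
        (show Nat.card G = 9 * 49280 by rw [T.card_eq]) (by norm_num) (T.chi i)
        (T.degree i ▸ Nat.dvd_of_mod_eq_zero h9.2) (hthree h9.1)
      rw [T.val_spec hg] at h
      rw [List.mem_singleton]
      exact_mod_cast h
    · refine mem_opts hC (T.val_lt hg hg1 hi) ?_ (hmo i) ?_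
      · rw [← T.sum_val_sq hg]
        exact Finset.single_le_sum (f := fun j => T.val g j * T.val g j)
          (fun j _ => mul_self_nonneg _) (Finset.mem_univ i)
      · have h := MathieuTwelve.dvd_index_mul (T.chi i) g (T.val_spec hg i)
        rwa [T.degree, T.index_centralizer] at h
  · have h := T.sum_val_mul hg (reg22_of_dvd (g := (1 : G)) (by simp))
      fun hc => hg1 (isConj_one_left.1 hc)
    rw [← h]
    refine Finset.sum_congr rfl fun i _ => ?_
    rw [T.val_one]
    congr 1
    revert i; decide
  · have h := T.sum_val_mul hg (reg22_of_dvd (g := z) (by rw [hz]; norm_num))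
      fun hc => hg2 ((orderOf_eq_of_isConj hc).trans hz)
    rw [← h]
    refine Finset.sum_congr rfl fun i _ => ?_
    rw [T.val_two hz]
    rfl

include T in
theorem centralizer_two {z : G} (hz : orderOf z = 2) :
    Nat.card (centralizer ({z} : Set G)) = 384 := by
  have h := T.sum_val_sq (reg22_of_dvd (g := z) (by rw [hz]; norm_num))
  simp only [T.val_two hz] at h
  rw [show (∑ i, invColumn i * invColumn i) = 384 by decide] at h
  exact_mod_cast h.symm

include T in
theorem conj_two {y z : G} (hy : orderOf y = 2) (hz : orderOf z = 2) : IsConj y z :=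
  T.isConj_of_val_eq (reg22_of_dvd (by rw [hy]; norm_num)) (reg22_of_dvd (by rw [hz]; norm_num))
    (funext fun i => by rw [T.val_two hy, T.val_two hz])

include T in
/-- The size of a class that consists of all elements of its order. -/
theorem cntOrd_of_conj {n C : ℕ} {x : G} (hx : orderOf x = n)
    (hconj : ∀ y : G, orderOf y = n → IsConj x y)
    (hC : Nat.card (centralizer ({x} : Set G)) = C) : cntOrd G n = 443520 / C := by
  rw [← hC, ← T.index_centralizer, ← card_isConj_eq_index]
  exact Nat.card_congr (Equiv.subtypeEquivRight fun y =>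
    ⟨hconj y, fun h => (orderOf_eq_of_isConj h).symm.trans hx⟩)

include T in
/-- An element of three-power order is centralised by a Sylow 3-subgroup. -/
theorem nine_dvd_centralizer {x : G} {k : ℕ} (hx : orderOf x = 3 ^ k) :
    9 ∣ Nat.card (centralizer ({x} : Set G)) := by
  haveI := Fact.mk Nat.prime_three
  obtain ⟨P, hP⟩ := (IsPGroup.of_card (n := k) (by rw [Nat.card_zpowers, hx]) :
    IsPGroup 3 (zpowers x)).exists_le_sylow
  have hc : Nat.card (P : Subgroup G) = 3 ^ 2 :=
    Small.card_sylow_of_card_eq (k := 2) (m := 49280) (by rw [T.card_eq]; norm_num) (by norm_num) P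
  haveI := IsPGroup.isMulCommutative_of_card_eq_prime_sq hc
  have hle : (P : Subgroup G) ≤ centralizer ({x} : Set G) := fun a ha =>
    mem_centralizer_singleton_iff.2 (congrArg Subtype.val
      (mul_comm' (⟨a, ha⟩ : (P : Subgroup G)) ⟨x, hP (mem_zpowers x)⟩))
  have := Subgroup.card_dvd_of_le hle
  rw [hc, show (3 : ℕ) ^ 2 = 9 from rfl] at this
  exact this

theorem column_three {x : G} {k : ℕ} (hx : orderOf x = 3 ^ (k + 1)) (hk : k ≤ 1) :
    Nat.card (centralizer ({x} : Set G)) ∈ centsThree ∧
      List.ofFn (T.val x) ∈ cands 3 (Nat.card (centralizer ({x} : Set G))) true := by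
  have hreg : Reg22 x := reg22_of_dvd (by rw [hx]; interval_cases k <;> norm_num)
  have hx1 : x ≠ 1 := fun h => by
    rw [h, orderOf_one] at hx
    interval_cases k <;> simp at hx
  refine ⟨mem_centsThree (T.card_centralizer_dvd hreg hx1) (T.nine_dvd_centralizer hx),
    (T.column hreg hx1 (by rw [hx]; interval_cases k <;> norm_num) (fun i =>
      T.val_modEq Nat.prime_three i (k + 1) x hreg (by rw [← hx]; exact pow_orderOf_eq_one x))
      fun _ => by rw [hx]; exact dvd_pow_self 3 k.succ_ne_zero).mem_cands⟩

include T in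
theorem isConj_three {x y : G} {k l : ℕ} (hx : orderOf x = 3 ^ (k + 1)) (hk : k ≤ 1)
    (hy : orderOf y = 3 ^ (l + 1)) (hl : l ≤ 1) : IsConj x y := by
  by_contra hc
  obtain ⟨hx1, hx2⟩ := T.column_three hx hk
  obtain ⟨hy1, hy2⟩ := T.column_three hy hl
  have h := List.all_eq_true.1 cands_three _ hx1
  rw [Bool.and_eq_true] at h
  have h2 := List.all_eq_true.1 (List.all_eq_true.1 (List.all_eq_true.1 h.2 _ hx2) _ hy1) _ hy2
  rw [dotL_ofFn, T.sum_val_mul (reg22_of_dvd (by rw [hx]; interval_cases k <;> norm_num))
    (reg22_of_dvd (by rw [hy]; interval_cases l <;> norm_num)) hc] at h2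
  simp at h2

include T in
theorem no_nine (g : G) : orderOf g ≠ 9 := fun hg => by
  have h3 : orderOf (g ^ 3) = 3 := by rw [orderOf_pow' g (by norm_num), hg]; norm_num
  have := orderOf_eq_of_isConj (T.isConj_three (k := 1) (l := 0) (by rw [hg]; norm_num) le_rfl
    (by rw [h3]; norm_num) zero_le_one)
  omega

include T in
theorem centralizer_three {x : G} (hx : orderOf x = 3) :
    Nat.card (centralizer ({x} : Set G)) = 36 := by
  haveI := Fact.mk Nat.prime_two
  haveI := Fact.mk Nat.prime_three
  obtain ⟨z, hz⟩ := exists_prime_orderOf_dvd_card' (G := G) 2 (by rw [T.card_eq]; norm_num)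
  obtain ⟨⟨y, hy⟩, hy'⟩ := exists_prime_orderOf_dvd_card' (G := centralizer ({z} : Set G)) 3
    (by rw [T.centralizer_two hz]; norm_num)
  rw [Subgroup.orderOf_mk] at hy'
  have hC : Nat.card (centralizer ({x} : Set G)) = Nat.card (centralizer ({y} : Set G)) := by
    have hxr : Reg22 x := reg22_of_dvd (by rw [hx]; norm_num)
    have hyr : Reg22 y := reg22_of_dvd (by rw [hy']; norm_num)
    have h := T.val_congr hxr hyr (T.isConj_three (k := 0) (l := 0) (by rw [hx]; norm_num)
      zero_le_one (by rw [hy']; norm_num) zero_le_one)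
    have h1 := T.sum_val_sq hxr
    rw [h, T.sum_val_sq hyr] at h1
    exact_mod_cast h1.symm
  have h2 : 2 ∣ Nat.card (centralizer ({y} : Set G)) := by
    rw [← hz]
    exact Subgroup.orderOf_dvd_natCard _
      (mem_centralizer_singleton_iff.2 (mem_centralizer_singleton_iff.1 hy).symm)
  obtain ⟨hy1, hy2⟩ := T.column_three (k := 0) (by rw [hy']; norm_num) zero_le_one
  have h := List.all_eq_true.1 cands_three _ hy1
  rw [Bool.and_eq_true] at h
  simp only [Bool.or_eq_true, List.isEmpty_iff, beq_iff_eq] at h
  rw [hC]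
  rcases h.1 with (h0 | h9) | h36
  · rw [h0] at hy2
    exact absurd hy2 List.not_mem_nil
  · omega
  · exact h36

/-- The local data given by the table. -/
theorem tableLocal (T : Table G) : TableLocal G := by
  haveI := Fact.mk Nat.prime_two
  haveI := Fact.mk Nat.prime_three
  obtain ⟨z, hz⟩ := exists_prime_orderOf_dvd_card' (G := G) 2 (by rw [T.card_eq]; norm_num)
  obtain ⟨x, hx⟩ := exists_prime_orderOf_dvd_card' (G := G) 3 (by rw [T.card_eq]; norm_num)
  have hc3 : ∀ {a b : G}, orderOf a = 3 → orderOf b = 3 → IsConj a b := fun ha hb =>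
    T.isConj_three (k := 0) (l := 0) (by rw [ha]; norm_num) zero_le_one (by rw [hb]; norm_num)
      zero_le_one
  exact
    { small := T.small
      centralizer_two := fun h => T.centralizer_two h
      conj_two := fun h h' => T.conj_two h h'
      cnt_two := by
        rw [T.cntOrd_of_conj hz (fun y hy => T.conj_two hz hy) (T.centralizer_two hz)]
      centralizer_three := fun h => T.centralizer_three h
      conj_three := fun h h' => hc3 h h'
      cnt_three := by
        rw [T.cntOrd_of_conj hx (fun y hy => hc3 hx hy) (T.centralizer_three hx)]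
      no_nine := T.no_nine }

end Table

end CfsgLib.MathieuTwentyTwo.ByOrder
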