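import Cfsg.Agent.Lib.MathieuTwentyTwoOrder.SmallPrimes
import Cfsg.Agent.Lib.MathieuTwentyTwoOrder.CertTable
import Cfsg.Agent.Lib.MathieuTwentyTwoOrder.Table

/-!
# The degrees, the column of the involutions and the relations of the three blocks
-/

set_option autoImplicit false
set_option linter.style.haveILetI false
set_option linter.unusedSectionVars false

noncomputable section

namespace CfsgLib.MathieuTwentyTwo.ByOrder

open Cfsg CfsgLib.Characters CfsgLib.CharCorr
open scoped Classical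

universe u

variable {G : Type u} [Group G] [Fintype G]

/-- Members of a block are not divisible by its prime. -/
theorem Blk.not_dvd_dg {p : ℕ} [hp : Fact p.Prime] {P : Sylow p G} {e : ℕ} (B : Blk P e)
    (he : ¬ p ∣ e) {χ : IrrCharacter G} (h : χ ∈ B.members) : ¬ p ∣ dg χ := by
  intro hd
  have hd' : (p : ℤ) ∣ (dg χ : ℤ) := Int.natCast_dvd_natCast.2 hd
  rcases B.mem_or_mem h with h' | h'
  · have h1 := dvd_sub hd' (B.degX χ h')
    rw [sub_sub_cancel] at h1
    rcases B.sgn_spec χ h' with hs | hs <;> rw [hs] at h1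
    · exact hp.out.not_dvd_one (by exact_mod_cast h1)
    · exact hp.out.not_dvd_one (by exact_mod_cast dvd_neg.1 h1)
  · have h1 := dvd_sub hd' (B.degY χ h')
    rw [sub_sub_cancel] at h1
    rcases B.ε_spec with hs | hs <;> rw [hs] at h1
    · rw [one_mul] at h1; exact he (by exact_mod_cast h1)
    · rw [neg_one_mul, dvd_neg] at h1; exact he (by exact_mod_cast h1)

theorem coe_div77 {α : Type*} (deg : α → ℕ) (L : List α) :
    ((div77 deg L : List α) : Multiset α) = (L : Multiset α).filter (fun a => 77 ∣ deg a) := by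
  rw [div77, Multiset.filter_coe]
  exact congrArg _ (List.filter_congr fun a _ => by
    rw [Bool.eq_iff_iff]; simp [Nat.dvd_iff_mod_eq_zero])

/-- The linear relation of a row, the values depending on the degree only. -/
theorem RowOf.rel_of_perm {p : ℕ} [hp : Fact p.Prime] {P : Sylow p G} {e : ℕ} {B : Blk P e}
    {r : Row} (R : RowOf B r) (hodd : p ≠ 2) {g : G} (hg : ¬ p ∣ orderOf g) (F : ℕ → ℂ)
    (hF : ∀ χ : IrrCharacter G, χ ≠ principalIrr G → (χ : G → ℂ) g = F (dg χ)) {L : List ℕ}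
    (hL : r.ds.Perm L) :
    (B.ε : ℂ) * F r.x = 1 + (L.map fun d => (sd p d : ℂ) * F d).sum := by
  have h := B.rel_split R.ψ_mem hg
  rw [hF _ (fun e => B.principal_notMem_Y (e ▸ R.ψ_mem)), R.x_eq] at h
  rw [h, Finset.sum_eq_multiset_sum, ← R.cs_eq, Multiset.map_coe, Multiset.sum_coe,
    ← (hL.map _).sum_eq, ← R.ds_eq, List.map_map]
  congr 1
  refine congrArg List.sum (List.map_congr_left fun χ hχ => ?_)
  have hX : χ ∈ B.X.erase (principalIrr G) := by
    rw [← Multiset.mem_coe, R.cs_eq] at hχ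
    exact hχ
  rw [Finset.mem_erase] at hX
  simp only [Function.comp_apply]
  rw [(B.mod_sgn hodd hX.2).2, hF χ hX.1]

variable [IsSimpleGroup G]

/-- The degrees of the nonprincipal characters. -/
def degList : List ℕ := [21, 45, 45, 55, 99, 154, 210, 231, 280, 280, 385]

/-- A representative for each degree. -/
def repIdx (d : ℕ) : Fin 12 :=
  if d = 21 then 1 else if d = 45 then 2 else if d = 55 then 4 else if d = 99 then 5
  else if d = 154 then 6 else if d = 210 then 7 else if d = 231 then 8 else if d = 280 then 9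
  else 11

/-- A row with the table's shape. -/
structure TableShape (a b c : Row) : Prop where
  a_ds : a.ds.Perm [21, 45, 45, 210]
  a_x : a.x = 280
  a_eps : a.eps = 1
  b_ds : b.ds.Perm [55, 99]
  b_x : b.x = 45
  b_eps : b.eps = 1
  c_degs : c.degs.Perm [21, 99, 154, 231]

/-- The items at an involution and the shape of the rows. -/
theorem involution_items (hG : Nat.card G = ord22) (hS : SmallCent G)
    [Fact (Nat.Prime 5)] [Fact (Nat.Prime 7)] [Fact (Nat.Prime 11)]
    {P₁ : Sylow 11 G} {B₁ : Blk P₁ 5} {a : Row} (Ra : RowOf B₁ a) (hc₁ : (regPart P₁).card = 1)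
    (hr₁ : (Subgroup.centralizer ((P₁ : Subgroup G) : Set G)).relIndex
      (Subgroup.normalizer ((P₁ : Subgroup G) : Set G)) = 5) (ha : a ∈ rowsEleven)
    {P₇ : Sylow 7 G} {B₇ : Blk P₇ 3} {b : Row} (Rb : RowOf B₇ b) (hc₇ : (regPart P₇).card = 1)
    (hr₇ : (Subgroup.centralizer ((P₇ : Subgroup G) : Set G)).relIndex
      (Subgroup.normalizer ((P₇ : Subgroup G) : Set G)) = 3) (hb : b ∈ rowsSeven)
    {P₅ : Sylow 5 G} {B₅ : Blk P₅ 4} {c : Row} (Rc : RowOf B₅ c) (hc₅ : (regPart P₅).card = 1)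
    (hr₅ : (Subgroup.centralizer ((P₅ : Subgroup G) : Set G)).relIndex
      (Subgroup.normalizer ((P₅ : Subgroup G) : Set G)) = 4) (hc : c ∈ rowsFive)
    {z : G} (hz : orderOf z = 2) :
    TableShape a b c ∧
      ((Finset.univ.erase (principalIrr G)).val.map (pr z) : Multiset (ℕ × ℤ)) =
        ((tableItems ++ [(385, 1)] : List (ℕ × ℤ)) : Multiset (ℕ × ℤ)) := by
  set C := Nat.card (Subgroup.centralizer ({z} : Set G)) with hC
  -- the parts
  set U₀ := B₁.members with hU₀
  set U₁ := B₇.members.filter (fun χ => 11 ∣ dg χ) with hU₁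
  set U₂ := B₅.members.filter (fun χ => 77 ∣ dg χ) with hU₂
  set U₃ := (Finset.univ : Finset (IrrCharacter G)).filter (fun χ => dg χ = 385) with hU₃
  have n11 : ∀ χ ∈ U₀, ¬ 11 ∣ dg χ := fun χ h => B₁.not_dvd_dg (by norm_num) h
  have n7 : ∀ χ ∈ B₇.members, ¬ 7 ∣ dg χ := fun χ h => B₇.not_dvd_dg (by norm_num) h
  have n5 : ∀ χ ∈ B₅.members, ¬ 5 ∣ dg χ := fun χ h => B₅.not_dvd_dg (by norm_num) h
  have hd01 : Disjoint U₀ U₁ :=
    Finset.disjoint_left.2 fun χ h h' => n11 χ h (Finset.mem_filter.1 h').2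
  have hd2 : Disjoint (U₀.disjUnion U₁ hd01) U₂ := Finset.disjoint_left.2 fun χ h h' => by
    rw [Finset.mem_disjUnion] at h
    obtain ⟨-, h77⟩ := Finset.mem_filter.1 h'
    rcases h with h | h
    · exact n11 χ h (dvd_trans (by norm_num) h77)
    · exact n7 χ (Finset.mem_filter.1 h).1 (dvd_trans (by norm_num) h77)
  set U := (U₀.disjUnion U₁ hd01).disjUnion U₂ hd2 with hU
  have hd3 : Disjoint U U₃ := Finset.disjoint_left.2 fun χ h h' => by
    obtain ⟨-, h385⟩ := Finset.mem_filter.1 h'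
    simp only [hU, Finset.mem_disjUnion] at h
    rcases h with (h | h) | h
    · exact n11 χ h (by rw [h385]; norm_num)
    · exact n7 χ (Finset.mem_filter.1 h).1 (by rw [h385]; norm_num)
    · exact n5 χ (Finset.mem_filter.1 h).1 (by rw [h385]; norm_num)
  have hall : U.disjUnion U₃ hd3 = Finset.univ.erase (principalIrr G) := by
    ext χ
    simp only [hU, Finset.mem_disjUnion, Finset.mem_erase, Finset.mem_univ, and_true, hU₁, hU₂,
      hU₃, Finset.mem_filter, true_and]
    constructor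
    · rintro (((h | h) | h) | h)
      · exact B₁.ne_principal h
      · exact B₇.ne_principal h.1
      · exact B₅.ne_principal h.1
      · intro e
        rw [e, show dg (principalIrr G : IrrCharacter G) = 1 from charDegree_principal] at h
        norm_num at h
    · intro hne
      by_cases h11 : 11 ∣ dg χ
      swap
      · exact Or.inl (Or.inl (Or.inl (filter_subset B₁ hc₁ (S := {χ})
          (fun _ h => Finset.mem_singleton.1 h ▸ hne) (by simp [h11]))))
      by_cases h7 : 7 ∣ dg χ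
      swap
      · exact Or.inl (Or.inl (Or.inr ⟨filter_subset B₇ hc₇ (S := {χ})
          (fun _ h => Finset.mem_singleton.1 h ▸ hne) (by simp [h7]), h11⟩))
      have h77 : 77 ∣ dg χ := Nat.Coprime.mul_dvd_of_dvd_of_dvd (by norm_num) h7 h11
      by_cases h5 : 5 ∣ dg χ
      swap
      · exact Or.inl (Or.inr ⟨filter_subset B₅ hc₅ (S := {χ})
          (fun _ h => Finset.mem_singleton.1 h ▸ hne) (by simp [h5]), h77⟩)
      refine Or.inr ?_
      have h385 : ∀ d ∈ degB, d % 385 = 0 → d = 385 := by decide +kernel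
      exact h385 _ (dg_mem_degB hG hne)
        (Nat.mod_eq_zero_of_dvd (Nat.Coprime.mul_dvd_of_dvd_of_dvd (by norm_num) h5 h77))
  -- the centraliser order
  have hz1 : z ≠ 1 := fun h => by rw [h, orderOf_one] at hz; norm_num at hz
  have hCdvd : C ∣ 1152 * 385 := by
    have := Subgroup.card_subgroup_dvd_card (Subgroup.centralizer ({z} : Set G))
    rwa [hG] at this
  have hq : ∀ q : ℕ, q.Prime → q ≠ 2 →
      (∀ {y : G}, orderOf y = q → Nat.card (Subgroup.centralizer ({y} : Set G)) = q) →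
      ¬ q ∣ C := by
    intro q hq hq2 hcy hd
    haveI := Fact.mk hq
    obtain ⟨⟨y, hy⟩, ho⟩ := exists_prime_orderOf_dvd_card'
      (G := Subgroup.centralizer ({z} : Set G)) q hd
    rw [Subgroup.orderOf_mk] at ho
    have h := Subgroup.orderOf_dvd_natCard (Subgroup.centralizer ({y} : Set G)) (x := z)
      (Subgroup.mem_centralizer_singleton_iff.2 (Subgroup.mem_centralizer_singleton_iff.1 hy).symm)
    rw [hcy ho, hz] at h
    exact hq2 ((Nat.prime_dvd_prime_iff_eq Nat.prime_two hq).1 h).symm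
  have hC1152 : C ∣ 1152 := by
    refine Nat.Coprime.dvd_of_dvd_mul_right ?_ hCdvd
    rw [show (385 : ℕ) = 5 * 7 * 11 by norm_num]
    refine Nat.Coprime.mul_right (Nat.Coprime.mul_right ?_ ?_) ?_
    · exact ((Nat.Prime.coprime_iff_not_dvd (by norm_num)).2
        (hq 5 (by norm_num) (by norm_num) hS.centralizer_five)).symm
    · exact ((Nat.Prime.coprime_iff_not_dvd (by norm_num)).2
        (hq 7 (by norm_num) (by norm_num) hS.centralizer_seven)).symm
    · exact ((Nat.Prime.coprime_iff_not_dvd (by norm_num)).2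
        (hq 11 (by norm_num) (by norm_num) hS.centralizer_eleven)).symm
  have hC2 : 2 ∣ C := by
    have h := Subgroup.orderOf_dvd_natCard (Subgroup.centralizer ({z} : Set G)) (x := z)
      (Subgroup.mem_centralizer_singleton_iff.2 rfl)
    rwa [hz] at h
  have hcent : C ∈ centsTwo := List.mem_filter.2 ⟨mem_divN (hC1152.trans (by rw [ord22]; norm_num)),
    by simp [Nat.mod_eq_zero_of_dvd hC2, Nat.mod_eq_zero_of_dvd hC1152]⟩
  -- the fills
  have h4 : ∀ {q : ℕ} [Fact q.Prime] {Q : Sylow q G} {eq : ℕ} (B : Blk Q eq), ∀ χ ∈ B.members,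
      ((4 : ℕ) : ℤ) ∣ val z χ - (dg χ : ℤ) :=
    fun B χ hχ => (val_bound hG hz (B.ne_principal hχ)).2
  obtain ⟨ib, hib, hib'⟩ := Rb.exists_fill hG (by norm_num)
    (card_sylow_eq hG (Or.inr (Or.inl rfl)) P₇) hr₇ hz (h4 B₇) (budget_lt hG hz)
    (sum_sq_le_pred hG hz fun h => B₇.ne_principal h rfl) (known := []) (by simp)
  rw [hc₇] at hib
  obtain ⟨hcmp, ia, hia, hia'⟩ := exists_fill11 hG B₇ hz hib' Ra hc₁ hr₁
  have hia7 : leL (nm Prod.fst 7 ia) ib = true := by
    refine leL_of_le ?_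
    rw [coe_nm, hia', hib', items, items]
    exact filter_items_le B₇ hc₇ (fun χ h => B₁.ne_principal h) z
  have hUne : ∀ χ ∈ U₀.disjUnion U₁ hd01, χ ≠ principalIrr G := fun χ h => by
    rcases Finset.mem_disjUnion.1 h with h | h
    · exact B₁.ne_principal h
    · exact B₇.ne_principal (Finset.mem_filter.1 h).1
  obtain ⟨ic, hic, hic'⟩ := Rc.exists_fill hG (by norm_num)
    (card_sylow_eq hG (Or.inl rfl) P₅) hr₅ hz (h4 B₅) (budget_lt hG hz)
    (sum_sq_le_pred hG hz fun h => B₅.ne_principal h rfl)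
    (known := nm Prod.fst 5 (ia ++ div11 ib)) (by
      rw [coe_nm, ← Multiset.coe_add, coe_div11, hia', hib']
      have := filter_items_le B₅ hc₅ hUne z
      rw [Finset.disjUnion_val, hU₁, Finset.filter_val, Multiset.map_add] at this
      simp only [items, Multiset.filter_map, Function.comp_def, pr] at this ⊢
      convert this using 6
      exact Multiset.filter_congr fun _ _ => Iff.rfl)
  rw [hc₅] at hic
  -- the union
  have hUitems : ((unionItems ia ib ic : List (ℕ × ℤ)) : Multiset (ℕ × ℤ)) =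
      U.val.map (pr z) := by
    rw [unionItems, ← Multiset.coe_add, ← Multiset.coe_add, coe_div11, coe_div77, hia', hib', hic',
      items, items, items, Multiset.filter_map, Multiset.filter_map, hU, Finset.disjUnion_val,
      Finset.disjUnion_val, Multiset.map_add, Multiset.map_add, hU₁, hU₂, Finset.filter_val,
      Finset.filter_val]
    congr 3
  have hb11 : ((b.degs.filter (fun d => d % 11 == 0) : List ℕ) : Multiset ℕ) =
      ((b.degs : List ℕ) : Multiset ℕ).filter (fun d => 11 ∣ d) := by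
    rw [Multiset.filter_coe]
    exact congrArg _ (List.filter_congr fun a _ => by
      rw [Bool.eq_iff_iff]; simp [Nat.dvd_iff_mod_eq_zero])
  have hUdegs : ((unionDegs a b c : List ℕ) : Multiset ℕ) = U.val.map dg := by
    rw [unionDegs, ← Multiset.coe_add, ← Multiset.coe_add, coe_div77, hb11,
      Ra.degs_eq, Rb.degs_eq, Rc.degs_eq, Multiset.filter_map, Multiset.filter_map, hU,
      Finset.disjUnion_val, Finset.disjUnion_val, Multiset.map_add, Multiset.map_add, hU₁, hU₂,
      Finset.filter_val, Finset.filter_val]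
    congr 3
  set m := U₃.card with hm
  have hdeg3 : ∀ χ ∈ U₃, dg χ = 385 := fun χ h => (Finset.mem_filter.1 h).2
  have hsq : 1 + sqSum (unionDegs a b c) + m * 148225 = ord22 := by
    have h := sum_deg_sq hG
    rw [← Finset.add_sum_erase _ _ (Finset.mem_univ (principalIrr G)), ← hall,
      Finset.sum_disjUnion, charDegree_principal, one_mul,
      Finset.sum_congr rfl (fun χ hχ => by
        rw [show charDegree (χ : G → ℂ) = 385 from hdeg3 χ hχ] :
        ∀ χ ∈ U₃, charDegree (χ : G → ℂ) * charDegree (χ : G → ℂ) = 385 * 385),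
      Finset.sum_const, smul_eq_mul, ← hm] at h
    rw [sqSum, ← Multiset.sum_coe, ← Multiset.map_coe, hUdegs, Multiset.map_map,
      ← Finset.sum_eq_multiset_sum]
    simp only [Function.comp_apply, dg]
    omega
  have hfit : rowsFit a b c = true := by
    simp only [rowsFit, Bool.and_eq_true, decide_eq_true_eq, beq_iff_eq]
    refine ⟨⟨⟨⟨⟨leL_degs Rc hc₅ (fun χ h => B₁.ne_principal h) Ra.degs_eq,
      leL_degs Rc hc₅ (fun χ h => B₇.ne_principal h) Rb.degs_eq⟩,
      leL_degs Ra hc₁ (fun χ h => B₅.ne_principal h) Rc.degs_eq⟩,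
      leL_degs Rb hc₇ (fun χ h => B₅.ne_principal h) Rc.degs_eq⟩, by omega⟩, ?_⟩
    rw [show ord22 - 1 - sqSum (unionDegs a b c) = m * 148225 by omega, Nat.mul_mod_left]
  have hcount : restCount (unionDegs a b c) = m := by
    rw [restCount, show ord22 - 1 - sqSum (unionDegs a b c) = m * 148225 by omega,
      Nat.mul_div_cancel _ (by norm_num : 0 < 148225)]
  set UI := unionItems ia ib ic with hUI
  have hsplit : ∀ F : IrrCharacter G → ℤ, ∑ χ, F χ =
      F (principalIrr G) + ∑ χ ∈ U, F χ + ∑ χ ∈ U₃, F χ := fun F => by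
    rw [← Finset.add_sum_erase _ _ (Finset.mem_univ (principalIrr G)), ← hall,
      Finset.sum_disjUnion, add_assoc]
  have hsumv : (UI.map fun a => a.2 * a.2).sum = ∑ χ ∈ U, val z χ * val z χ := by
    rw [← Multiset.sum_coe, ← Multiset.map_coe, hUitems, Multiset.map_map]
    rfl
  have hsumdv : (UI.map fun a => (a.1 : ℤ) * a.2).sum = ∑ χ ∈ U, (dg χ : ℤ) * val z χ := by
    rw [← Multiset.sum_coe, ← Multiset.map_coe, hUitems, Multiset.map_map]
    rfl
  have e1 : (C : ℤ) = 1 + ∑ χ ∈ U, val z χ * val z χ + ∑ χ ∈ U₃, val z χ * val z χ := by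
    rw [hC, ← MathieuTwelve.sum_sq_eq z (v := val z) (apply_eq_val hG hz), hsplit,
      val_principal hG hz]
    norm_num
  have e2 : 1 + ∑ χ ∈ U, (dg χ : ℤ) * val z χ + 385 * ∑ χ ∈ U₃, val z χ = 0 := by
    have h := MathieuTwelve.sum_mul_eq_zero (g := 1) (h := z)
      (fun h => hz1 (isConj_one_right.1 h))
      (v := fun χ => (dg χ : ℤ)) (w := val z) (fun χ => by rw [irr_one_eq_charDegree]; norm_num)
      (apply_eq_val hG hz)
    rw [hsplit, val_principal hG hz,
      show dg (principalIrr G : IrrCharacter G) = 1 from charDegree_principal,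
      Finset.sum_congr rfl (fun χ hχ => by rw [hdeg3 χ hχ]; norm_num :
        ∀ χ ∈ U₃, (dg χ : ℤ) * val z χ = 385 * val z χ), ← Finset.mul_sum] at h
    push_cast at h
    linarith
  set s := ∑ χ ∈ U₃, val z χ with hs
  have hS' : (-1 - (UI.map fun a => (a.1 : ℤ) * a.2).sum) = 385 * s := by rw [hsumdv]; linarith
  have hL' : (C : ℤ) - 1 - (UI.map fun a => a.2 * a.2).sum = ∑ χ ∈ U₃, val z χ * val z χ := by
    rw [hsumv]; linarith
  have hone : m ≤ 1 → s * s = ∑ χ ∈ U₃, val z χ * val z χ := by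
    intro h
    rcases Nat.le_one_iff_eq_zero_or_eq_one.1 h with h | h
    · rw [hs, Finset.card_eq_zero.1 (show U₃.card = 0 from h)]
      simp
    · obtain ⟨χ, hχ⟩ := Finset.card_eq_one.1 (show U₃.card = 1 from h)
      rw [hs, hχ, Finset.sum_singleton, Finset.sum_singleton]
  have hrest : restOK C (restCount (unionDegs a b c)) UI = true := by
    simp only [restOK, hcount, hS', hL', Bool.and_eq_true, Bool.or_eq_true, decide_eq_true_eq,
      beq_iff_eq, Int.mul_emod_right, Int.mul_ediv_cancel_left _ (by norm_num : (385 : ℤ) ≠ 0)]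
    refine ⟨⟨⟨Finset.sum_nonneg fun χ _ => mul_self_nonneg _, trivial⟩, ?_⟩, ?_⟩
    · have h := sq_sum_le_card_mul_sum_sq (s := U₃) (f := val z)
      simp only [pow_two] at h
      exact h
    · by_cases h : 2 ≤ m
      · exact Or.inl h
      · exact Or.inr (hone (by omega))
  -- the search
  have hgoal : tableGoal a b c C UI = true := by
    have h := List.all_eq_true.1 (List.all_eq_true.1 check_triples a ha) b hb
    simp only [Bool.or_eq_true, Bool.not_eq_true', Bool.and_eq_false_iff] at h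
    rcases h with h | h
    · rcases h with h | h
      · rw [leL_degs Rb hc₇ (fun χ h => B₁.ne_principal h) Ra.degs_eq] at h
        exact absurd h (by simp)
      · rw [leL_degs Ra hc₁ (fun χ h => B₇.ne_principal h) Rb.degs_eq] at h
        exact absurd h (by simp)
    have h := List.all_eq_true.1 h c hc
    simp only [Bool.or_eq_true, Bool.not_eq_true', hfit, Bool.true_eq_false, false_or, checkTable,
      List.all_eq_true] at h
    rcases h C hcent ib hib ia hia with h | h
    · rw [hia7] at h; exact absurd h (by simp)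
    rcases h ic hic with h | h
    · rw [← hUI, hrest] at h; exact absurd h (by simp)
    · exact h
  simp only [tableGoal, Bool.and_eq_true, List.isPerm_iff, beq_iff_eq] at hgoal
  obtain ⟨⟨⟨⟨⟨⟨⟨⟨g1, g2⟩, g3⟩, g4⟩, g5⟩, g6⟩, g7⟩, g8⟩, g9⟩ := hgoal
  refine ⟨⟨g1, g2, g3, g4, g5, g6, g7⟩, ?_⟩
  -- the characters of degree 385
  have hm1 : m = 1 := by
    have h1 : (U.val.map dg) = ((tableItems.map Prod.fst : List ℕ) : Multiset ℕ) := by
      rw [← Multiset.map_coe, ← Multiset.coe_eq_coe.2 g9, hUitems, Multiset.map_map]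
      rfl
    have h2 : sqSum (unionDegs a b c) = sqSum (tableItems.map Prod.fst) :=
      ((Multiset.coe_eq_coe.1 (hUdegs.trans h1)).map _).sum_eq
    rw [h2, show sqSum (tableItems.map Prod.fst) = 295294 by decide +kernel, ord22] at hsq
    omega
  obtain ⟨χ₀, hχ₀⟩ := Finset.card_eq_one.1 (show U₃.card = 1 from hm1)
  have hv : val z χ₀ = 1 := by
    rw [hs, hχ₀, Finset.sum_singleton] at hS'
    rw [(g9.map fun a => (a.1 : ℤ) * a.2).sum_eq,
      show (tableItems.map fun a => (a.1 : ℤ) * a.2).sum = -386 by decide +kernel] at hS'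
    omega
  rw [← hall, Finset.disjUnion_val, Multiset.map_add, ← hUitems, Multiset.coe_eq_coe.2 g9,
    ← Multiset.coe_add, hχ₀, Finset.singleton_val, Multiset.map_singleton]
  congr 1
  simp only [pr, hdeg3 χ₀ (by rw [hχ₀]; exact Finset.mem_singleton_self _), hv]
  rfl

/-- The table. -/
theorem exists_table (hG : Nat.card G = ord22) : Nonempty (Table G) := by
  haveI := Fact.mk (show Nat.Prime 5 by norm_num)
  haveI := Fact.mk (show Nat.Prime 7 by norm_num)
  haveI := Fact.mk (show Nat.Prime 11 by norm_num)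
  have hS := smallCent hG
  obtain ⟨P₁, hc₁, hr₁, ⟨B₁⟩⟩ := exists_blk_eleven hG
  obtain ⟨P₅⟩ : Nonempty (Sylow 5 G) := inferInstance
  obtain ⟨P₇⟩ : Nonempty (Sylow 7 G) := inferInstance
  obtain ⟨⟨hc₅, hr₅, -⟩, hc₇, hr₇, -⟩ := five_seven hG P₅ P₇
  obtain ⟨B₅⟩ := exists_blk (nc hG) (by norm_num) P₅ (card_sylow_eq hG (Or.inl rfl) P₅) hr₅
  obtain ⟨B₇⟩ := exists_blk (nc hG) (by norm_num) P₇ (card_sylow_eq hG (Or.inr (Or.inl rfl)) P₇) hr₇
  obtain ⟨a, ha, ⟨Ra⟩⟩ := exists_row hG (by norm_num) B₁ degB_sorted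
    (fun χ h => dg_mem_degB hG (B₁.ne_principal h))
  obtain ⟨b, hb, ⟨Rb⟩⟩ := exists_row hG (by norm_num) B₇ degB_sorted
    (fun χ h => dg_mem_degB hG (B₇.ne_principal h))
  obtain ⟨c, hc, ⟨Rc⟩⟩ := exists_row hG (by norm_num) B₅ degB_sorted
    (fun χ h => dg_mem_degB hG (B₅.ne_principal h))
  rw [rows_eleven] at ha
  rw [rows_seven] at hb
  rw [rows_five] at hc
  have key := fun (z : G) (hz : orderOf z = 2) =>
    involution_items hG hS Ra hc₁ hr₁ ha Rb hc₇ hr₇ hb Rc hc₅ hr₅ hc hz
  haveI := Fact.mk Nat.prime_two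
  obtain ⟨z₀, hz₀⟩ := exists_prime_orderOf_dvd_card' (G := G) 2 (by rw [hG, ord22]; norm_num)
  obtain ⟨shape, hitems⟩ := key z₀ hz₀
  have hdegs : ((Finset.univ.erase (principalIrr G)).val.map dg : Multiset ℕ) =
      ((degList : List ℕ) : Multiset ℕ) := by
    have h := congrArg (Multiset.map Prod.fst) hitems
    rw [Multiset.map_map, Multiset.map_coe] at h
    exact h.trans (congrArg _ (by decide +kernel))
  obtain ⟨l, hl, hld⟩ := exists_map_eq dg degList _ hdegs.symm
  set L := principalIrr G :: l with hL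
  have hLd : L.map dg = 1 :: degList := by
    rw [hL, List.map_cons, hld, show dg (principalIrr G : IrrCharacter G) = 1 from
      charDegree_principal]
  have hlen : L.length = 12 := by
    have := congrArg List.length hLd
    rwa [List.length_map] at this
  have hnd : L.Nodup := by
    refine List.nodup_cons.2 ⟨fun h => ?_, ?_⟩
    · rw [← Multiset.mem_coe, hl] at h
      exact (Finset.mem_erase.1 h).1 rfl
    · rw [← Multiset.coe_nodup, hl]
      exact Finset.nodup _
  let chi : Fin 12 → IrrCharacter G := fun i => L[i.val]'(by omega)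
  have hdeg : ∀ i : Fin 12, dg (chi i) = degTable i := by
    intro i
    have h1 : dg (chi i) = (1 :: degList)[i.val]'(by
        rw [← hLd, List.length_map]; omega) := by
      simp only [← hLd, List.getElem_map, chi]
    rw [h1]
    revert i
    intro i _
    fin_cases i <;> rfl
  have hinj : Function.Injective chi := fun i j h =>
    Fin.ext ((List.Nodup.getElem_inj_iff hnd).1 h)
  have hsurj : ∀ χ : IrrCharacter G, ∃ i, chi i = χ := by
    intro χ
    have hmem : χ ∈ L := by
      by_cases h : χ = principalIrr G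
      · rw [h]; exact List.mem_cons_self
      · refine List.mem_cons_of_mem _ ?_
        rw [← Multiset.mem_coe, hl]
        exact Finset.mem_erase.2 ⟨h, Finset.mem_univ _⟩
    obtain ⟨i, hi, rfl⟩ := List.getElem_of_mem hmem
    exact ⟨⟨i, by omega⟩, rfl⟩
  have hz0 : chi 0 = principalIrr G := rfl
  have hne : ∀ i : Fin 12, i ≠ 0 → chi i ≠ principalIrr G := fun i hi h =>
    hi (hinj (h.trans hz0.symm))
  have hcol : ∀ z : G, orderOf z = 2 → ∀ i, (chi i : G → ℂ) z = (invColumn i : ℂ) := by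
    intro z hz i
    rw [apply_eq_val hG hz]
    congr 1
    by_cases hi : i = 0
    · subst hi; rw [hz0, val_principal hG hz]; rfl
    have hm : pr z (chi i) ∈ ((tableItems ++ [(385, 1)] : List (ℕ × ℤ)) : Multiset (ℕ × ℤ)) := by
      rw [← (key z hz).2]
      exact Multiset.mem_map_of_mem _ (Finset.mem_erase.2 ⟨hne i hi, Finset.mem_univ _⟩)
    have hcheck : ∀ a ∈ tableItems ++ [((385 : ℕ), (1 : ℤ))], ∀ i : Fin 12, a.1 = degTable i →
        i ≠ 0 → a.2 = invColumn i := by decide +kernel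
    exact hcheck _ (Multiset.mem_coe.1 hm) i (hdeg i) hi
  have hYpair : ∀ {q : ℕ} [Fact q.Prime] {Q : Sylow q G} {eq : ℕ} (B : Blk Q eq) (d : ℕ)
      (i j : Fin 12), B.Y.card = 2 → (∀ χ ∈ B.Y, dg χ = d) →
      (∀ k : Fin 12, degTable k = d → k = i ∨ k = j) → chi i ∈ B.Y ∧ chi j ∈ B.Y := by
    intro q _ Q eq B d i j hY hd hij
    have hsub : B.Y ⊆ {chi i, chi j} := fun χ hχ => by
      obtain ⟨k, rfl⟩ := hsurj χ
      rcases hij k ((hdeg k).symm.trans (hd _ hχ)) with rfl | rfl <;> simp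
    have heq := Finset.eq_of_subset_of_card_le hsub (by rw [hY]; exact Finset.card_le_two)
    rw [heq]; simp
  have hY7 : B₇.Y.card = 2 := by have := B₇.card_Y; omega
  have hY1 : B₁.Y.card = 2 := by have := B₁.card_Y; omega
  obtain ⟨h2, h3⟩ := hYpair B₇ 45 2 3 hY7
    (fun χ hχ => (B₇.dg_eq hχ Rb.ψ_mem).trans (Rb.x_eq.trans shape.b_x)) (by decide +kernel)
  obtain ⟨h9, h10⟩ := hYpair B₁ 280 9 10 hY1
    (fun χ hχ => (B₁.dg_eq hχ Ra.ψ_mem).trans (Ra.x_eq.trans shape.a_x)) (by decide +kernel)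
  have e45 : ∀ g : G, Reg22 g → (chi 2 : G → ℂ) g = (chi 3 : G → ℂ) g :=
    fun g hg => B₇.regY _ h2 _ h3 g hg.2.1
  have e280 : ∀ g : G, Reg22 g → (chi 9 : G → ℂ) g = (chi 10 : G → ℂ) g :=
    fun g hg => B₁.regY _ h9 _ h10 g hg.2.2
  have hF : ∀ g : G, Reg22 g → ∀ χ : IrrCharacter G, χ ≠ principalIrr G →
      (χ : G → ℂ) g = (chi (repIdx (dg χ)) : G → ℂ) g := by
    intro g hg χ hχ
    obtain ⟨i, rfl⟩ := hsurj χ
    rw [hdeg i]
    by_cases h3' : i = 3
    · subst h3'; exact (e45 g hg).symm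
    by_cases h10' : i = 10
    · subst h10'; exact (e280 g hg).symm
    have hi0 : i ≠ 0 := fun h => hχ (h ▸ hz0)
    have hrep : ∀ i : Fin 12, i ≠ 0 → i ≠ 3 → i ≠ 10 → repIdx (degTable i) = i := by decide +kernel
    rw [hrep i hi0 h3' h10']
  refine ⟨⟨hS, chi, ⟨hinj, hsurj⟩, hz0, hdeg, hcol, e45, e280, ?_, ?_, ?_⟩⟩
  · intro g hg
    have h := Rb.rel_of_perm (by norm_num) hg.2.1 (fun d => (chi (repIdx d) : G → ℂ) g) (hF g hg) shape.b_ds
    rw [← Rb.eps_eq, shape.b_eps, shape.b_x] at h
    simp [sd, repIdx] at h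
    rw [h]; ring
  · intro g hg
    have h := Ra.rel_of_perm (by norm_num) hg.2.2 (fun d => (chi (repIdx d) : G → ℂ) g) (hF g hg) shape.a_ds
    rw [← Ra.eps_eq, shape.a_eps, shape.a_x] at h
    simp [sd, repIdx] at h
    rw [h]; ring
  · intro g hg
    have h := Rc.rel_of_perm (by norm_num) hg.1 (fun d => (chi (repIdx d) : G → ℂ) g) (hF g hg) (List.Perm.refl c.ds)
    have ht : c.t = 1 := by
      rw [Rc.t_eq]
      have := B₅.card_Y
      omega
    have hsd : (sd 5 c.x : ℤ) = -B₅.ε := by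
      obtain ⟨k, hk⟩ := B₅.degY _ Rc.ψ_mem
      have hk' : (c.x : ℤ) = B₅.ε * 4 + 5 * k := by
        have hx : (charDegree (Rc.ψ : G → ℂ) : ℤ) = (c.x : ℤ) := by
          exact_mod_cast congrArg (Nat.cast (R := ℤ)) Rc.x_eq
        push_cast at hk
        linarith
      rcases B₅.ε_spec with hε | hε <;> rw [hε] at hk' ⊢
      · simp [sd, show ¬ c.x % 5 = 1 by omega]
      · simp [sd, show c.x % 5 = 1 by omega]
    set F : ℕ → ℂ := fun d => (chi (repIdx d) : G → ℂ) g with hFdef
    have hperm : (c.ds ++ [c.x]).Perm [21, 99, 154, 231] := by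
      have := shape.c_degs
      rwa [Row.degs, ht] at this
    have h2 := (hperm.map fun d => (sd 5 d : ℂ) * F d).sum_eq
    rw [List.map_append, List.sum_append] at h2
    simp only [List.map_cons, List.map_nil, List.sum_cons, List.sum_nil, add_zero, hsd] at h2
    simp [sd, repIdx, hFdef] at h2 h
    linear_combination -h2 - h

end CfsgLib.MathieuTwentyTwo.ByOrder
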