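import Cfsg.Agent.Lib.MathieuTwentyTwoOrder.Rows

/-!
# The search for the degrees and the column of an involution

With trivial regular parts at 5, 7 and 11 the nonprincipal characters fall into the block at 11,
the members of the block at 7 of degree divisible by 11, the members of the block at 5 of degree
divisible by 77, and the characters of degree 385.
-/

set_option autoImplicit false

namespace CfsgLib.MathieuTwentyTwo.ByOrder

/-- The pairs of degree and value apart from the degree 385. -/
def tableItems : List (ℕ × ℤ) :=
  [(21, 5), (45, -3), (45, -3), (55, 7), (99, 3), (154, 10), (210, 2), (231, 7), (280, -8),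
    (280, -8)]

/-- Centraliser orders of an involution with no elements of order 5, 7 or 11 centralising it. -/
def centsTwo : List ℕ := divN.filter fun C => (C % 2 == 0) && (1152 % C == 0)

/-- The members of degree divisible by 77. -/
def div77 {α : Type*} (deg : α → ℕ) (L : List α) : List α :=
  L.filter fun a => deg a % 77 == 0

/-- The degrees apart from 385. -/
def unionDegs (a b c : Row) : List ℕ :=
  a.degs ++ b.degs.filter (fun d => d % 11 == 0) ++ div77 id c.degs

/-- The items apart from degree 385. -/
def unionItems (ia ib ic : List (ℕ × ℤ)) : List (ℕ × ℤ) := ia ++ div11 ib ++ div77 Prod.fst ic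

/-- Sum of squares of degrees. -/
def sqSum (L : List ℕ) : ℕ := (L.map fun d => d * d).sum

/-- What is left to the characters of degree 385. -/
def restCount (U : List ℕ) : ℕ := (ord22 - 1 - sqSum U) / 148225

/-- The degrees of the three rows fit. -/
def rowsFit (a b c : Row) : Bool :=
  leL (nm id 5 a.degs) c.degs && leL (nm id 5 b.degs) c.degs && leL (nm id 11 c.degs) a.degs &&
    leL (nm id 7 c.degs) b.degs && decide (1 + sqSum (unionDegs a b c) ≤ ord22) &&
    ((ord22 - 1 - sqSum (unionDegs a b c)) % 148225 == 0)

/-- The sums over the characters of degree 385 demanded by orthogonality. -/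
def restOK (C m : ℕ) (U : List (ℕ × ℤ)) : Bool :=
  decide (0 ≤ (C : ℤ) - 1 - (U.map fun a => a.2 * a.2).sum) &&
    ((-1 - (U.map fun a => (a.1 : ℤ) * a.2).sum) % 385 == 0) &&
    decide ((-1 - (U.map fun a => (a.1 : ℤ) * a.2).sum) / 385 *
        ((-1 - (U.map fun a => (a.1 : ℤ) * a.2).sum) / 385) ≤
      (m : ℤ) * ((C : ℤ) - 1 - (U.map fun a => a.2 * a.2).sum)) &&
    (decide (2 ≤ m) || decide ((-1 - (U.map fun a => (a.1 : ℤ) * a.2).sum) / 385 *
        ((-1 - (U.map fun a => (a.1 : ℤ) * a.2).sum) / 385) =
      (C : ℤ) - 1 - (U.map fun a => a.2 * a.2).sum))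

/-- The rows and values are those of the Mathieu group. -/
def tableGoal (a b c : Row) (C : ℕ) (U : List (ℕ × ℤ)) : Bool :=
  a.ds.isPerm [21, 45, 45, 210] && (a.x == 280) && (a.eps == 1) && b.ds.isPerm [55, 99] &&
    (b.x == 45) && (b.eps == 1) && c.degs.isPerm [21, 99, 154, 231] && (C == 384) &&
    U.isPerm tableItems

/-- All values on the three rows lead to the table. -/
def checkTable (a b c : Row) : Bool :=
  centsTwo.all fun C =>
    (fill 7 3 1 4 C (C - 1) b []).all fun ib =>
      (fill 11 5 1 4 C (budget (C, ib)) a (nm Prod.fst 11 ib)).all fun ia =>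
        !leL (nm Prod.fst 7 ia) ib ||
          (fill 5 4 1 4 C (C - 1) c (nm Prod.fst 5 (ia ++ div11 ib))).all fun ic =>
            !restOK C (restCount (unionDegs a b c)) (unionItems ia ib ic) ||
              tableGoal a b c C (unionItems ia ib ic)

/-- All triples of rows lead to the table. -/
def checkTriples : Bool :=
  rowsEleven.all fun a => rowsSeven.all fun b =>
    !(leL (nm id 7 a.degs) b.degs && leL (nm id 11 b.degs) a.degs) ||
      rowsFive.all fun c => !rowsFit a b c || checkTable a b c

end CfsgLib.MathieuTwentyTwo.ByOrder
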