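import Cfsg.Agent.Lib.MathieuTwentyTwoOrder.Table
import Cfsg.Agent.Lib.BrauerArtin.Bound
import Cfsg.Agent.Lib.MathieuTwentyTwo.Counts

/-!
# From the classes of involutions and of 3-elements to the local data
-/

set_option autoImplicit false
set_option linter.style.haveILetI false
set_option linter.unusedSectionVars false

noncomputable section

namespace CfsgLib.MathieuTwentyTwo.ByOrder

open Cfsg Subgroup CfsgLib.Recog.OrderCounts CfsgLib.Characters CfsgLib.CharCorr
open scoped Classical

universe u

/-- A group of order 36 with central element of order 3 does not have nine involutions whose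
translates fill everything outside a Sylow 3-subgroup. -/
theorem card_involutions_ne_nine {K : Type u} [Group K] [Fintype K] (hK : Nat.card K = 36) {x : K}
    (hx : orderOf x = 3) (hc : ∀ k : K, k * x = x * k) :
    (Finset.univ.filter fun k : K => orderOf k = 2).card ≠ 9 := by
  intro h9
  haveI := Fact.mk Nat.prime_three
  haveI := Fact.mk Nat.prime_two
  set I := Finset.univ.filter fun k : K => orderOf k = 2 with hI
  obtain ⟨P⟩ : Nonempty (Sylow 3 K) := inferInstance
  have hP : Nat.card (P : Subgroup K) = 9 :=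
    (Small.card_sylow_of_card_eq (k := 2) (m := 4) (by rw [hK]; norm_num) (by norm_num) P).trans
      (by norm_num)
  have hxP : x ∈ (P : Subgroup K) := by
    have h : zpowers x ≤ normalizer ((P : Subgroup K) : Set K) := zpowers_le.2
      (mem_normalizer_iff.2 fun t => by rw [← hc t, mul_inv_cancel_right])
    have hz : IsPGroup 3 (zpowers x) :=
      IsPGroup.of_card (n := 1) (by rw [Nat.card_zpowers, hx, pow_one])
    exact ((hz.inf_normalizer_sylow P).le ⟨mem_zpowers x, h (mem_zpowers x)⟩).2
  have hord : ∀ k ∈ (P : Subgroup K), ¬ 2 ∣ orderOf k := fun k hk h => by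
    have h2 := h.trans (Subgroup.orderOf_dvd_natCard _ hk)
    rw [hP] at h2
    norm_num at h2
  -- every element outside `P` is an involution times a power of `x`
  set J := (I ×ˢ Finset.range 3).image (fun t : K × ℕ => t.1 * x ^ t.2) with hJ
  have hinj : Set.InjOn (fun t : K × ℕ => t.1 * x ^ t.2) ↑(I ×ˢ Finset.range 3) := by
    rintro ⟨a, i⟩ ha ⟨b, j⟩ hb hab
    simp only [Finset.coe_product, Set.mem_prod, Finset.mem_coe, Finset.mem_range, hI,
      Finset.mem_filter, Finset.mem_univ, true_and] at ha hb hab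
    have h3 : (a * x ^ i) ^ 3 = (b * x ^ j) ^ 3 := by rw [hab]
    have hpow : ∀ (k : K) (n : ℕ), orderOf k = 2 → (k * x ^ n) ^ 3 = k := fun k n hk => by
      rw [((show Commute k x from hc k).pow_right n).mul_pow, ← pow_mul, mul_comm n 3, pow_mul,
        ← hx, pow_orderOf_eq_one, one_pow, mul_one, hx, pow_succ, ← hk, pow_orderOf_eq_one, one_mul]
    rw [hpow a i ha.1, hpow b j hb.1] at h3
    subst h3
    have h4 := mul_left_cancel hab
    rw [pow_eq_pow_iff_modEq, hx] at h4
    exact Prod.ext rfl (Nat.ModEq.eq_of_lt_of_lt h4 ha.2 hb.2)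
  have hdisj : Disjoint J (Finset.univ.filter fun k => k ∈ (P : Subgroup K)) := by
    rw [Finset.disjoint_left]
    intro k hk hk'
    obtain ⟨⟨a, i⟩, ha, rfl⟩ := Finset.mem_image.1 hk
    rw [Finset.mem_product, hI, Finset.mem_filter] at ha
    have haP : a ∈ (P : Subgroup K) := by
      have := mul_mem (Finset.mem_filter.1 hk').2 (inv_mem (pow_mem hxP i))
      rwa [mul_inv_cancel_right] at this
    exact hord a haP (by rw [ha.1.2])
  have hunion : J ∪ (Finset.univ.filter fun k => k ∈ (P : Subgroup K)) = Finset.univ := by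
    refine Finset.eq_univ_of_card _ ?_
    rw [Finset.card_union_of_disjoint hdisj, hJ, Finset.card_image_of_injOn hinj,
      Finset.card_product, h9, Finset.card_range, ← Fintype.card_subtype,
      ← Nat.card_eq_fintype_card, ← Nat.card_eq_fintype_card, hP, hK]
  have key : ∀ k, k ∉ (P : Subgroup K) → k * k ∈ zpowers x := by
    intro k hk
    have := hunion.ge (Finset.mem_univ k)
    rcases Finset.mem_union.1 this with h | h
    · obtain ⟨⟨a, i⟩, ha, rfl⟩ := Finset.mem_image.1 h
      rw [Finset.mem_product, hI, Finset.mem_filter] at ha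
      have ha2 : a * a = 1 := by rw [← pow_two, ← ha.1.2, pow_orderOf_eq_one]
      rw [mul_assoc, ← mul_assoc (x ^ i), ((show Commute a x from hc a).pow_right i).symm.eq,
        mul_assoc, ← mul_assoc, ha2, one_mul]
      exact mul_mem (pow_mem (mem_zpowers x) i) (pow_mem (mem_zpowers x) i)
    · exact absurd (Finset.mem_filter.1 h).2 hk
  -- a four group
  obtain ⟨S⟩ : Nonempty (Sylow 2 K) := inferInstance
  have hScard : Nat.card (S : Subgroup K) = 4 :=
    (Small.card_sylow_of_card_eq (k := 2) (m := 9) (by rw [hK]; norm_num) (by norm_num) S).trans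
      (by norm_num)
  have hSP : ∀ s ∈ (S : Subgroup K), s ≠ 1 → s ∉ (P : Subgroup K) := fun s hs hs1 hsP => by
    have h1 := Subgroup.orderOf_dvd_natCard _ hs
    have h2 := Subgroup.orderOf_dvd_natCard _ hsP
    rw [hScard] at h1
    rw [hP] at h2
    exact hs1 (orderOf_eq_one_iff.1 (Nat.eq_one_of_dvd_coprimes (by norm_num) h1 h2))
  obtain ⟨y, hy, hyx⟩ : ∃ y ∈ (P : Subgroup K), y ∉ zpowers x := by
    by_contra h
    push Not at h
    have := Subgroup.card_le_of_le (show (P : Subgroup K) ≤ zpowers x from h)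
    rw [hP, Nat.card_zpowers, hx] at this
    omega
  haveI : (zpowers x).Normal := ⟨fun n hn g => by
    obtain ⟨i, rfl⟩ := mem_zpowers_iff.1 hn
    rw [((show Commute g x from hc g).zpow_right i).eq, mul_inv_cancel_right]
    exact zpow_mem (mem_zpowers x) i⟩
  let π := QuotientGroup.mk' (zpowers x)
  have hinv : ∀ s ∈ (S : Subgroup K), s ≠ 1 → π s * π y * π s = (π y)⁻¹ := by
    intro s hs hs1
    have h := key (s * y) fun h => hSP s hs hs1 (by
      have := mul_mem h (inv_mem hy)
      rwa [mul_inv_cancel_right] at this)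
    have h' : π (s * y * (s * y)) = 1 := (QuotientGroup.eq_one_iff _).2 h
    rw [map_mul, map_mul] at h'
    rw [eq_inv_iff_mul_eq_one, mul_assoc]
    exact h'
  obtain ⟨a, ha, b, hb, ha1, hb1, hab⟩ : ∃ a ∈ (S : Subgroup K), ∃ b ∈ (S : Subgroup K),
      a ≠ 1 ∧ b ≠ 1 ∧ a * b ≠ 1 := by
    haveI := Fintype.ofFinite (S : Subgroup K)
    by_contra h
    push Not at h
    have hle : ∀ a b : (S : Subgroup K), a ≠ 1 → b ≠ 1 → a = b := fun a b ha hb => by
      have hac : (a : K) ≠ 1 := fun e => ha (Subtype.ext e)
      have hbc : (b : K) ≠ 1 := fun e => hb (Subtype.ext e)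
      have h1 := h a a.2 b b.2 hac hbc
      have h2 := h a a.2 a a.2 hac hac
      exact Subtype.ext (mul_left_cancel (h2.trans h1.symm))
    have : (Finset.univ.erase (1 : (S : Subgroup K))).card ≤ 1 :=
      Finset.card_le_one.2 fun a ha b hb => hle a b (Finset.mem_erase.1 ha).1 (Finset.mem_erase.1 hb).1
    rw [Finset.card_erase_of_mem (Finset.mem_univ _), Finset.card_univ, ← Nat.card_eq_fintype_card,
      hScard] at this
    omega
  have hsq : ∀ s ∈ (S : Subgroup K), s ≠ 1 → π s * π s = 1 := fun s hs hs1 => by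
    rw [← map_mul]
    exact (QuotientGroup.eq_one_iff _).2 (key s (hSP s hs hs1))
  have e1 := hinv (a * b) (mul_mem ha hb) hab
  have hcomm : π b * π a = π a * π b := by
    have h := hsq _ (mul_mem ha hb) hab
    rw [map_mul] at h
    calc π b * π a = (π a * π a) * (π b * π a) * (π b * π b) := by
          rw [hsq a ha ha1, hsq b hb hb1, one_mul, mul_one]
      _ = π a * (π a * π b * (π a * π b)) * π b := by group
      _ = π a * π b := by rw [h, mul_one]
  have e2 : π (a * b) * π y * π (a * b) = π y := by
    rw [map_mul]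
    calc π a * π b * π y * (π a * π b) = π a * (π b * π y * (π b * π a)) := by
          rw [hcomm]; group
      _ = π a * ((π b * π y * π b) * π a) := by group
      _ = π a * (π y)⁻¹ * π a := by rw [hinv b hb hb1]; group
      _ = ((π a) * π y * π a)⁻¹ := by
          rw [mul_inv_rev, mul_inv_rev, inv_eq_of_mul_eq_one_right (hsq a ha ha1), mul_assoc]
      _ = π y := by rw [hinv a ha ha1, inv_inv]
  rw [e2] at e1
  have h2 : π (y * y) = 1 := by rw [map_mul]; nth_rw 1 [e1]; exact inv_mul_cancel _
  have hyy : y * y ∈ zpowers x := (QuotientGroup.eq_one_iff _).1 h2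
  refine hyx ?_
  have hy9 : y ^ 9 = 1 := orderOf_dvd_iff_pow_eq_one.1 (hP ▸ Subgroup.orderOf_dvd_natCard _ hy)
  have : y = (y * y) ^ 5 := by rw [← pow_two, ← pow_mul, pow_succ, hy9, one_mul]
  rw [this]
  exact pow_mem hyy 5

/-- A group of order 36 with an element of order 12 has exactly one involution or another number
than three of them. -/
theorem card_involutions_ne_three {K : Type u} [Group K] [Fintype K] (hK : Nat.card K = 36)
    {g : K} (hg : orderOf g = 12) : (Finset.univ.filter fun k : K => orderOf k = 2).card ≠ 3 := by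
  intro h3
  haveI := Fact.mk Nat.prime_two
  set u := g ^ 6 with hu
  have hu2 : orderOf u = 2 := by rw [hu, orderOf_pow' g (by norm_num), hg]; norm_num
  have huniq : ∀ t ∈ zpowers g, t * t = 1 → t = 1 ∨ t = u := by
    intro t ht htt
    obtain ⟨n, hn, rfl⟩ := Finset.mem_image.1 (mem_zpowers_iff_mem_range_orderOf.1 ht)
    rw [Finset.mem_range, hg] at hn
    rw [← pow_add, ← orderOf_dvd_iff_pow_eq_one, hg] at htt
    rcases (show n = 0 ∨ n = 6 by omega) with rfl | rfl
    · exact Or.inl (pow_zero g)
    · exact Or.inr rfl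
  set H := centralizer ({u} : Set K) with hH
  have hgH : zpowers g ≤ H := zpowers_le.2
    (mem_centralizer_singleton_iff.2 (Commute.self_pow g 6).eq)
  have h12 : 12 ∣ Nat.card H := hg ▸ Subgroup.orderOf_dvd_natCard _ (hgH (mem_zpowers g))
  have hmul := H.index_mul_card
  rw [hK] at hmul
  have hcentral : ∀ k : K, k * u = u * k := by
    by_cases hidx : H.index = 1
    · exact fun k => mem_centralizer_singleton_iff.1 ((index_eq_one.1 hidx).ge (mem_top k))
    have h36 : Nat.card H = 12 ∧ H.index = 3 := by
      obtain ⟨t, ht⟩ := h12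
      rw [ht] at hmul ⊢
      have hle : H.index ≤ 3 := by
        rw [← card_isConj_eq_index, Nat.card_eq_fintype_card, Fintype.card_subtype, ← h3]
        refine Finset.card_le_card fun k hk => ?_
        rw [Finset.mem_filter] at hk ⊢
        exact ⟨hk.1, by obtain ⟨c, hc⟩ := isConj_iff.1 hk.2; rw [← hc, ← hu2]; exact
          (MulEquiv.orderOf_eq (MulAut.conj c) u)⟩
      have : H.index ≠ 0 := index_ne_zero_of_finite
      have h2 : H.index = 2 ∨ H.index = 3 := by omega
      rcases h2 with h | h <;> rw [h] at hmul ⊢ <;> omega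
    have hHeq : zpowers g = H :=
      Subgroup.eq_of_le_of_card_ge hgH (by rw [Nat.card_zpowers, hg, h36.1])
    set N := H.normalCore with hN
    have hN6 : N.index ∣ 6 := by
      have h1 : N.index ∣ H.index.factorial := by
        rw [hN, normalCore_eq_ker, index_ker]
        have h := card_subgroup_dvd_card (MulAction.toPermHom K (K ⧸ H)).range
        rwa [Nat.card_perm, ← index_eq_card] at h
      rw [h36.2] at h1
      exact h1
    have hN2 : 2 ∣ Nat.card N := by
      have h1 := N.index_mul_card
      rw [hK] at h1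
      obtain ⟨t, ht⟩ := hN6
      have h6 : 6 * Nat.card N = 36 * t := by rw [ht, ← h1]; ring
      omega
    obtain ⟨⟨v, hv⟩, hvo⟩ := exists_prime_orderOf_dvd_card' (G := N) 2 hN2
    rw [Subgroup.orderOf_mk] at hvo
    have huN : u ∈ N := by
      rcases huniq v (hHeq ▸ H.normalCore_le hv)
        (by rw [← pow_two, ← hvo, pow_orderOf_eq_one]) with h | h
      · rw [h, orderOf_one] at hvo; omega
      · exact h ▸ hv
    intro k
    have hk : k * u * k⁻¹ ∈ N := (inferInstance : N.Normal).conj_mem u huN k
    rcases huniq _ (hHeq ▸ H.normalCore_le hk) (by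
      rw [show k * u * k⁻¹ * (k * u * k⁻¹) = k * (u * u) * k⁻¹ by group,
        show u * u = 1 by rw [← pow_two, ← hu2, pow_orderOf_eq_one], mul_one, mul_inv_cancel])
      with h | h
    · rw [conj_eq_one_iff] at h
      rw [h, orderOf_one] at hu2
      omega
    · exact mul_inv_eq_iff_eq_mul.1 h
  -- all involutions lie in conjugates of the cyclic group of order four
  obtain ⟨W, hW⟩ := (IsPGroup.of_card (p := 2) (n := 2)
    (by rw [Nat.card_zpowers, orderOf_pow' g (by norm_num : (3 : ℕ) ≠ 0), hg]; norm_num) :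
    IsPGroup 2 (zpowers (g ^ 3))).exists_le_sylow
  have hWc : Nat.card (W : Subgroup K) = 4 :=
    (Small.card_sylow_of_card_eq (k := 2) (m := 9) (by rw [hK]; norm_num) (by norm_num) W).trans
      (by norm_num)
  have hWeq : zpowers (g ^ 3) = (W : Subgroup K) := Subgroup.eq_of_le_of_card_ge hW (by
    rw [hWc, Nat.card_zpowers, orderOf_pow' g (by norm_num : (3 : ℕ) ≠ 0), hg]; norm_num)
  have hall : ∀ t : K, orderOf t = 2 → t = u := by
    intro t ht
    obtain ⟨Q, hQ⟩ := (IsPGroup.of_card (p := 2) (n := 1)
      (by rw [Nat.card_zpowers, ht, pow_one]) : IsPGroup 2 (zpowers t)).exists_le_sylow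
    obtain ⟨c, hc⟩ := MulAction.exists_smul_eq K Q W
    have hm : c * t * c⁻¹ ∈ (W : Subgroup K) := by
      rw [← hc, Sylow.coe_subgroup_smul]
      exact smul_mem_pointwise_smul t (MulAut.conj c) _ (hQ (mem_zpowers t))
    rw [← hWeq] at hm
    rcases huniq _ (zpowers_le.2 (pow_mem (mem_zpowers g) 3) hm) (by
      rw [show c * t * c⁻¹ * (c * t * c⁻¹) = c * (t * t) * c⁻¹ by group,
        show t * t = 1 by rw [← pow_two, ← ht, pow_orderOf_eq_one], mul_one, mul_inv_cancel])
      with h | h
    · rw [conj_eq_one_iff] at h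
      rw [h, orderOf_one] at ht
      omega
    · rw [mul_inv_eq_iff_eq_mul, ← hcentral] at h
      exact mul_left_cancel h
  have : (Finset.univ.filter fun k : K => orderOf k = 2).card ≤ 1 :=
    Finset.card_le_one.2 fun a ha b hb =>
      (hall a (Finset.mem_filter.1 ha).2).trans (hall b (Finset.mem_filter.1 hb).2).symm
  omega

section

variable {G : Type u} [Group G] [Fintype G]

/-- The number of involutions commuting with `x`. -/
def invCent (x : G) : ℕ :=
  (Finset.univ.filter fun z : G => orderOf z = 2 ∧ Commute z x).card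

theorem invCent_eq (x : G) : invCent x =
    (Finset.univ.filter fun k : centralizer ({x} : Set G) => orderOf k = 2).card := by
  refine (Finset.card_bij (fun (k : centralizer ({x} : Set G)) _ => (k : G)) ?_
    (fun _ _ _ _ h => Subtype.ext h) ?_).symm
  · intro k hk
    rw [Finset.mem_filter] at hk ⊢
    exact ⟨Finset.mem_univ _, by rw [Subgroup.orderOf_coe]; exact hk.2,
      mem_centralizer_singleton_iff.1 k.2⟩
  · intro z hz
    rw [Finset.mem_filter] at hz
    exact ⟨⟨z, mem_centralizer_singleton_iff.2 hz.2.2.eq⟩,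
      Finset.mem_filter.2 ⟨Finset.mem_univ _, by rw [Subgroup.orderOf_mk]; exact hz.2.1⟩, rfl⟩

theorem cnt_eq_card (n : ℕ) :
    cntOrd G n = (Finset.univ.filter fun g : G => orderOf g = n).card := by
  rw [cntOrd, Nat.card_eq_fintype_card, Fintype.card_subtype]

/-- Each element of order three commutes with three involutions. -/
theorem invCent_three (h : TableLocal G) {x : G} (hx : orderOf x = 3) : invCent x = 3 := by
  haveI := Fact.mk Nat.prime_two
  haveI := Fact.mk Nat.prime_three
  set S₂ := Finset.univ.filter fun g : G => orderOf g = 2 with hS₂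
  set S₃ := Finset.univ.filter fun g : G => orderOf g = 3 with hS₃
  have hconj : ∀ a b : G, IsConj a b → invCent a = invCent b := by
    intro a b hab
    obtain ⟨c, rfl⟩ := isConj_iff.1 hab
    refine Finset.card_equiv (MulAut.conj c).toEquiv fun z => ?_
    simp only [Finset.mem_filter, Finset.mem_univ, true_and, MulEquiv.toEquiv_eq_coe,
      EquivLike.coe_coe, MulEquiv.orderOf_eq]
    refine and_congr_right fun _ => ⟨fun hz => hz.map (MulAut.conj c), fun hz => ?_⟩
    have := hz.map (MulAut.conj c).symm
    rwa [MulEquiv.symm_apply_apply, show (MulAut.conj c).symm (c * a * c⁻¹) = a from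
      (MulAut.conj c).symm_apply_apply a] at this
  have hI : ∀ y ∈ S₃, invCent y = invCent x := fun y hy =>
    (hconj x y (h.conj_three hx (Finset.mem_filter.1 hy).2)).symm
  let t : G → ℕ := fun z => (S₃.filter fun y => Commute z y).card
  obtain ⟨z₀, hz₀⟩ := exists_prime_orderOf_dvd_card' (G := G) 2 (by rw [h.small.card]; norm_num)
  have ht : ∀ z ∈ S₂, t z = t z₀ := by
    intro z hz
    obtain ⟨c, rfl⟩ := isConj_iff.1 (h.conj_two hz₀ (Finset.mem_filter.1 hz).2)
    refine (Finset.card_equiv (MulAut.conj c).toEquiv fun y => ?_).symm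
    simp only [hS₃, Finset.mem_filter, Finset.mem_univ, true_and, MulEquiv.toEquiv_eq_coe,
      EquivLike.coe_coe, MulEquiv.orderOf_eq]
    refine and_congr_right fun _ => ⟨fun hz => hz.map (MulAut.conj c), fun hz => ?_⟩
    have := hz.map (MulAut.conj c).symm
    rwa [MulEquiv.symm_apply_apply, show (MulAut.conj c).symm (c * z₀ * c⁻¹) = z₀ from
      (MulAut.conj c).symm_apply_apply z₀] at this
  have hcount : 12320 * invCent x = 1155 * t z₀ := by
    have h1 : ∑ y ∈ S₃, invCent y = ∑ z ∈ S₂, t z := by
      have e1 : ∀ y, invCent y = ∑ z ∈ S₂, if Commute z y then 1 else 0 := fun y => by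
        rw [← Finset.card_filter, invCent, hS₂, Finset.filter_filter]
      have e2 : ∀ z, t z = ∑ y ∈ S₃, if Commute z y then 1 else 0 := fun z => Finset.card_filter _ _
      simp only [e1, e2]
      exact Finset.sum_comm
    rw [Finset.sum_congr rfl hI, Finset.sum_congr rfl ht, Finset.sum_const, Finset.sum_const,
      smul_eq_mul, smul_eq_mul, hS₂, hS₃, ← cnt_eq_card, ← cnt_eq_card, h.cnt_two, h.cnt_three] at h1
    exact h1
  have hpos : 1 ≤ t z₀ := by
    obtain ⟨⟨y, hy⟩, hyo⟩ := exists_prime_orderOf_dvd_card' (G := centralizer ({z₀} : Set G)) 3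
      (by rw [h.centralizer_two hz₀]; norm_num)
    rw [Subgroup.orderOf_mk] at hyo
    exact Finset.card_pos.2 ⟨y, Finset.mem_filter.2 ⟨Finset.mem_filter.2 ⟨Finset.mem_univ _, hyo⟩,
      (mem_centralizer_singleton_iff.1 hy).symm⟩⟩
  have hK := h.centralizer_three hx
  have hxK : x ∈ centralizer ({x} : Set G) := mem_centralizer_singleton_iff.2 rfl
  have hne9 := card_involutions_ne_nine hK (x := ⟨x, hxK⟩) (by rw [Subgroup.orderOf_mk, hx])
    fun k => Subtype.ext (mem_centralizer_singleton_iff.1 k.2)
  rw [← invCent_eq] at hne9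
  have hodd : invCent x % 2 = 1 := by
    have h4 : 2 ∣ (Finset.univ.filter fun k : centralizer ({x} : Set G) => k ^ 2 = 1).card := by
      have := OrderCount.dvd_card_pow_eq_one (G := centralizer ({x} : Set G)) (m := 2)
        (by rw [hK]; norm_num)
      rwa [Nat.card_eq_fintype_card, Fintype.card_subtype] at this
    have h5 : (Finset.univ.filter fun k : centralizer ({x} : Set G) => k ^ 2 = 1) =
        insert 1 (Finset.univ.filter fun k : centralizer ({x} : Set G) => orderOf k = 2) := by
      ext k
      simp only [Finset.mem_filter, Finset.mem_univ, true_and, Finset.mem_insert]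
      refine ⟨fun h => ?_, fun h => ?_⟩
      · rcases (Nat.dvd_prime Nat.prime_two).1 (orderOf_dvd_of_pow_eq_one h) with h' | h'
        · exact Or.inl (orderOf_eq_one_iff.1 h')
        · exact Or.inr h'
      · rcases h with rfl | h
        · exact one_pow 2
        · rw [← h, pow_orderOf_eq_one]
    rw [h5, Finset.card_insert_of_notMem (by simp), ← invCent_eq] at h4
    omega
  have hle : invCent x * 3 ≤ 36 := by
    rw [invCent_eq, ← hK, Nat.card_eq_fintype_card]
    set K := centralizer ({x} : Set G)
    set x' : K := ⟨x, hxK⟩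
    refine le_of_eq_of_le (by rw [Finset.card_product, Finset.card_range])
      (Finset.card_le_card_of_injOn (fun t : K × ℕ => t.1 * x' ^ t.2)
        (s := (Finset.univ.filter fun k : K => orderOf k = 2) ×ˢ Finset.range 3)
        (fun _ _ => Finset.mem_coe.2 (Finset.mem_univ _)) ?_)
    rintro ⟨a, i⟩ ha ⟨b, j⟩ hb hab
    simp only [Finset.coe_product, Set.mem_prod, Finset.mem_coe, Finset.mem_range,
      Finset.mem_filter, Finset.mem_univ, true_and] at ha hb hab
    have hx' : orderOf x' = 3 := by rw [Subgroup.orderOf_mk, hx]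
    have hpow : ∀ (k : K) (n : ℕ), orderOf k = 2 → (k * x' ^ n) ^ 3 = k := fun k n hk => by
      rw [((show Commute k x' from Subtype.ext (mem_centralizer_singleton_iff.1 k.2)).pow_right
        n).mul_pow, ← pow_mul, mul_comm n 3, pow_mul, ← hx', pow_orderOf_eq_one, one_pow, mul_one,
        hx', pow_succ, ← hk, pow_orderOf_eq_one, one_mul]
    have h3 : (a * x' ^ i) ^ 3 = (b * x' ^ j) ^ 3 := by rw [hab]
    rw [hpow a i ha.1, hpow b j hb.1] at h3
    subst h3
    have h4 := mul_left_cancel hab
    rw [pow_eq_pow_iff_modEq, hx'] at h4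
    exact Prod.ext rfl (Nat.ModEq.eq_of_lt_of_lt h4 ha.2 hb.2)
  omega

theorem cnt_six (h : TableLocal G) : cntOrd G 6 = 36960 := by
  rw [cnt_eq_card, Finset.card_eq_sum_card_fiberwise
    (t := Finset.univ.filter fun x : G => orderOf x = 3) (f := fun g => g ^ 4) (fun g hg => by
      simp only [Finset.mem_filter, Finset.mem_univ, true_and, Finset.mem_coe] at hg ⊢
      rw [orderOf_pow' g (by norm_num), hg]; norm_num)]
  have hfib : ∀ x ∈ Finset.univ.filter (fun x : G => orderOf x = 3),
      ((Finset.univ.filter fun g : G => orderOf g = 6).filter fun g => g ^ 4 = x).card = 3 := by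
    intro x hx
    rw [Finset.mem_filter] at hx
    rw [← invCent_three h hx.2]
    refine Finset.card_bij (fun g _ => g ^ 3) ?_ ?_ ?_
    · intro g hg
      simp only [Finset.mem_filter, Finset.mem_univ, true_and] at hg ⊢
      refine ⟨by rw [orderOf_pow' g (by norm_num), hg.1]; norm_num, ?_⟩
      rw [← hg.2]; exact Commute.pow_pow (Commute.refl g) 3 4
    · intro g hg g' hg' he
      simp only [Finset.mem_filter, Finset.mem_univ, true_and] at hg hg'
      have e : ∀ a : G, orderOf a = 6 → a = a ^ 3 * a ^ 4 := fun a ha => by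
        rw [← pow_add, show 3 + 4 = 6 + 1 by norm_num, pow_succ, ← ha, pow_orderOf_eq_one, one_mul]
      rw [e g hg.1, e g' hg'.1, hg.2, hg'.2, he]
    · intro z hz
      simp only [Finset.mem_filter, Finset.mem_univ, true_and] at hz
      have hz2 : z ^ 2 = 1 := hz.1 ▸ pow_orderOf_eq_one z
      have hx3 : x ^ 3 = 1 := hx.2 ▸ pow_orderOf_eq_one x
      refine ⟨z * x, ?_, ?_⟩
      · simp only [Finset.mem_filter, Finset.mem_univ, true_and]
        refine ⟨?_, ?_⟩
        · rw [hz.2.orderOf_mul_eq_mul_orderOf_of_coprime (by rw [hz.1, hx.2]; norm_num), hz.1, hx.2]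
        · rw [hz.2.mul_pow, show z ^ 4 = (z ^ 2) ^ 2 from pow_mul z 2 2, hz2, one_pow, one_mul,
            pow_succ, hx3, one_mul]
      · rw [hz.2.mul_pow, hx3, mul_one, pow_succ, hz2, one_mul]
  rw [Finset.sum_congr rfl hfib, Finset.sum_const, smul_eq_mul, ← cnt_eq_card, h.cnt_three]

theorem eq_of_dvd_orderOf {q : ℕ} (hq : q.Prime)
    (hc : ∀ {y : G}, orderOf y = q → Nat.card (centralizer ({y} : Set G)) = q) {g : G}
    (hd : q ∣ orderOf g) : orderOf g = q := by
  have hy : orderOf (g ^ (orderOf g / q)) = q := orderOf_pow_orderOf_div (orderOf_pos g).ne' hd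
  have h := Subgroup.orderOf_dvd_natCard (centralizer ({g ^ (orderOf g / q)} : Set G)) (x := g)
    (mem_centralizer_singleton_iff.2 (Commute.self_pow g _).eq)
  rw [hc hy] at h
  exact ((Nat.dvd_prime hq).1 h).resolve_left fun e => by rw [e] at hd; exact hq.not_dvd_one hd

theorem no_twelve (h : TableLocal G) (g : G) : orderOf g ≠ 12 := by
  intro hg
  have hx : orderOf (g ^ 4) = 3 := by rw [orderOf_pow' g (by norm_num), hg]; norm_num
  have h3 := invCent_three h hx
  rw [invCent_eq] at h3
  exact card_involutions_ne_three (h.centralizer_three hx)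
    (g := ⟨g, mem_centralizer_singleton_iff.2 (Commute.self_pow g 4).eq⟩)
    (by rw [Subgroup.orderOf_mk, hg]) h3

theorem orderOf_mem_local (h : TableLocal G) (g : G) :
    orderOf g ∈ ({1, 2, 3, 4, 5, 6, 7, 8, 11, 16, 32, 64, 128} : Finset ℕ) := by
  have hd : orderOf g ∣ 443520 := h.small.card ▸ orderOf_dvd_natCard g
  by_cases h5 : 5 ∣ orderOf g
  · rw [eq_of_dvd_orderOf (by norm_num) h.small.centralizer_five h5]; decide
  by_cases h7 : 7 ∣ orderOf g
  · rw [eq_of_dvd_orderOf (by norm_num) h.small.centralizer_seven h7]; decide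
  by_cases h11 : 11 ∣ orderOf g
  · rw [eq_of_dvd_orderOf (by norm_num) h.small.centralizer_eleven h11]; decide
  have h1152 : orderOf g ∣ 1152 := by
    rw [show (443520 : ℕ) = 1152 * (5 * (7 * 11)) from rfl] at hd
    refine Nat.Coprime.dvd_of_dvd_mul_right ?_ hd
    exact Nat.Coprime.mul_right ((((by norm_num : Nat.Prime 5).coprime_iff_not_dvd).2 h5).symm)
      (Nat.Coprime.mul_right ((((by norm_num : Nat.Prime 7).coprime_iff_not_dvd).2 h7).symm)
        ((((by norm_num : Nat.Prime 11).coprime_iff_not_dvd).2 h11).symm))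
  have h9 : ¬ 9 ∣ orderOf g := fun hd9 =>
    h.no_nine (g ^ (orderOf g / 9)) (orderOf_pow_orderOf_div (orderOf_pos g).ne' hd9)
  have h12 : ¬ 12 ∣ orderOf g := fun hd12 =>
    no_twelve h (g ^ (orderOf g / 12)) (orderOf_pow_orderOf_div (orderOf_pos g).ne' hd12)
  have key : ∀ o ∈ Nat.divisors 1152, ¬ 9 ∣ o → ¬ 12 ∣ o →
      o ∈ ({1, 2, 3, 4, 5, 6, 7, 8, 11, 16, 32, 64, 128} : Finset ℕ) := by decide +kernel
  exact key _ (Nat.mem_divisors.2 ⟨h1152, by norm_num⟩) h9 h12

theorem exists_eight_local (T : Table G) (h : TableLocal G) : ∃ g : G, orderOf g = 8 := by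
  haveI := T.small.isSimple
  by_contra hno
  push Not at hno
  have hc : ∀ q : ℕ, q.Prime → q ∣ 443520 → ¬ q * q ∣ 443520 → ∀ n : ℕ,
      (∀ y : G, orderOf y = q →
        Nat.card (normalizer ((zpowers y : Subgroup G) : Set G)) = n) →
      cntOrd G q * n = 443520 * (q - 1) := by
    intro q hq hd hd2 n hn
    haveI := Fact.mk hq
    obtain ⟨y, hy⟩ := exists_prime_orderOf_dvd_card' (G := G) q (by rw [h.small.card]; exact hd)
    have e1 := NseRoute.card_normalizer_zpowers hq (h.small.card.symm ▸ hd2) hy
    rw [hn y hy, h.small.card] at e1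
    rw [cntOrd_prime_eq (card_sylow_eq_prime (G := G) (h.small.card.symm ▸ hd)
      (h.small.card.symm ▸ hd2)), mul_right_comm, e1]
  have c5 := hc 5 (by norm_num) (by norm_num) (by norm_num) 20
    fun y hy => h.small.normalizer_five hy
  have c7 := hc 7 (by norm_num) (by norm_num) (by norm_num) 21
    fun y hy => h.small.normalizer_seven hy
  have c11 := hc 11 (by norm_num) (by norm_num) (by norm_num) 55
    fun y hy => h.small.normalizer_eleven hy
  have hD : ∀ g : G, orderOf g ∈ ({1, 2, 3, 4, 5, 6, 7, 11} : Finset ℕ) := by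
    intro g
    have key : ∀ o ∈ ({1, 2, 3, 4, 5, 6, 7, 8, 11, 16, 32, 64, 128} : Finset ℕ), ¬ 8 ∣ o →
        o ∈ ({1, 2, 3, 4, 5, 6, 7, 11} : Finset ℕ) := by decide +kernel
    exact key _ (orderOf_mem_local h g) fun h8 =>
      hno _ (orderOf_pow_orderOf_div (orderOf_pos g).ne' h8)
  have htot := card_eq_sum (G := G) hD
  rw [h.small.card] at htot
  simp [Finset.sum_insert, cntOrd_one, h.cnt_two, h.cnt_three, cnt_six h] at htot
  have h4 : cntOrd G 4 = 97020 := by omega
  -- square roots of an involution
  obtain ⟨z₀, hz₀⟩ : ∃ z : G, orderOf z = 2 := by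
    haveI := Fact.mk Nat.prime_two
    exact exists_prime_orderOf_dvd_card' (G := G) 2 (by rw [h.small.card]; norm_num)
  let r : G → ℕ := fun z => (Finset.univ.filter fun s : G => s * s = z).card
  have hr : ∀ z ∈ Finset.univ.filter (fun g : G => orderOf g = 2), r z = r z₀ := by
    intro z hz
    obtain ⟨c, rfl⟩ := isConj_iff.1 (h.conj_two hz₀ (Finset.mem_filter.1 hz).2)
    refine (Finset.card_equiv (MulAut.conj c).toEquiv fun s => ?_).symm
    simp only [Finset.mem_filter, Finset.mem_univ, true_and, MulEquiv.toEquiv_eq_coe,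
      EquivLike.coe_coe, ← map_mul, show c * z₀ * c⁻¹ = MulAut.conj c z₀ from rfl,
      (MulAut.conj c).injective.eq_iff]
  have hsum : cntOrd G 4 = ∑ z ∈ Finset.univ.filter (fun g : G => orderOf g = 2), r z := by
    rw [cnt_eq_card, Finset.card_eq_sum_card_fiberwise
      (t := Finset.univ.filter fun g : G => orderOf g = 2) (f := fun s : G => s * s) (fun s hs => by
        simp only [Finset.mem_filter, Finset.mem_univ, true_and, Finset.mem_coe] at hs ⊢
        rw [← pow_two, orderOf_pow' s (by norm_num), hs]; norm_num)]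
    refine Finset.sum_congr rfl fun z hz => congrArg Finset.card ?_
    rw [Finset.mem_filter] at hz
    ext s
    simp only [Finset.mem_filter, Finset.mem_univ, true_and]
    refine ⟨fun hs => hs.2, fun hs => ⟨?_, hs⟩⟩
    have h1 : orderOf (s ^ 2) = 2 := by rw [pow_two, hs]; exact hz.2
    rw [orderOf_pow' s (by norm_num)] at h1
    have h2 := Nat.gcd_dvd_left (orderOf s) 2
    rcases (Nat.dvd_prime Nat.prime_two).1 (Nat.gcd_dvd_right (orderOf s) 2) with e | e <;>
      rw [e] at h1
    · rw [Nat.div_one] at h1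
      rw [h1] at e
      norm_num at e
    · rw [e] at h2
      omega
  rw [h4, Finset.sum_congr rfl hr, Finset.sum_const, smul_eq_mul, ← cnt_eq_card, h.cnt_two] at hsum
  have hr84 : r z₀ = 84 := by omega
  -- Frobenius and Schur
  have hexp := BrauerArtin.sqrtCount_expand z₀
  rw [← (Equiv.ofBijective T.chi T.bijective).sum_comp] at hexp
  simp only [Equiv.ofBijective_apply, T.column_two z₀ hz₀] at hexp
  choose k hk hk1 hk2 using fun i => BrauerArtin.exists_fs_int (T.chi i)
  simp only [hk] at hexp
  have hexp' : (r z₀ : ℤ) = ∑ i, k i * invColumn i := by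
    apply Int.cast_injective (α := ℂ)
    push_cast
    rw [← hexp, BrauerArtin.sqrtCount]
  have hbound : ∑ i, k i * invColumn i ≤ ∑ i, |invColumn i| := by
    refine Finset.sum_le_sum fun i _ => (le_abs_self _).trans ?_
    rw [abs_mul]
    exact mul_le_of_le_one_left (abs_nonneg _) (abs_le.2 ⟨hk1 i, hk2 i⟩)
  rw [show ∑ i, |invColumn i| = 58 by decide, ← hexp', hr84] at hbound
  norm_num at hbound

/-- The table and the two classes give the local data. -/
theorem toLocal (T : Table G) (h : TableLocal G) : NseRoute.Local G where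
  card := h.small.card
  cnt_two := h.cnt_two
  cnt_three := h.cnt_three
  cnt_six := cnt_six h
  centralizer_five := fun hy => h.small.centralizer_five hy
  centralizer_seven := fun hy => h.small.centralizer_seven hy
  centralizer_eleven := fun hy => h.small.centralizer_eleven hy
  normalizer_five := fun hy => h.small.normalizer_five hy
  orderOf_mem := orderOf_mem_local h
  exists_eight := exists_eight_local T h
  isSimple := h.small.isSimple

end

end CfsgLib.MathieuTwentyTwo.ByOrder
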